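import Mathlib
set_option linter.all false

/-! Basic facts on `SL_2`, `PSL_2`, `PGL_2` over finite fields: orders, centre, Cayley-Hamilton, and the embedding
`PSL_n(K) → PSL_n(F)` for a field embedding `K → F`. -/

set_option autoImplicit false

namespace Cfsg.Agent.ClassicalGeometry.PSL2Basic

open Matrix Subgroup

/-! ### Orders -/

section card

variable (n : Type*) [Fintype n] [DecidableEq n] (F : Type*) [Field F]

theorem range_toGL : (Matrix.SpecialLinearGroup.toGL : Matrix.SpecialLinearGroup n F →* GL n F).range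
    = (GeneralLinearGroup.det : GL n F →* Fˣ).ker := by
  ext g
  constructor
  · rintro ⟨h, rfl⟩
    exact Matrix.SpecialLinearGroup.coeToGL_det h
  · intro hg
    have h1 : (g : Matrix n n F).det = 1 := by
      have := congrArg (Units.val) (MonoidHom.mem_ker.1 hg)
      simpa using this
    exact ⟨⟨g, h1⟩, Units.ext rfl⟩

variable [Fintype F] [Nonempty n]

theorem card_SL_mul : Nat.card (Matrix.SpecialLinearGroup n F) * (Fintype.card F - 1) = Nat.card (GL n F) := by
  classical
  have h1 : Nat.card (Matrix.SpecialLinearGroup n F) = Nat.card (GeneralLinearGroup.det : GL n F →* Fˣ).ker := by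
    rw [← range_toGL]
    exact Nat.card_congr (MonoidHom.ofInjective Matrix.SpecialLinearGroup.toGL_injective).toEquiv
  have h2 : Nat.card (GL n F ⧸ (GeneralLinearGroup.det : GL n F →* Fˣ).ker) = Fintype.card F - 1 := by
    rw [Nat.card_congr (QuotientGroup.quotientKerEquivOfSurjective _ GeneralLinearGroup.det_surjective).toEquiv,
      Nat.card_eq_fintype_card, Fintype.card_units]
  rw [h1, ← h2, mul_comm]
  exact (Subgroup.card_eq_card_quotient_mul_card_subgroup _).symm

theorem card_PGL_mul : Nat.card (ProjGenLinGroup n F) * (Fintype.card F - 1) = Nat.card (GL n F) := by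
  classical
  have h2 : Nat.card (center (GL n F)) = Fintype.card F - 1 := by
    have hinj : Function.Injective (GeneralLinearGroup.scalar n : Fˣ →* GL n F) := by
      intro x y hxy
      have i : n := Classical.arbitrary n
      have h := congrFun (congrFun (congrArg (fun g : GL n F => (g : Matrix n n F)) hxy) i) i
      simp only [GeneralLinearGroup.coe_scalar, scalar_apply, diagonal_apply_eq] at h
      exact Units.ext h
    rw [GeneralLinearGroup.center_eq_range_scalar,
      ← Nat.card_congr (MonoidHom.ofInjective hinj).toEquiv, Nat.card_eq_fintype_card, Fintype.card_units]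
  rw [← h2]
  exact (Subgroup.card_eq_card_quotient_mul_card_subgroup _).symm

theorem card_PGL_eq_card_SL : Nat.card (ProjGenLinGroup n F) = Nat.card (Matrix.SpecialLinearGroup n F) := by
  have h : 0 < Fintype.card F - 1 := by
    have := Fintype.one_lt_card (α := F); omega
  have := (card_PGL_mul n F).trans (card_SL_mul n F).symm
  exact Nat.eq_of_mul_eq_mul_right h this

end card

variable (F : Type*) [Field F]

theorem card_GL2 [Fintype F] : Nat.card (GL (Fin 2) F) =
    (Fintype.card F ^ 2 - 1) * (Fintype.card F ^ 2 - Fintype.card F) := by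
  rw [Matrix.card_GL_field, Fin.prod_univ_two]
  simp

theorem card_SL2 [Fintype F] : Nat.card (Matrix.SpecialLinearGroup (Fin 2) F) =
    Fintype.card F * (Fintype.card F ^ 2 - 1) := by
  have h := card_SL_mul (Fin 2) F
  rw [card_GL2] at h
  have hq : 1 < Fintype.card F := Fintype.one_lt_card
  have h0 : 0 < Fintype.card F - 1 := by omega
  apply Nat.eq_of_mul_eq_mul_right h0
  rw [h]
  have : Fintype.card F ^ 2 - Fintype.card F = Fintype.card F * (Fintype.card F - 1) := by
    rw [Nat.mul_sub, mul_one, pow_two]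
  rw [this]; ring

theorem card_PGL2 [Fintype F] : Nat.card (ProjGenLinGroup (Fin 2) F) =
    Fintype.card F * (Fintype.card F ^ 2 - 1) := by
  rw [card_PGL_eq_card_SL, card_SL2]

/-! ### The centre of `SL_2` -/

theorem neg_one_ext {F : Type*} [Field F] : scalar (Fin 2) (-1 : F) = ((-1 : Matrix.SpecialLinearGroup (Fin 2) F) : Matrix _ _ F) := by
  rw [Matrix.SpecialLinearGroup.coe_neg, Matrix.SpecialLinearGroup.coe_one]
  ext i j
  fin_cases i <;> fin_cases j <;> simp

theorem mem_center_SL2_iff {F : Type*} [Field F] {A : Matrix.SpecialLinearGroup (Fin 2) F} :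
    A ∈ center (Matrix.SpecialLinearGroup (Fin 2) F) ↔ A = 1 ∨ A = -1 := by
  rw [Matrix.SpecialLinearGroup.mem_center_iff]
  constructor
  · rintro ⟨r, hr, h⟩
    rw [Fintype.card_fin] at hr
    have hr' : (r - 1) * (r + 1) = 0 := by linear_combination hr
    rcases mul_eq_zero.1 hr' with h1 | h1
    · left
      have : r = 1 := by linear_combination h1
      subst this
      apply Subtype.ext
      rw [← h]; simp
    · right
      have : r = -1 := by linear_combination h1
      subst this
      apply Subtype.ext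
      rw [← h, neg_one_ext]
  · rintro (rfl | rfl)
    · exact ⟨1, by simp, by simp⟩
    · exact ⟨-1, by simp, neg_one_ext⟩

theorem neg_one_ne_one_SL2 {F : Type*} [Field F] (h2 : (2 : F) ≠ 0) :
    (-1 : Matrix.SpecialLinearGroup (Fin 2) F) ≠ 1 := by
  intro h
  apply h2
  have h' := congrFun (congrFun (congrArg (fun g : Matrix.SpecialLinearGroup (Fin 2) F => (g : Matrix (Fin 2) (Fin 2) F)) h) 0) 0
  simp only [Matrix.SpecialLinearGroup.coe_neg, Matrix.SpecialLinearGroup.coe_one, Matrix.neg_apply,
    Matrix.one_apply_eq] at h'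
  linear_combination -h'

theorem neg_one_eq_one_SL2 {F : Type*} [Field F] (h2 : (2 : F) = 0) :
    (-1 : Matrix.SpecialLinearGroup (Fin 2) F) = 1 := by
  apply Subtype.ext
  rw [Matrix.SpecialLinearGroup.coe_neg, Matrix.SpecialLinearGroup.coe_one]
  ext i j
  have h3 : (-1 : F) = 1 := by linear_combination -h2
  fin_cases i <;> fin_cases j <;> simp [h3]

theorem card_center_SL2_odd {F : Type*} [Field F] (h2 : (2 : F) ≠ 0) :
    Nat.card (center (Matrix.SpecialLinearGroup (Fin 2) F)) = 2 := by
  have : ((center (Matrix.SpecialLinearGroup (Fin 2) F) : Subgroup _) : Set (Matrix.SpecialLinearGroup (Fin 2) F)) = {1, -1} := by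
    ext A; exact mem_center_SL2_iff
  have h := Set.ncard_pair (neg_one_ne_one_SL2 h2).symm
  rw [← this] at h
  rwa [← Nat.card_coe_set_eq] at h

theorem card_center_SL2_even {F : Type*} [Field F] (h2 : (2 : F) = 0) :
    Nat.card (center (Matrix.SpecialLinearGroup (Fin 2) F)) = 1 := by
  have : center (Matrix.SpecialLinearGroup (Fin 2) F) = ⊥ := by
    rw [eq_bot_iff]
    intro A hA
    rcases mem_center_SL2_iff.1 hA with rfl | rfl
    · exact one_mem _
    · rw [neg_one_eq_one_SL2 h2]; exact one_mem _
  rw [this, Subgroup.card_bot]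

theorem two_ne_zero_iff_odd [Fintype F] : (2 : F) ≠ 0 ↔ Odd (Fintype.card F) := by
  have h := FiniteField.even_card_iff_char_two (F := F)
  rw [← Nat.not_even_iff_odd, Nat.even_iff, ← h]
  constructor
  · intro h1 h2
    apply h1
    have : CharP F 2 := by rw [← h2]; exact ringChar.charP F
    exact CharTwo.two_eq_zero
  · intro h1 h2
    apply h1
    exact (CharP.ringChar_of_prime_eq_zero Nat.prime_two (by exact_mod_cast h2))

theorem card_PSL2_odd [Fintype F] (hodd : Odd (Fintype.card F)) :
    Nat.card (ProjectiveSpecialLinearGroup (Fin 2) F) * 2 = Fintype.card F * (Fintype.card F ^ 2 - 1) := by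
  have h := Subgroup.card_eq_card_quotient_mul_card_subgroup (center (Matrix.SpecialLinearGroup (Fin 2) F))
  rw [card_center_SL2_odd ((two_ne_zero_iff_odd F).2 hodd), card_SL2] at h
  exact h.symm

theorem card_PSL2_even [Fintype F] (heven : Even (Fintype.card F)) :
    Nat.card (ProjectiveSpecialLinearGroup (Fin 2) F) = Fintype.card F * (Fintype.card F ^ 2 - 1) := by
  have h2 : (2 : F) = 0 := by
    by_contra h
    exact (Nat.not_even_iff_odd.2 ((two_ne_zero_iff_odd F).1 h)) heven
  rw [← card_SL2, Subgroup.card_eq_card_quotient_mul_card_subgroup (center (Matrix.SpecialLinearGroup (Fin 2) F)),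
    card_center_SL2_even h2, mul_one]

theorem card_PSL2_gcd [Fintype F] :
    Nat.card (ProjectiveSpecialLinearGroup (Fin 2) F) * Nat.gcd 2 (Fintype.card F - 1) =
      Fintype.card F * (Fintype.card F ^ 2 - 1) := by
  rcases Nat.even_or_odd (Fintype.card F) with h | h
  · have h1 : Nat.gcd 2 (Fintype.card F - 1) = 1 := by
      have hq : 1 < Fintype.card F := Fintype.one_lt_card
      rw [Nat.coprime_iff_gcd_eq_one.symm, Nat.coprime_two_left]
      exact Nat.Even.sub_odd (by omega) h odd_one
    rw [h1, mul_one, card_PSL2_even F h]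
  · have h1 : Nat.gcd 2 (Fintype.card F - 1) = 2 := by
      apply Nat.gcd_eq_left
      exact (Nat.Odd.sub_odd h odd_one).two_dvd
    rw [h1, card_PSL2_odd F h]

theorem card_PSL2_div [Fintype F] :
    Nat.card (ProjectiveSpecialLinearGroup (Fin 2) F) =
      Fintype.card F * (Fintype.card F ^ 2 - 1) / Nat.gcd 2 (Fintype.card F - 1) := by
  rw [← card_PSL2_gcd, Nat.mul_div_cancel]
  exact Nat.gcd_pos_of_pos_left _ (by norm_num)

/-! ### Cayley-Hamilton -/

section ch

variable {R : Type*} [CommRing R]

theorem sl2_mul_self (A : Matrix.SpecialLinearGroup (Fin 2) R) :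
    (A : Matrix (Fin 2) (Fin 2) R) * A = (A : Matrix (Fin 2) (Fin 2) R).trace • (A : Matrix (Fin 2) (Fin 2) R) - 1 := by
  have hdet : (A : Matrix (Fin 2) (Fin 2) R) 0 0 * (A : Matrix (Fin 2) (Fin 2) R) 1 1 -
      (A : Matrix (Fin 2) (Fin 2) R) 0 1 * (A : Matrix (Fin 2) (Fin 2) R) 1 0 = 1 := by
    rw [← det_fin_two]; exact A.2
  ext i j
  rw [Matrix.mul_apply, Fin.sum_univ_two, Matrix.sub_apply, Matrix.smul_apply, trace_fin_two, smul_eq_mul]
  fin_cases i <;> fin_cases j
  · simp only [Fin.zero_eta, one_apply_eq]; linear_combination (-1 : R) * hdet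
  · simp only [Fin.zero_eta, Fin.mk_one, ne_eq, zero_ne_one, not_false_eq_true, one_apply_ne]; ring
  · simp only [Fin.zero_eta, Fin.mk_one, ne_eq, one_ne_zero, not_false_eq_true, one_apply_ne]; ring
  · simp only [Fin.mk_one, one_apply_eq]; linear_combination (-1 : R) * hdet

/-- If `tr A = 0` then `A ^ 2 = -1`. -/
theorem sl2_sq_of_trace_zero {A : Matrix.SpecialLinearGroup (Fin 2) R}
    (h : (A : Matrix (Fin 2) (Fin 2) R).trace = 0) : A ^ 2 = -1 := by
  apply Subtype.ext
  have := sl2_mul_self A
  rw [h, zero_smul, zero_sub] at this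
  rw [pow_two, Matrix.SpecialLinearGroup.coe_mul, this, Matrix.SpecialLinearGroup.coe_neg,
    Matrix.SpecialLinearGroup.coe_one]

/-- If `tr A = 1` then `A ^ 3 = -1`. -/
theorem sl2_cube_of_trace_one {A : Matrix.SpecialLinearGroup (Fin 2) R}
    (h : (A : Matrix (Fin 2) (Fin 2) R).trace = 1) : A ^ 3 = -1 := by
  apply Subtype.ext
  have h1 := sl2_mul_self A
  rw [h, one_smul] at h1
  rw [pow_succ, pow_two, Matrix.SpecialLinearGroup.coe_mul, Matrix.SpecialLinearGroup.coe_mul, h1,
    Matrix.SpecialLinearGroup.coe_neg, Matrix.SpecialLinearGroup.coe_one, Matrix.sub_mul, h1, one_mul]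
  abel

/-- If `tr A = -1` then `A ^ 3 = 1`. -/
theorem sl2_cube_of_trace_neg_one {A : Matrix.SpecialLinearGroup (Fin 2) R}
    (h : (A : Matrix (Fin 2) (Fin 2) R).trace = -1) : A ^ 3 = 1 := by
  apply Subtype.ext
  have h1 := sl2_mul_self A
  rw [h, neg_smul, one_smul] at h1
  rw [pow_succ, pow_two, Matrix.SpecialLinearGroup.coe_mul, Matrix.SpecialLinearGroup.coe_mul, h1,
    Matrix.SpecialLinearGroup.coe_one, Matrix.sub_mul, Matrix.neg_mul, h1, one_mul]
  abel

/-- If `t = tr A` satisfies `t ^ 2 = 2` then `A ^ 4 = -1`. -/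
theorem sl2_pow_four_of_trace {A : Matrix.SpecialLinearGroup (Fin 2) R}
    (h : (A : Matrix (Fin 2) (Fin 2) R).trace ^ 2 = 2) : A ^ 4 = -1 := by
  apply Subtype.ext
  have h1 := sl2_mul_self A
  set t := (A : Matrix (Fin 2) (Fin 2) R).trace with ht
  set M := (A : Matrix (Fin 2) (Fin 2) R) with hM
  have h2 : (A ^ 4 : Matrix.SpecialLinearGroup (Fin 2) R) = (A * A) * (A * A) := by
    simp only [pow_succ, pow_zero, one_mul, mul_assoc]
  rw [h2, Matrix.SpecialLinearGroup.coe_mul, Matrix.SpecialLinearGroup.coe_mul, ← hM, h1,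
    Matrix.SpecialLinearGroup.coe_neg, Matrix.SpecialLinearGroup.coe_one]
  have h3 : (t • M - 1) * (t • M - 1) = (t ^ 2) • (M * M) - (2 * t) • M + 1 := by
    rw [sub_mul, mul_sub, mul_sub, mul_one, one_mul, mul_one, smul_mul_smul_comm, ← pow_two, two_mul, add_smul]
    abel
  rw [h3, h1, h, smul_sub, smul_smul, sub_right_comm, sub_self, zero_sub]
  have : (2 : R) • (1 : Matrix (Fin 2) (Fin 2) R) = 1 + 1 := by rw [two_smul]
  rw [this]; abel

/-- If `t = tr A` satisfies `t ^ 2 = t + 1` then `A ^ 5 = -1`. -/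
theorem sl2_pow_five_of_trace {A : Matrix.SpecialLinearGroup (Fin 2) R}
    (h : (A : Matrix (Fin 2) (Fin 2) R).trace ^ 2 = (A : Matrix (Fin 2) (Fin 2) R).trace + 1) : A ^ 5 = -1 := by
  apply Subtype.ext
  have h1 := sl2_mul_self A
  set t := (A : Matrix (Fin 2) (Fin 2) R).trace with ht
  set M := (A : Matrix (Fin 2) (Fin 2) R) with hM
  have h2 : (A ^ 5 : Matrix.SpecialLinearGroup (Fin 2) R) = (A * A) * (A * A) * A := by
    simp only [pow_succ, pow_zero, one_mul, mul_assoc]
  rw [h2, Matrix.SpecialLinearGroup.coe_mul, Matrix.SpecialLinearGroup.coe_mul,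
    Matrix.SpecialLinearGroup.coe_mul, ← hM, h1,
    Matrix.SpecialLinearGroup.coe_neg, Matrix.SpecialLinearGroup.coe_one]
  have h3 : (t • M - 1) * (t • M - 1) = (t ^ 2) • (M * M) - (2 * t) • M + 1 := by
    rw [sub_mul, mul_sub, mul_sub, mul_one, one_mul, mul_one, smul_mul_smul_comm, ← pow_two, two_mul, add_smul]
    abel
  have h4 : (t • M - 1) * (t • M - 1) = M - t • 1 := by
    rw [h3, h1, h, smul_sub, smul_smul]
    have : (t + 1) * t = 2 * t + 1 := by linear_combination h
    rw [this, add_smul, add_smul, one_smul, one_smul]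
    abel
  rw [h4, sub_mul, h1, smul_mul_assoc, one_mul]
  abel

end ch

/-! ### Functoriality of `PSL_n` -/

section functor

variable {n : Type*} [Fintype n] [DecidableEq n] {K L : Type*} [Field K] [Field L] (f : K →+* L)

theorem map_injective_SL : Function.Injective (Matrix.SpecialLinearGroup.map (n := n) f) := by
  intro A B h
  apply Subtype.ext
  ext i j
  have := congrFun (congrFun (congrArg (fun g : Matrix.SpecialLinearGroup n L => (g : Matrix n n L)) h) i) j
  exact f.injective this

theorem map_mem_center_iff {A : Matrix.SpecialLinearGroup n K} :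
    Matrix.SpecialLinearGroup.map f A ∈ center (Matrix.SpecialLinearGroup n L) ↔
      A ∈ center (Matrix.SpecialLinearGroup n K) := by
  constructor
  · intro h
    rw [Subgroup.mem_center_iff] at h ⊢
    intro B
    apply map_injective_SL f
    rw [map_mul, map_mul]
    exact h _
  · rw [Matrix.SpecialLinearGroup.mem_center_iff, Matrix.SpecialLinearGroup.mem_center_iff]
    rintro ⟨r, hr, h⟩
    refine ⟨f r, by rw [← map_pow, hr, map_one], ?_⟩
    rw [Matrix.SpecialLinearGroup.map_apply_coe, ← h]
    ext i j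
    by_cases hij : i = j
    · subst hij; simp
    · simp [hij]

/-- The homomorphism `PSL_n(K) → PSL_n(L)` induced by a homomorphism of fields. -/
def pslMap : ProjectiveSpecialLinearGroup n K →* ProjectiveSpecialLinearGroup n L :=
  QuotientGroup.map _ _ (Matrix.SpecialLinearGroup.map f) (fun _ hA => (map_mem_center_iff f).2 hA)

theorem pslMap_mk (A : Matrix.SpecialLinearGroup n K) :
    pslMap f (QuotientGroup.mk A) = QuotientGroup.mk (Matrix.SpecialLinearGroup.map f A) := rfl

theorem pslMap_injective : Function.Injective (pslMap (n := n) f) := by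
  rw [injective_iff_map_eq_one]
  intro x
  induction x using QuotientGroup.induction_on with
  | H A =>
    intro h
    rw [pslMap_mk, QuotientGroup.eq_one_iff, map_mem_center_iff] at h
    exact (QuotientGroup.eq_one_iff A).2 h

end functor

/-! ### Field embeddings from cardinalities -/

theorem exists_ringHom_of_card_pow {K L : Type*} [Field K] [Fintype K] [Field L] [Fintype L] {m : ℕ}
    (h : Fintype.card K ^ m = Fintype.card L) : Nonempty (K →+* L) := by
  have hm : m ≠ 0 := by
    rintro rfl
    rw [pow_zero] at h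
    have := Fintype.one_lt_card (α := L)
    omega
  obtain ⟨p, hK⟩ := CharP.exists K
  have hp : Fact p.Prime := ⟨CharP.char_is_prime K p⟩
  obtain ⟨q, hL⟩ := CharP.exists L
  have hq : Fact q.Prime := ⟨CharP.char_is_prime L q⟩
  obtain ⟨a, hp', ha⟩ := FiniteField.card K p
  obtain ⟨b, hq', hb⟩ := FiniteField.card L q
  have hpq : p = q := by
    rw [ha, hb] at h
    have h1 : p ∣ q ^ (b : ℕ) := by
      rw [← h]
      exact dvd_pow (dvd_pow_self p a.pos.ne') hm
    exact (Nat.prime_dvd_prime_iff_eq hp' hq').1 (hp'.dvd_of_dvd_pow h1)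
  subst hpq
  let _ : Algebra (ZMod p) K := ZMod.algebra K p
  let _ : Algebra (ZMod p) L := ZMod.algebra L p
  have h1 := FiniteField.pow_finrank_eq_card p (k := K)
  have h2 := FiniteField.pow_finrank_eq_card p (k := L)
  rw [← h1, ← h2, ← pow_mul] at h
  have h3 := Nat.pow_right_injective hp'.two_le h
  obtain ⟨f⟩ := FiniteField.nonempty_algHom_of_finrank_dvd (F := ZMod p) (K := K) (L := L) ⟨m, h3.symm⟩
  exact ⟨f.toRingHom⟩

end Cfsg.Agent.ClassicalGeometry.PSL2Basic
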