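import Mathlib
set_option linter.all false

/-!
# Pairs of anticommuting matrices (quaternion pairs)

`IsPair A B` : `A² = B² = -1`, `A B = - B A` for 2×2 matrices over a field of characteristic ≠ 2.
`GL₂(F)` acts transitively on such pairs, with stabiliser the scalars.
-/

set_option autoImplicit false

namespace Cfsg.Agent.ClassicalGeometry.QuatPair

open Matrix

variable {F : Type*} [Field F]

/-- A pair of anticommuting square roots of `-1`. -/
structure IsPair (A B : Matrix (Fin 2) (Fin 2) F) : Prop where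
  sqA : A * A = -1
  sqB : B * B = -1
  anti : A * B = -(B * A)

namespace IsPair

variable {A B A' B' : Matrix (Fin 2) (Fin 2) F}

theorem symm (h : IsPair A B) : IsPair B A :=
  ⟨h.sqB, h.sqA, by rw [h.anti, neg_neg]⟩

theorem anti' (h : IsPair A B) : B * A = -(A * B) := by rw [h.anti, neg_neg]

theorem sqA' (h : IsPair A B) (X : Matrix (Fin 2) (Fin 2) F) : A * (A * X) = -X := by
  rw [← mul_assoc, h.sqA, neg_one_mul]

theorem sqB' (h : IsPair A B) (X : Matrix (Fin 2) (Fin 2) F) : B * (B * X) = -X := by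
  rw [← mul_assoc, h.sqB, neg_one_mul]

theorem anti'' (h : IsPair A B) (X : Matrix (Fin 2) (Fin 2) F) : B * (A * X) = -(A * (B * X)) := by
  rw [← mul_assoc, h.anti', neg_mul, mul_assoc]

/-- `(A, AB)` is again a pair. -/
theorem mul (h : IsPair A B) : IsPair A (A * B) := by
  refine ⟨h.sqA, ?_, ?_⟩
  · simp only [mul_assoc, h.anti'', h.sqB, mul_neg, mul_one, neg_neg]
    exact h.sqA
  · simp only [mul_assoc, h.anti', mul_neg, neg_neg]

theorem negA (h : IsPair A B) : IsPair (-A) B :=
  ⟨by rw [neg_mul_neg, h.sqA], h.sqB, by rw [neg_mul, h.anti, mul_neg]⟩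

theorem negB (h : IsPair A B) : IsPair A (-B) :=
  ⟨h.sqA, by rw [neg_mul_neg, h.sqB], by rw [mul_neg, h.anti, neg_mul]⟩

variable (h2 : (2 : F) ≠ 0)
include h2

theorem traceA (h : IsPair A B) : A.trace = 0 := by
  have h1 : (A * B * B).trace = -(A * B * B).trace := by
    conv_lhs => rw [h.anti, neg_mul, trace_neg, mul_assoc, trace_mul_comm]
  have h3 : (2 : F) * (A * B * B).trace = 0 := by linear_combination h1
  have h4 : (A * B * B).trace = 0 := by
    rcases mul_eq_zero.mp h3 with h | h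
    · exact absurd h h2
    · exact h
  rw [mul_assoc, h.sqB, mul_neg, mul_one, trace_neg, neg_eq_zero] at h4
  exact h4

theorem traceB (h : IsPair A B) : B.trace = 0 := h.symm.traceA h2

theorem traceAB (h : IsPair A B) : (A * B).trace = 0 := h.mul.traceB h2

end IsPair

/-- Trace zero and determinant one give square `-1`. -/
theorem sq_eq_neg_one {A : Matrix (Fin 2) (Fin 2) F} (ht : A.trace = 0) (hd : A.det = 1) :
    A * A = -1 := by
  rw [trace_fin_two] at ht
  rw [det_fin_two] at hd
  have h11 : A 1 1 = -A 0 0 := by linear_combination ht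
  rw [h11] at hd
  ext i j
  fin_cases i <;> fin_cases j <;>
    simp [Matrix.mul_apply, Fin.sum_univ_two, h11]
  · linear_combination (-1) * hd
  · ring
  · ring
  · linear_combination (-1) * hd

theorem det_of_sq {A : Matrix (Fin 2) (Fin 2) F} (ht : A.trace = 0) (hA : A * A = -1) :
    A.det = 1 := by
  rw [trace_fin_two] at ht
  have h11 : A 1 1 = -A 0 0 := by linear_combination ht
  have h00 := congrFun (congrFun hA 0) 0
  simp [Matrix.mul_apply, Fin.sum_univ_two] at h00
  rw [det_fin_two, h11]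
  linear_combination (-1) * h00

/-- Cayley–Hamilton polarised for trace zero matrices. -/
theorem mul_add_mul_swap {X Y : Matrix (Fin 2) (Fin 2) F} (hX : X.trace = 0) (hY : Y.trace = 0) :
    X * Y + Y * X = (X * Y).trace • (1 : Matrix (Fin 2) (Fin 2) F) := by
  rw [trace_fin_two] at hX hY
  have hx : X 1 1 = -X 0 0 := by linear_combination hX
  have hy : Y 1 1 = -Y 0 0 := by linear_combination hY
  ext i j
  fin_cases i <;> fin_cases j <;>
    simp [Matrix.mul_apply, Fin.sum_univ_two, trace_fin_two, hx, hy] <;> ring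

/-- Trace-zero matrices commuting with `A` (`A² = -1`) are multiples of `A`. -/
theorem eq_smul_of_commute {A X : Matrix (Fin 2) (Fin 2) F} (h2 : (2 : F) ≠ 0)
    (hA : A * A = -1) (htA : A.trace = 0) (htX : X.trace = 0) (hc : X * A = A * X) :
    ∃ c : F, X = c • A := by
  have h := mul_add_mul_swap htX htA
  rw [hc] at h
  refine ⟨-((A * X).trace / 2), ?_⟩
  have h' : A * X = ((A * X).trace / 2) • (1 : Matrix (Fin 2) (Fin 2) F) := by
    have : (2 : F) • (A * X) = (A * X).trace • (1 : Matrix (Fin 2) (Fin 2) F) := by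
      rw [← h, two_smul]
    rw [div_eq_inv_mul, mul_smul, ← this, smul_smul, inv_mul_cancel₀ h2, one_smul]
  have h3 : A * (A * X) = ((A * X).trace / 2) • A := by
    rw [h', mul_smul_comm, mul_one, trace_smul, trace_one]
    simp [h2]
  rw [← mul_assoc, hA, neg_one_mul] at h3
  rw [neg_smul, ← h3, neg_neg]

/-- The commutant of a pair consists of scalars. -/
theorem IsPair.commutant {A B g : Matrix (Fin 2) (Fin 2) F} (h2 : (2 : F) ≠ 0)
    (h : IsPair A B) (hA : g * A = A * g) (hB : g * B = B * g) :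
    ∃ c : F, g = c • (1 : Matrix (Fin 2) (Fin 2) F) := by
  set X := g - (g.trace / 2) • (1 : Matrix (Fin 2) (Fin 2) F) with hX
  have htX : X.trace = 0 := by
    rw [hX, trace_sub, trace_smul, trace_one]
    simp [h2]
  have hXA : X * A = A * X := by
    rw [hX, sub_mul, mul_sub, hA, smul_mul_assoc, mul_smul_comm, one_mul, mul_one]
  have hXB : X * B = B * X := by
    rw [hX, sub_mul, mul_sub, hB, smul_mul_assoc, mul_smul_comm, one_mul, mul_one]
  obtain ⟨c, hc⟩ := eq_smul_of_commute h2 h.sqA (h.traceA h2) htX hXA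
  rw [hc, smul_mul_assoc, mul_smul_comm, h.anti', smul_neg] at hXB
  have h5 : (2 * c) • (A * B) = 0 := by
    rw [mul_smul, two_smul]
    nth_rewrite 1 [hXB]
    simp
  have h6 : (2 * c) • (1 : Matrix (Fin 2) (Fin 2) F) = 0 := by
    have := congrArg (fun Z => Z * (A * B)) h5
    simp only [smul_mul_assoc, h.mul.sqB, zero_mul, smul_neg, neg_eq_zero] at this
    exact this
  have h7 : 2 * c = 0 := by
    have := congrFun (congrFun h6 0) 0
    simpa using this
  have h8 : c = 0 := by
    rcases mul_eq_zero.mp h7 with h | h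
    · exact absurd h h2
    · exact h
  refine ⟨g.trace / 2, ?_⟩
  rw [h8, zero_smul, hX, sub_eq_zero] at hc
  exact hc

/-- Vectors in the plane with zero cross product are proportional. -/
theorem exists_smul_of_cross {w v : Fin 2 → F} (hw : w ≠ 0) (h : w 0 * v 1 = w 1 * v 0) :
    ∃ c : F, v = c • w := by
  by_cases h0 : w 0 = 0
  · have h1 : w 1 ≠ 0 := by
      intro h1
      apply hw
      ext i
      fin_cases i
      · exact h0
      · exact h1
    refine ⟨v 1 / w 1, ?_⟩
    rw [h0, zero_mul] at h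
    have hv0 : v 0 = 0 := by
      rcases mul_eq_zero.mp h.symm with h | h
      · exact absurd h h1
      · exact h
    ext i
    fin_cases i
    · simp [h0, hv0]
    · simp [h1]
  · refine ⟨v 0 / w 0, ?_⟩
    ext i
    fin_cases i
    · simp [h0]
    · simp only [Pi.smul_apply, smul_eq_mul, Fin.mk_one]
      field_simp
      linear_combination h

/-- A non-zero intertwiner of pairs is invertible. -/
theorem det_ne_zero_of_intertwine {A B A' B' g : Matrix (Fin 2) (Fin 2) F} (h2 : (2 : F) ≠ 0)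
    (h : IsPair A B) (hg : g ≠ 0) (hA : A' * g = g * A) (hB : B' * g = g * B) :
    g.det ≠ 0 := by
  intro hdet
  obtain ⟨w, hw, hgw⟩ := Matrix.exists_mulVec_eq_zero_iff.mpr hdet
  have hAw : g *ᵥ (A *ᵥ w) = 0 := by
    rw [mulVec_mulVec, ← hA, ← mulVec_mulVec, hgw, mulVec_zero]
  have hBw : g *ᵥ (B *ᵥ w) = 0 := by
    rw [mulVec_mulVec, ← hB, ← mulVec_mulVec, hgw, mulVec_zero]
  have key : ∀ v : Fin 2 → F, g *ᵥ v = 0 → ∃ c : F, v = c • w := by
    intro v hv
    apply exists_smul_of_cross hw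
    by_contra hne
    apply hg
    have hcross : w 0 * v 1 - w 1 * v 0 ≠ 0 := sub_ne_zero.mpr hne
    have e0 := congrFun hgw 0
    have e1 := congrFun hgw 1
    have f0 := congrFun hv 0
    have f1 := congrFun hv 1
    simp only [mulVec, dotProduct, Fin.sum_univ_two, Pi.zero_apply] at e0 e1 f0 f1
    ext i j
    fin_cases i <;> fin_cases j
    · have : g 0 0 * (w 0 * v 1 - w 1 * v 0) = 0 := by linear_combination v 1 * e0 - w 1 * f0
      simpa [hcross] using this
    · have : g 0 1 * (w 0 * v 1 - w 1 * v 0) = 0 := by linear_combination w 0 * f0 - v 0 * e0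
      simpa [hcross] using this
    · have : g 1 0 * (w 0 * v 1 - w 1 * v 0) = 0 := by linear_combination v 1 * e1 - w 1 * f1
      simpa [hcross] using this
    · have : g 1 1 * (w 0 * v 1 - w 1 * v 0) = 0 := by linear_combination w 0 * f1 - v 0 * e1
      simpa [hcross] using this
  obtain ⟨a, ha⟩ := key _ hAw
  obtain ⟨b, hb⟩ := key _ hBw
  have h1 : (A * B) *ᵥ w = (a * b) • w := by
    rw [← mulVec_mulVec, hb, mulVec_smul, ha, smul_smul, mul_comm]
  have h3 : (B * A) *ᵥ w = (a * b) • w := by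
    rw [← mulVec_mulVec, ha, mulVec_smul, hb, smul_smul]
  rw [h.anti, neg_mulVec, h3] at h1
  have h4 : (2 * (a * b)) • w = 0 := by
    rw [mul_smul, two_smul]
    nth_rewrite 1 [← h1]
    simp
  have h5 : a * b = 0 := by
    rcases smul_eq_zero.mp h4 with h | h
    · rcases mul_eq_zero.mp h with h | h
      · exact absurd h h2
      · exact h
    · exact absurd h hw
  have h6 : (A * B * (A * B)) *ᵥ w = 0 := by
    rw [← mulVec_mulVec, ← mulVec_mulVec w A B, hb, mulVec_smul, ha, smul_smul, mul_comm, h5,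
      zero_smul, mulVec_zero]
  rw [h.mul.sqB, neg_mulVec, one_mulVec, neg_eq_zero] at h6
  exact hw h6

/-- Averaging operator. -/
def avg (A B A' B' M : Matrix (Fin 2) (Fin 2) F) : Matrix (Fin 2) (Fin 2) F :=
  M - A' * M * A - B' * M * B - A' * B' * M * (A * B)

theorem avg_left {A B A' B' : Matrix (Fin 2) (Fin 2) F}
    (h : IsPair A B) (h' : IsPair A' B') (M : Matrix (Fin 2) (Fin 2) F) :
    A' * avg A B A' B' M = avg A B A' B' M * A := by
  simp only [avg, mul_sub, sub_mul, mul_assoc, h.sqA, h.anti', h'.sqA', mul_neg, mul_one, neg_neg,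
    h.sqA']
  abel

theorem avg_right {A B A' B' : Matrix (Fin 2) (Fin 2) F}
    (h : IsPair A B) (h' : IsPair A' B') (M : Matrix (Fin 2) (Fin 2) F) :
    B' * avg A B A' B' M = avg A B A' B' M * B := by
  simp only [avg, mul_sub, sub_mul, mul_assoc, h.sqB, h'.sqB', h'.anti'', mul_neg,
    mul_one, neg_neg]
  abel

/-- Transitivity of `GL₂(F)` on pairs. -/
theorem exists_intertwine {A B A' B' : Matrix (Fin 2) (Fin 2) F} (h2 : (2 : F) ≠ 0)
    (h : IsPair A B) (h' : IsPair A' B') :
    ∃ g : Matrix (Fin 2) (Fin 2) F, g.det ≠ 0 ∧ A' * g = g * A ∧ B' * g = g * B := by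
  have key : avg A B A' B' !![1, 0; 0, 0] 0 0 + avg A B A' B' !![0, 0; 1, 0] 1 0 = 2 := by
    have t1 := h'.traceA h2
    have t2 := h'.traceB h2
    have t3 := h'.traceAB h2
    have : avg A B A' B' !![1, 0; 0, 0] 0 0 + avg A B A' B' !![0, 0; 1, 0] 1 0
        = 2 - A'.trace * A 0 0 - B'.trace * B 0 0 - (A' * B').trace * (A * B) 0 0 := by
      simp [avg, Matrix.mul_apply, Fin.sum_univ_two, trace_fin_two]
      ring
    rw [this, t1, t2, t3]
    ring
  have hne : avg A B A' B' !![1, 0; 0, 0] ≠ 0 ∨ avg A B A' B' !![0, 0; 1, 0] ≠ 0 := by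
    by_contra hcon
    push Not at hcon
    rw [hcon.1, hcon.2] at key
    apply h2
    rw [← key]
    simp
  rcases hne with hne | hne
  · exact ⟨_, det_ne_zero_of_intertwine h2 h hne (avg_left h h' _) (avg_right h h' _),
      avg_left h h' _, avg_right h h' _⟩
  · exact ⟨_, det_ne_zero_of_intertwine h2 h hne (avg_left h h' _) (avg_right h h' _),
      avg_left h h' _, avg_right h h' _⟩

/-- In a finite field of characteristic ≠ 2, `-1` is a sum of two squares. -/
theorem exists_sq_add_sq_eq_neg_one [Finite F] (h2 : (2 : F) ≠ 0) :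
    ∃ s t : F, s ^ 2 + t ^ 2 = -1 := by
  classical
  haveI := Fintype.ofFinite F
  have hF : ringChar F ≠ 2 := by
    intro h
    apply h2
    have := CharP.cast_eq_zero F (ringChar F)
    rw [h] at this
    exact_mod_cast this
  obtain ⟨a, b, hab⟩ :
      ∃ a b : F, (Polynomial.X ^ 2 : Polynomial F).eval a
        + (Polynomial.X ^ 2 - Polynomial.C (-1) : Polynomial F).eval b = 0 :=
    FiniteField.exists_root_sum_quadratic (Polynomial.degree_X_pow 2)
      (Polynomial.degree_X_pow_sub_C (by decide) _)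
      (FiniteField.odd_card_of_char_ne_two hF)
  refine ⟨a, b, ?_⟩
  simp at hab
  linear_combination hab

/-- Existence of a pair over a finite field of characteristic ≠ 2. -/
theorem exists_isPair [Finite F] (h2 : (2 : F) ≠ 0) :
    ∃ A B : Matrix (Fin 2) (Fin 2) F, IsPair A B := by
  obtain ⟨s, t, hst⟩ := exists_sq_add_sq_eq_neg_one h2
  refine ⟨!![0, 1; -1, 0], !![s, t; t, -s], ⟨?_, ?_, ?_⟩⟩
  · ext i j
    fin_cases i <;> fin_cases j <;> simp [Matrix.mul_apply, Fin.sum_univ_two]
  · ext i j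
    fin_cases i <;> fin_cases j <;> simp [Matrix.mul_apply, Fin.sum_univ_two]
    · linear_combination hst
    · ring
    · ring
    · linear_combination hst
  · ext i j
    fin_cases i <;> fin_cases j <;> simp [Matrix.mul_apply, Fin.sum_univ_two]

/-- `#{pairs} * #Fˣ = #GL₂(F)`. -/
theorem card_pairs_mul [Finite F] (h2 : (2 : F) ≠ 0) :
    Nat.card {p : Matrix (Fin 2) (Fin 2) F × Matrix (Fin 2) (Fin 2) F // IsPair p.1 p.2}
      * Nat.card Fˣ = Nat.card (GL (Fin 2) F) := by
  classical
  obtain ⟨A, B, hAB⟩ := exists_isPair (F := F) h2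
  have hex : ∀ p : {p : Matrix (Fin 2) (Fin 2) F × Matrix (Fin 2) (Fin 2) F // IsPair p.1 p.2},
      ∃ g : GL (Fin 2) F, p.1.1 * g.1 = g.1 * A ∧ p.1.2 * g.1 = g.1 * B := by
    intro p
    obtain ⟨g, hg, h1, h3⟩ := exists_intertwine h2 hAB p.2
    exact ⟨Matrix.GeneralLinearGroup.mkOfDetNeZero g hg, h1, h3⟩
  choose s hs1 hs2 using hex
  rw [← Nat.card_prod]
  refine Nat.card_eq_of_bijective (fun x => s x.1 * (Units.map (algebraMap F
    (Matrix (Fin 2) (Fin 2) F)).toMonoidHom x.2 : GL (Fin 2) F)) ⟨?_, ?_⟩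
  · rintro ⟨p, c⟩ ⟨q, d⟩ hpq
    simp only at hpq
    have hv := congrArg Units.val hpq
    simp only [Units.val_mul, Units.coe_map, RingHom.toMonoidHom_eq_coe, MonoidHom.coe_coe,
      Algebra.algebraMap_eq_smul_one, mul_smul_comm, mul_one] at hv
    have hcne : (c : F) ≠ 0 := c.ne_zero
    have hdne : (d : F) ≠ 0 := d.ne_zero
    have hpq' : p = q := by
      have e1 : p.1.1 * ((c : F) • (s p).1) = ((c : F) • (s p).1) * A := by
        rw [mul_smul_comm, hs1, smul_mul_assoc]
      have e2 : p.1.2 * ((c : F) • (s p).1) = ((c : F) • (s p).1) * B := by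
        rw [mul_smul_comm, hs2, smul_mul_assoc]
      rw [hv, mul_smul_comm, smul_mul_assoc, ← hs1 q] at e1
      rw [hv, mul_smul_comm, smul_mul_assoc, ← hs2 q] at e2
      have e1' := smul_right_injective _ hdne e1
      have e2' := smul_right_injective _ hdne e2
      have e1'' : p.1.1 = q.1.1 := by
        have := congrArg (fun Z => Z * (s q)⁻¹.1) e1'
        simpa [mul_assoc] using this
      have e2'' : p.1.2 = q.1.2 := by
        have := congrArg (fun Z => Z * (s q)⁻¹.1) e2'
        simpa [mul_assoc] using this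
      exact Subtype.ext (Prod.ext e1'' e2'')
    subst hpq'
    have h5 : ((c : F) • (1 : Matrix (Fin 2) (Fin 2) F)) = (d : F) • 1 := by
      have := congrArg (fun Z => Z * (s p)⁻¹.1) hv
      simpa [mul_assoc] using this
    have h6 := congrFun (congrFun h5 0) 0
    simp at h6
    rw [Units.ext h6]
  · intro g
    have hgp : IsPair (g.1 * A * g⁻¹.1) (g.1 * B * g⁻¹.1) := by
      have hgg : ∀ X : Matrix (Fin 2) (Fin 2) F, g⁻¹.1 * (g.1 * X) = X := by
        intro X
        rw [← mul_assoc, Units.inv_mul, one_mul]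
      have hgg' : g.1 * g⁻¹.1 = 1 := Units.mul_inv g
      refine ⟨?_, ?_, ?_⟩
      · simp only [mul_assoc, hgg, hAB.sqA', mul_neg, hgg']
      · simp only [mul_assoc, hgg, hAB.sqB', mul_neg, hgg']
      · simp only [mul_assoc, hgg, hAB.anti'', mul_neg, neg_neg]
    let p : {p : Matrix (Fin 2) (Fin 2) F × Matrix (Fin 2) (Fin 2) F // IsPair p.1 p.2} :=
      ⟨(g.1 * A * g⁻¹.1, g.1 * B * g⁻¹.1), hgp⟩
    have h1 : p.1.1 * (s p).1 = (s p).1 * A := hs1 p
    have h3 : p.1.2 * (s p).1 = (s p).1 * B := hs2 p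
    have hgg : ∀ X : Matrix (Fin 2) (Fin 2) F, g⁻¹.1 * (g.1 * X) = X := by
      intro X
      rw [← mul_assoc, Units.inv_mul, one_mul]
    have hss : ∀ X : Matrix (Fin 2) (Fin 2) F, (s p).1 * ((s p)⁻¹.1 * X) = X := by
      intro X
      rw [← mul_assoc, Units.mul_inv, one_mul]
    have hss' : ∀ X : Matrix (Fin 2) (Fin 2) F, (s p)⁻¹.1 * ((s p).1 * X) = X := by
      intro X
      rw [← mul_assoc, Units.inv_mul, one_mul]
    -- `t = s⁻¹ g` commutes with `A` and `B`
    have c1 : ((s p)⁻¹.1 * g.1) * A = A * ((s p)⁻¹.1 * g.1) := by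
      have : g.1 * A = p.1.1 * g.1 := by
        simp [p, mul_assoc]
      have h4 : (s p)⁻¹.1 * p.1.1 = A * (s p)⁻¹.1 := by
        have := congrArg (fun Z => (s p)⁻¹.1 * Z * (s p)⁻¹.1) h1
        simpa [mul_assoc, hss'] using this
      rw [mul_assoc, this, ← mul_assoc, h4, mul_assoc]
    have c2 : ((s p)⁻¹.1 * g.1) * B = B * ((s p)⁻¹.1 * g.1) := by
      have : g.1 * B = p.1.2 * g.1 := by
        simp [p, mul_assoc]
      have h4 : (s p)⁻¹.1 * p.1.2 = B * (s p)⁻¹.1 := by
        have := congrArg (fun Z => (s p)⁻¹.1 * Z * (s p)⁻¹.1) h3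
        simpa [mul_assoc, hss'] using this
      rw [mul_assoc, this, ← mul_assoc, h4, mul_assoc]
    obtain ⟨c, hc⟩ := hAB.commutant h2 c1 c2
    have hc0 : c ≠ 0 := by
      intro h0
      rw [h0, zero_smul] at hc
      have : ((s p)⁻¹ * g).1 ≠ 0 := Units.ne_zero _
      exact this (by rw [Units.val_mul, hc])
    refine ⟨(p, Units.mk0 c hc0), ?_⟩
    apply Units.ext
    simp only [Units.val_mul, Units.coe_map, RingHom.toMonoidHom_eq_coe, MonoidHom.coe_coe,
      Algebra.algebraMap_eq_smul_one, Units.val_mk0, ← hc]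
    rw [hss]

/-- `#SL₂(F) * #Fˣ = #GL₂(F)`. -/
theorem card_SL_mul [Finite F] :
    Nat.card (SpecialLinearGroup (Fin 2) F) * Nat.card Fˣ = Nat.card (GL (Fin 2) F) := by
  classical
  have hd : ∀ c : Fˣ, (!![(c : F), 0; 0, 1] : Matrix (Fin 2) (Fin 2) F).det ≠ 0 := by
    intro c
    simp
  rw [← Nat.card_prod]
  refine Nat.card_eq_of_bijective (fun x => (Matrix.SpecialLinearGroup.toGL x.1) *
    Matrix.GeneralLinearGroup.mkOfDetNeZero _ (hd x.2)) ⟨?_, ?_⟩
  · rintro ⟨S, c⟩ ⟨T, d⟩ h
    simp only at h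
    have hv := congrArg Units.val h
    have hdet := congrArg Matrix.det hv
    simp only [Units.val_mul, det_mul, Matrix.SpecialLinearGroup.coe_GL_coe_matrix,
      Matrix.SpecialLinearGroup.det_coe, Matrix.GeneralLinearGroup.mkOfDetNeZero] at hdet
    simp at hdet
    have hcd : c = d := Units.ext hdet
    subst hcd
    have := mul_right_cancel h
    rw [Matrix.SpecialLinearGroup.toGL_injective this]
  · intro g
    have hg : g.1.det ≠ 0 := by
      have := Matrix.GeneralLinearGroup.det_ne_zero g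
      exact this
    let c : Fˣ := Units.mk0 _ hg
    let D : GL (Fin 2) F := Matrix.GeneralLinearGroup.mkOfDetNeZero _ (hd c)
    have hD : (g * D⁻¹).1.det = 1 := by
      have h1 : (g * D⁻¹ * D).1.det = g.1.det := by rw [inv_mul_cancel_right]
      rw [Units.val_mul, det_mul] at h1
      have h2 : D.1.det = g.1.det := by
        simp [D, c, Matrix.GeneralLinearGroup.mkOfDetNeZero]
      rw [h2] at h1
      exact mul_right_cancel₀ hg (h1.trans (one_mul _).symm)
    refine ⟨(⟨(g * D⁻¹).1, hD⟩, c), ?_⟩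
    apply Units.ext
    show (g * D⁻¹).1 * D.1 = g.1
    rw [← Units.val_mul, inv_mul_cancel_right]

/-- The number of pairs is the order of `SL₂(F)`. -/
theorem card_pairs [Finite F] (h2 : (2 : F) ≠ 0) :
    Nat.card {p : Matrix (Fin 2) (Fin 2) F × Matrix (Fin 2) (Fin 2) F // IsPair p.1 p.2}
      = Nat.card (SpecialLinearGroup (Fin 2) F) := by
  have h1 := card_pairs_mul (F := F) h2
  rw [← card_SL_mul] at h1
  exact Nat.eq_of_mul_eq_mul_right Nat.card_pos h1

end Cfsg.Agent.ClassicalGeometry.QuatPair
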