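import Mathlib
import Cfsg.Agent.ClassicalGeometry.QuatPair
import Cfsg.Agent.ClassicalGeometry.KleinCount
set_option linter.all false

/-!
# Klein four-subgroups of PSL₂(F)
-/

set_option autoImplicit false

namespace Cfsg.Agent.ClassicalGeometry.PSL2Klein

open Matrix Cfsg.Agent.ClassicalGeometry.QuatPair Cfsg.Agent.ClassicalGeometry.KleinCount

variable {F : Type*} [Field F]

local notation "SL2" => Matrix.SpecialLinearGroup (Fin 2)
local notation "PSL2" => Matrix.ProjectiveSpecialLinearGroup (Fin 2)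

theorem mem_center {A : SL2 F} :
    A ∈ Subgroup.center (SL2 F) ↔ A = 1 ∨ A = -1 := by
  rw [Matrix.SpecialLinearGroup.mem_center_iff]
  constructor
  · rintro ⟨r, hr, hA⟩
    simp only [Fintype.card_fin, sq_eq_one_iff] at hr
    rcases hr with rfl | rfl
    · left
      apply Subtype.ext
      rw [← hA]; simp
    · right
      apply Subtype.ext
      rw [← hA, map_neg, map_one]
      rfl
  · rintro (rfl | rfl)
    · exact ⟨1, by simp, by simp⟩
    · exact ⟨-1, by simp, by rw [map_neg, map_one]; rfl⟩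

theorem one_ne_neg_one (h2 : (2 : F) ≠ 0) : (1 : SL2 F) ≠ -1 := by
  intro h
  have h1 := congrArg (fun A : SL2 F => A.1 0 0) h
  simp at h1
  apply h2
  linear_combination h1

theorem card_center (h2 : (2 : F) ≠ 0) : Nat.card (Subgroup.center (SL2 F)) = 2 := by
  have h : ((Subgroup.center (SL2 F) : Subgroup (SL2 F)) : Set (SL2 F)) = {1, -1} := by
    ext A
    simp [mem_center]
  rw [← SetLike.coe_sort_coe, h, Nat.card_coe_set_eq, Set.ncard_pair (one_ne_neg_one h2)]

/-- The image in PSL₂. -/
abbrev mk (A : SL2 F) : PSL2 F := QuotientGroup.mk A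

theorem mk_eq_mk {A B : SL2 F} : mk A = mk B ↔ A = B ∨ A = -B := by
  rw [mk, mk, QuotientGroup.eq, mem_center]
  constructor
  · rintro (h | h)
    · left
      exact (inv_mul_eq_one.mp h)
    · right
      have : B = A * (-1) := by rw [← h]; simp
      rw [this]; simp
  · rintro (rfl | rfl)
    · simp
    · right
      have h := inv_mul_cancel (-B)
      rw [mul_neg] at h
      rw [← h]; simp

theorem mk_eq_one {A : SL2 F} : mk A = 1 ↔ A = 1 ∨ A = -1 := by
  rw [← QuotientGroup.mk_one]; exact mk_eq_mk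

theorem mk_neg (A : SL2 F) : mk (-A) = mk A := mk_eq_mk.mpr (Or.inr rfl)

/-- Cayley–Hamilton in SL₂. -/
theorem sq_eq (A : SL2 F) :
    A.1 * A.1 = A.1.trace • A.1 - 1 := by
  have hd := A.2
  rw [det_fin_two] at hd
  ext i j
  fin_cases i <;> fin_cases j <;> simp [Matrix.mul_apply, Fin.sum_univ_two, trace_fin_two]
  · linear_combination (-1) * hd
  · ring
  · ring
  · linear_combination (-1) * hd

theorem eq_of_sq_eq_one (h2 : (2 : F) ≠ 0) {A : SL2 F} (hA : A.1 * A.1 = 1) : A = 1 ∨ A = -1 := by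
  rw [sq_eq, sub_eq_iff_eq_add] at hA
  have h00 := congrFun (congrFun hA 0) 0
  have h01 := congrFun (congrFun hA 0) 1
  have h10 := congrFun (congrFun hA 1) 0
  have h11 := congrFun (congrFun hA 1) 1
  simp only [Matrix.smul_apply, smul_eq_mul, Matrix.add_apply, one_apply_eq, ne_eq, zero_ne_one,
    not_false_eq_true, one_apply_ne, add_zero, one_ne_zero] at h00 h01 h10 h11
  have ht : A.1.trace ≠ 0 := by
    intro h
    rw [h, zero_mul] at h00
    apply h2
    linear_combination -h00
  have e01 : A.1 0 1 = 0 := by simpa [ht] using h01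
  have e10 : A.1 1 0 = 0 := by simpa [ht] using h10
  have e11 : A.1 1 1 = A.1 0 0 := mul_left_cancel₀ ht (h11.trans h00.symm)
  have hd := A.2
  rw [det_fin_two, e01, e10, e11] at hd
  have : (A.1 0 0 - 1) * (A.1 0 0 + 1) = 0 := by linear_combination hd
  rcases mul_eq_zero.mp this with h | h
  · left
    have h' : A.1 0 0 = 1 := by linear_combination h
    apply Matrix.SpecialLinearGroup.ext
    intro i j
    fin_cases i <;> fin_cases j
    · exact h'
    · exact e01
    · exact e10
    · exact e11.trans h'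
  · right
    have h' : A.1 0 0 = -1 := by linear_combination h
    apply Matrix.SpecialLinearGroup.ext
    intro i j
    fin_cases i <;> fin_cases j
    · simpa using h'
    · simpa using e01
    · simpa using e10
    · simpa using e11.trans h'

theorem trace_eq_zero_of_sq (A : SL2 F) (hA : A.1 * A.1 = -1) : A.1.trace = 0 := by
  rw [sq_eq, sub_eq_iff_eq_add] at hA
  by_contra hne
  have h0 : A.1.trace • A.1 = 0 := by rw [hA]; simp
  have h1 : A.1 = 0 := by
    rcases smul_eq_zero.mp h0 with h | h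
    · exact absurd h hne
    · exact h
  have := A.2
  rw [h1] at this
  simp at this

/-- Involutions of PSL₂ are the images of the elements with square `-1`. -/
theorem involution_iff (h2 : (2 : F) ≠ 0) {A : SL2 F} :
    (mk A ≠ 1 ∧ mk A * mk A = 1) ↔ A.1 * A.1 = -1 := by
  constructor
  · rintro ⟨h1, h3⟩
    have h4 : mk (A * A) = 1 := h3
    rcases mk_eq_one.mp h4 with h | h
    · exfalso
      apply h1
      rw [mk_eq_one]
      exact eq_of_sq_eq_one h2 (by rw [← Matrix.SpecialLinearGroup.coe_mul, h, Matrix.SpecialLinearGroup.coe_one])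
    · have := congrArg Subtype.val h
      simpa using this
  · intro h
    have h' : A * A = -1 := Subtype.ext (by simpa using h)
    refine ⟨?_, ?_⟩
    · intro h1
      rcases mk_eq_one.mp h1 with rfl | rfl
      · exact one_ne_neg_one h2 (by simpa using h')
      · exact one_ne_neg_one h2 (by simpa using h')
    · show mk (A * A) = 1
      rw [h', mk_eq_one]
      right; rfl

theorem commInv_iff (h2 : (2 : F) ≠ 0) {A B : SL2 F} :
    CommInv (mk A) (mk B) ↔ IsPair A.1 B.1 := by
  constructor
  · intro h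
    have hA := (involution_iff h2).mp ⟨h.hx, h.xx⟩
    have hB := (involution_iff h2).mp ⟨h.hy, h.yy⟩
    refine ⟨hA, hB, ?_⟩
    have hc : mk (A * B) = mk (B * A) := h.comm
    rcases mk_eq_mk.mp hc with h1 | h1
    · exfalso
      have h1' : B.1 * A.1 = A.1 * B.1 := by
        have := congrArg Subtype.val h1
        simpa using this.symm
      obtain ⟨c, hc⟩ := eq_smul_of_commute h2 hA (trace_eq_zero_of_sq A hA)
        (trace_eq_zero_of_sq B hB) h1'
      have hd := B.2
      rw [hc, det_smul, A.2, Fintype.card_fin, mul_one, sq_eq_one_iff] at hd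
      apply h.hxy
      rw [mk_eq_mk]
      rcases hd with rfl | rfl
      · left
        apply Subtype.ext
        simpa using hc.symm
      · right
        apply Subtype.ext
        rw [Matrix.SpecialLinearGroup.coe_neg, hc]
        simp
    · have := congrArg Subtype.val h1
      simpa using this
  · intro h
    have hA := (involution_iff h2).mpr h.sqA
    have hB := (involution_iff h2).mpr h.sqB
    refine ⟨hA.1, hB.1, ?_, hA.2, hB.2, ?_⟩
    · intro h1
      have hcomm : A.1 * B.1 = B.1 * A.1 := by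
        rcases mk_eq_mk.mp h1 with rfl | rfl <;> simp
      have h3 := h.anti
      rw [← hcomm, eq_neg_iff_add_eq_zero, ← two_smul F] at h3
      have h4 : A.1 * B.1 = 0 := by
        rcases smul_eq_zero.mp h3 with h | h
        · exact absurd h h2
        · exact h
      have h5 := congrArg Matrix.det h4
      rw [det_mul, A.2, B.2] at h5
      simp at h5
    · show mk (A * B) = mk (B * A)
      rw [mk_eq_mk]
      right
      apply Subtype.ext
      simpa using h.anti

/-- Determinant of the members of a pair. -/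
theorem IsPair.det_left {A B : Matrix (Fin 2) (Fin 2) F} (h2 : (2 : F) ≠ 0) (h : IsPair A B) :
    A.det = 1 := det_of_sq (h.traceA h2) h.sqA

/-- Counting. -/
theorem card_pairs_SL (h2 : (2 : F) ≠ 0) :
    Nat.card {p : Matrix (Fin 2) (Fin 2) F × Matrix (Fin 2) (Fin 2) F // IsPair p.1 p.2}
      = Nat.card {p : SL2 F × SL2 F // IsPair p.1.1 p.2.1} := by
  symm
  refine Nat.card_eq_of_bijective (fun x => ⟨(x.1.1.1, x.1.2.1), x.2⟩) ⟨?_, ?_⟩
  · rintro ⟨⟨A, B⟩, h⟩ ⟨⟨C, D⟩, h'⟩ he
    simp only [Subtype.mk.injEq, Prod.mk.injEq] at he ⊢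
    exact ⟨Subtype.ext he.1, Subtype.ext he.2⟩
  · rintro ⟨⟨A, B⟩, h⟩
    exact ⟨⟨(⟨A, IsPair.det_left h2 h⟩, ⟨B, IsPair.det_left h2 h.symm⟩), h⟩, rfl⟩

theorem card_lift (h2 : (2 : F) ≠ 0) :
    Nat.card {p : SL2 F × SL2 F // IsPair p.1.1 p.2.1} =
      4 * Nat.card {p : PSL2 F × PSL2 F // CommInv p.1 p.2} := by
  have h4 : (4 : ℕ) = Nat.card (Subgroup.center (SL2 F) × Subgroup.center (SL2 F)) := by
    rw [Nat.card_prod, card_center h2]
  rw [h4, mul_comm, ← Nat.card_prod]
  symm
  have hout : ∀ (a : PSL2 F) (c : Subgroup.center (SL2 F)), mk (a.out * c.1) = a := by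
    intro a c
    have h1 : mk (a.out * c.1) = mk a.out := by
      rw [mk, mk, QuotientGroup.eq]
      simp
    rw [h1]
    exact QuotientGroup.out_eq' a
  refine Nat.card_eq_of_bijective (fun x => ⟨(x.1.1.1.out * x.2.1.1, x.1.1.2.out * x.2.2.1), ?_⟩)
    ⟨?_, ?_⟩
  · rw [← commInv_iff h2, hout, hout]
    exact x.1.2
  · rintro ⟨⟨⟨a, b⟩, h⟩, ⟨c, d⟩⟩ ⟨⟨⟨a', b'⟩, h'⟩, ⟨c', d'⟩⟩ he
    simp only [Subtype.mk.injEq, Prod.mk.injEq] at he
    have ha : a = a' := by rw [← hout a c, ← hout a' c', he.1]
    have hb : b = b' := by rw [← hout b d, ← hout b' d', he.2]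
    subst ha
    subst hb
    have hc : c = c' := Subtype.ext (mul_left_cancel he.1)
    have hd : d = d' := Subtype.ext (mul_left_cancel he.2)
    rw [hc, hd]
  · rintro ⟨⟨A, B⟩, h⟩
    have hA : (mk A).out⁻¹ * A ∈ Subgroup.center (SL2 F) := by
      rw [← QuotientGroup.eq]
      exact QuotientGroup.out_eq' (mk A)
    have hB : (mk B).out⁻¹ * B ∈ Subgroup.center (SL2 F) := by
      rw [← QuotientGroup.eq]
      exact QuotientGroup.out_eq' (mk B)
    refine ⟨⟨⟨(mk A, mk B), (commInv_iff h2).mpr h⟩, (⟨_, hA⟩, ⟨_, hB⟩)⟩, ?_⟩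
    simp

theorem card_SL_eq (h2 : (2 : F) ≠ 0) : Nat.card (SL2 F) = 2 * Nat.card (PSL2 F) := by
  rw [Subgroup.card_eq_card_quotient_mul_card_subgroup (Subgroup.center (SL2 F)), card_center h2,
    mul_comm]

/-- `12 * #{Klein four-subgroups} = #PSL₂(F)`. -/
theorem card_klein [Finite F] (h2 : (2 : F) ≠ 0) :
    12 * Nat.card {V : Subgroup (PSL2 F) // IsKleinFour V} = Nat.card (PSL2 F) := by
  have h := card_pairs (F := F) h2
  rw [card_pairs_SL h2, card_lift h2, card_commInv, card_SL_eq h2] at h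
  omega

end Cfsg.Agent.ClassicalGeometry.PSL2Klein
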