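import Mathlib
set_option linter.all false

set_option autoImplicit false

/-!
# Elements and subgroups of order four in `SL_2(F)`, `F` a finite field of odd order
-/

namespace Cfsg.Agent.ClassicalGeometry.SLTwoFour

open Matrix

section Squares

variable {F : Type*} [Field F] [Fintype F]

/-- In a finite field of odd order every element is a sum of two squares. -/
theorem exists_sq_add_sq (hodd : Odd (Fintype.card F)) (c : F) : ∃ u t : F, u ^ 2 + t ^ 2 = c := by
  classical
  have hR : Fintype.card F % 2 = 1 := Nat.odd_iff.mp hodd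
  obtain ⟨a, b, hab⟩ := FiniteField.exists_root_sum_quadratic
    (f := (Polynomial.X ^ 2 : Polynomial F)) (g := Polynomial.X ^ 2 - Polynomial.C c)
    (Polynomial.degree_X_pow 2) (Polynomial.degree_X_pow_sub_C (by decide) _) hR
  refine ⟨a, b, ?_⟩
  rw [← sub_eq_zero]
  simpa only [Polynomial.eval_C, Polynomial.eval_X, Polynomial.eval_pow, Polynomial.eval_sub,
    ← add_sub_assoc] using hab

theorem two_ne_zero_of_odd (hodd : Odd (Fintype.card F)) : (2 : F) ≠ 0 := by
  intro h2
  have h : ringChar F = 2 := by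
    by_contra hne
    exact (Ring.two_ne_zero hne) h2
  have := FiniteField.even_card_of_char_two h
  rw [Nat.odd_iff] at hodd
  omega

/-- The binary form attached to a trace zero matrix represents `1`. -/
theorem exists_form_eq_one (hodd : Odd (Fintype.card F)) (a b c : F) (h : a ^ 2 + b * c = -1) :
    ∃ s t : F, -(c * s ^ 2) + 2 * a * s * t + b * t ^ 2 = 1 := by
  have h2 := two_ne_zero_of_odd hodd
  by_cases hc : c = 0
  · subst hc
    have ha : a ≠ 0 := by
      rintro rfl
      simp at h
    refine ⟨(1 - b) / (2 * a), 1, ?_⟩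
    field_simp
    ring
  · obtain ⟨u, t, hut⟩ := exists_sq_add_sq hodd (-c)
    refine ⟨(u + a * t) / c, t, ?_⟩
    field_simp
    have : b * c = -1 - a ^ 2 := by rw [← h]; ring
    linear_combination (-1) * hut + t ^ 2 * h

/-- `1 + t ^ 2` never vanishes when `q ≡ 3 (mod 4)`. -/
theorem one_add_sq_ne_zero (hq : Fintype.card F % 4 = 3) (t : F) : 1 + t ^ 2 ≠ 0 := by
  intro h
  have : IsSquare (-1 : F) := ⟨t, by linear_combination (-1) * h⟩
  rw [FiniteField.isSquare_neg_one_iff] at this
  exact this hq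

/-- Exactly two `t` satisfy `1 + t ^ 2 = 0` when `q ≡ 1 (mod 4)`. -/
theorem card_one_add_sq_eq_zero (hq : Fintype.card F % 4 = 1) :
    Nat.card {t : F // 1 + t ^ 2 = 0} = 2 := by
  classical
  have hodd : Odd (Fintype.card F) := by rw [Nat.odd_iff]; omega
  have h2 := two_ne_zero_of_odd hodd
  have : IsSquare (-1 : F) := by
    rw [FiniteField.isSquare_neg_one_iff]; omega
  obtain ⟨i, hi⟩ := this
  have hne : i ≠ -i := by
    intro h
    have h0 : 2 * i = 0 := by linear_combination h
    rcases mul_eq_zero.mp h0 with h | h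
    · exact h2 h
    · rw [h] at hi; simp at hi
  have hset : {t : F | 1 + t ^ 2 = 0} = {i, -i} := by
    ext t
    simp only [Set.mem_ofPred_eq, Set.mem_insert_iff, Set.mem_singleton_iff]
    constructor
    · intro h
      have : (t - i) * (t + i) = 0 := by linear_combination h + hi
      rcases mul_eq_zero.mp this with h | h
      · left; exact sub_eq_zero.mp h
      · right; exact eq_neg_of_add_eq_zero_left h
    · rintro (rfl | rfl)
      · linear_combination (-1) * hi
      · linear_combination (-1) * hi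
  have hcard : Nat.card {t : F // 1 + t ^ 2 = 0} = ({t : F | 1 + t ^ 2 = 0} : Set F).ncard := rfl
  rw [hcard, hset, Set.ncard_pair hne]

/-- The circle `p² + r² = 1`, parametrised from the point `(-1, 0)`. -/
noncomputable def circleEquiv (h2 : (2 : F) ≠ 0) :
    {p : F × F // p.1 ^ 2 + p.2 ^ 2 = 1} ≃ Option {t : F // 1 + t ^ 2 ≠ 0} := by
  classical
  exact
  { toFun := fun p => if h : 1 + p.1.1 = 0 then none else
      some ⟨p.1.2 / (1 + p.1.1), by
        have hp := p.2
        have : 1 + (p.1.2 / (1 + p.1.1)) ^ 2 = 2 / (1 + p.1.1) := by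
          field_simp
          linear_combination hp
        rw [this]
        exact div_ne_zero h2 h⟩
    invFun := fun o => match o with
      | none => ⟨(-1, 0), by norm_num⟩
      | some t => ⟨((1 - t.1 ^ 2) / (1 + t.1 ^ 2), 2 * t.1 / (1 + t.1 ^ 2)), by
          have ht := t.2
          show ((1 - t.1 ^ 2) / (1 + t.1 ^ 2)) ^ 2 + (2 * t.1 / (1 + t.1 ^ 2)) ^ 2 = 1
          field_simp
          ring⟩
    left_inv := by
      rintro ⟨⟨a, b⟩, hab⟩
      simp only at hab
      by_cases h : 1 + a = 0
      · have ha : a = -1 := by linear_combination h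
        have hb : b = 0 := by
          rw [ha] at hab
          have : b ^ 2 = 0 := by linear_combination hab
          exact pow_eq_zero_iff (two_ne_zero) |>.mp this
        simp [ha, hb]
      · simp only [h, dif_neg, not_false_eq_true]
        have hden : 1 + (b / (1 + a)) ^ 2 = 2 / (1 + a) := by
          field_simp
          linear_combination hab
        apply Subtype.ext
        apply Prod.ext
        · simp only
          rw [hden]
          field_simp
          linear_combination (-1) * hab
        · simp only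
          rw [hden]
          field_simp
    right_inv := by
      rintro (_ | ⟨t, ht⟩)
      · simp
      · have h1 : 1 + (1 - t ^ 2) / (1 + t ^ 2) = 2 / (1 + t ^ 2) := by
          field_simp
          ring
        have h3 : 1 + (1 - t ^ 2) / (1 + t ^ 2) ≠ 0 := by
          rw [h1]; exact div_ne_zero h2 ht
        simp only [h3, dif_neg, not_false_eq_true]
        congr 1
        apply Subtype.ext
        simp only
        rw [h1]
        field_simp }

/-- Number of points of the circle. -/
theorem card_circle_add (hodd : Odd (Fintype.card F)) :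
    Nat.card {p : F × F // p.1 ^ 2 + p.2 ^ 2 = 1} + Nat.card {t : F // 1 + t ^ 2 = 0} =
      Fintype.card F + 1 := by
  classical
  rw [Nat.card_congr (circleEquiv (two_ne_zero_of_odd hodd))]
  have h1 : Nat.card (Option {t : F // 1 + t ^ 2 ≠ 0}) = Nat.card {t : F // 1 + t ^ 2 ≠ 0} + 1 := by
    rw [Nat.card_eq_fintype_card, Nat.card_eq_fintype_card, Fintype.card_option]
  rw [h1]
  have h4 := Fintype.card_subtype_compl (fun t : F => 1 + t ^ 2 = 0)
  have h5 := Fintype.card_subtype_le (fun t : F => 1 + t ^ 2 = 0)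
  have h6 : Nat.card {t : F // 1 + t ^ 2 ≠ 0} = Fintype.card {t : F // ¬ (1 + t ^ 2 = 0)} := by
    rw [Nat.card_eq_fintype_card]
  rw [h6, h4, Nat.card_eq_fintype_card]
  omega

theorem card_circle_one (hq : Fintype.card F % 4 = 1) :
    Nat.card {p : F × F // p.1 ^ 2 + p.2 ^ 2 = 1} = Fintype.card F - 1 := by
  have h := card_circle_add (F := F) (by rw [Nat.odd_iff]; omega)
  rw [card_one_add_sq_eq_zero hq] at h
  omega

theorem card_circle_three (hq : Fintype.card F % 4 = 3) :
    Nat.card {p : F × F // p.1 ^ 2 + p.2 ^ 2 = 1} = Fintype.card F + 1 := by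
  have h := card_circle_add (F := F) (by rw [Nat.odd_iff]; omega)
  have h0 : Nat.card {t : F // 1 + t ^ 2 = 0} = 0 := by
    have : IsEmpty {t : F // 1 + t ^ 2 = 0} := ⟨fun t => one_add_sq_ne_zero hq t.1 t.2⟩
    exact Nat.card_of_isEmpty
  omega

end Squares

section SL

variable {F : Type*} [Field F]

/-- The standard element of order four. -/
def w : Matrix.SpecialLinearGroup (Fin 2) F := ⟨!![0, 1; -1, 0], by simp [Matrix.det_fin_two]⟩

theorem w_coe : ((w : Matrix.SpecialLinearGroup (Fin 2) F) : Matrix (Fin 2) (Fin 2) F) =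
    !![0, 1; -1, 0] := rfl

theorem ext2 {x y : Matrix.SpecialLinearGroup (Fin 2) F} (h00 : x 0 0 = y 0 0) (h01 : x 0 1 = y 0 1)
    (h10 : x 1 0 = y 1 0) (h11 : x 1 1 = y 1 1) : x = y := by
  apply Matrix.SpecialLinearGroup.ext
  intro i j
  fin_cases i <;> fin_cases j <;> assumption

theorem det2 (x : Matrix.SpecialLinearGroup (Fin 2) F) : x 0 0 * x 1 1 - x 0 1 * x 1 0 = 1 := by
  have := x.det_coe
  rwa [Matrix.det_fin_two] at this

theorem mul00 (x y : Matrix.SpecialLinearGroup (Fin 2) F) :
    (x * y) 0 0 = x 0 0 * y 0 0 + x 0 1 * y 1 0 := by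
  simp [Matrix.mul_apply, Fin.sum_univ_two]
theorem mul01 (x y : Matrix.SpecialLinearGroup (Fin 2) F) :
    (x * y) 0 1 = x 0 0 * y 0 1 + x 0 1 * y 1 1 := by
  simp [Matrix.mul_apply, Fin.sum_univ_two]
theorem mul10 (x y : Matrix.SpecialLinearGroup (Fin 2) F) :
    (x * y) 1 0 = x 1 0 * y 0 0 + x 1 1 * y 1 0 := by
  simp [Matrix.mul_apply, Fin.sum_univ_two]
theorem mul11 (x y : Matrix.SpecialLinearGroup (Fin 2) F) :
    (x * y) 1 1 = x 1 0 * y 0 1 + x 1 1 * y 1 1 := by
  simp [Matrix.mul_apply, Fin.sum_univ_two]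

theorem one00 : (1 : Matrix.SpecialLinearGroup (Fin 2) F) 0 0 = 1 := by simp
theorem one01 : (1 : Matrix.SpecialLinearGroup (Fin 2) F) 0 1 = 0 := by simp
theorem one10 : (1 : Matrix.SpecialLinearGroup (Fin 2) F) 1 0 = 0 := by simp
theorem one11 : (1 : Matrix.SpecialLinearGroup (Fin 2) F) 1 1 = 1 := by simp

theorem neg_ij (x : Matrix.SpecialLinearGroup (Fin 2) F) (i j : Fin 2) : (-x) i j = - x i j := by
  simp

theorem w00 : (w : Matrix.SpecialLinearGroup (Fin 2) F) 0 0 = 0 := rfl
theorem w01 : (w : Matrix.SpecialLinearGroup (Fin 2) F) 0 1 = 1 := rfl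
theorem w10 : (w : Matrix.SpecialLinearGroup (Fin 2) F) 1 0 = -1 := rfl
theorem w11 : (w : Matrix.SpecialLinearGroup (Fin 2) F) 1 1 = 0 := rfl

/-- `-1` is the only involution. -/
theorem eq_one_or_neg_one_of_mul_self (h2 : (2 : F) ≠ 0) (x : Matrix.SpecialLinearGroup (Fin 2) F)
    (hx : x * x = 1) : x = 1 ∨ x = -1 := by
  have e00 := congrArg (fun y : Matrix.SpecialLinearGroup (Fin 2) F => y 0 0) hx
  have e01 := congrArg (fun y : Matrix.SpecialLinearGroup (Fin 2) F => y 0 1) hx
  have e10 := congrArg (fun y : Matrix.SpecialLinearGroup (Fin 2) F => y 1 0) hx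
  have e11 := congrArg (fun y : Matrix.SpecialLinearGroup (Fin 2) F => y 1 1) hx
  have hd := det2 x
  simp only [mul00, mul01, mul10, mul11, one00, one01, one10, one11] at e00 e01 e10 e11
  have ht : x 0 0 + x 1 1 ≠ 0 := by
    intro h0
    apply h2
    linear_combination (-1) * e00 - hd + x 0 0 * h0
  have hb : x 0 1 = 0 := by
    have : x 0 1 * (x 0 0 + x 1 1) = 0 := by linear_combination e01
    exact (mul_eq_zero.mp this).resolve_right ht
  have hc : x 1 0 = 0 := by
    have : x 1 0 * (x 0 0 + x 1 1) = 0 := by linear_combination e10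
    exact (mul_eq_zero.mp this).resolve_right ht
  have ha : x 0 0 ^ 2 = 1 := by
    rw [hb] at e00
    linear_combination e00
  have had : x 0 0 = x 1 1 := by
    have hd' : x 0 0 * x 1 1 = 1 := by rw [hb] at hd; linear_combination hd
    have : x 0 0 * (x 0 0 - x 1 1) = 0 := by linear_combination ha - hd'
    rcases mul_eq_zero.mp this with h | h
    · rw [h] at ha; simp at ha
    · linear_combination h
  have hf : (x 0 0 - 1) * (x 0 0 + 1) = 0 := by linear_combination ha
  rcases mul_eq_zero.mp hf with h | h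
  · left
    replace h := sub_eq_zero.mp h
    exact ext2 (by rw [one00, h]) (by rw [one01, hb]) (by rw [one10, hc]) (by rw [one11, ← had, h])
  · right
    replace h := eq_neg_of_add_eq_zero_left h
    exact ext2 (by rw [neg_ij, one00, h]) (by rw [neg_ij, one01, hb, neg_zero])
      (by rw [neg_ij, one10, hc, neg_zero]) (by rw [neg_ij, one11, ← had, h])

/-- An element with square `-1` has trace zero. -/
theorem trace_of_mul_self (x : Matrix.SpecialLinearGroup (Fin 2) F)
    (hx : x * x = -1) : x 0 0 + x 1 1 = 0 := by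
  have e00 := congrArg (fun y : Matrix.SpecialLinearGroup (Fin 2) F => y 0 0) hx
  have e01 := congrArg (fun y : Matrix.SpecialLinearGroup (Fin 2) F => y 0 1) hx
  have e10 := congrArg (fun y : Matrix.SpecialLinearGroup (Fin 2) F => y 1 0) hx
  have hd := det2 x
  simp only [mul00, mul01, mul10, neg_ij, one00, one01, one10] at e00 e01 e10
  by_contra ht
  have ha : x 0 0 = 0 := by
    have : x 0 0 * (x 0 0 + x 1 1) = 0 := by linear_combination e00 + hd
    exact (mul_eq_zero.mp this).resolve_right ht
  have hb : x 0 1 = 0 := by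
    have : x 0 1 * (x 0 0 + x 1 1) = 0 := by linear_combination e01
    exact (mul_eq_zero.mp this).resolve_right ht
  rw [ha, hb] at hd
  simp at hd

theorem mul_self_of_trace (x : Matrix.SpecialLinearGroup (Fin 2) F)
    (hx : x 0 0 + x 1 1 = 0) : x * x = -1 := by
  have hd := det2 x
  have h1 : x 1 1 = - x 0 0 := by linear_combination hx
  refine ext2 ?_ ?_ ?_ ?_
  · rw [mul00, neg_ij, one00]; linear_combination (-1) * hd + x 0 0 * hx
  · rw [mul01, neg_ij, one01]; linear_combination x 0 1 * hx
  · rw [mul10, neg_ij, one10]; linear_combination x 1 0 * hx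
  · rw [mul11, neg_ij, one11]; linear_combination (-1) * hd + x 1 1 * hx

theorem w_mul_self : (w : Matrix.SpecialLinearGroup (Fin 2) F) * w = -1 :=
  mul_self_of_trace w (by rw [w00, w11, add_zero])

/-- Every element with square `-1` is conjugate to `w` over a finite field of odd order. -/
theorem exists_conj_w [Fintype F] (hodd : Odd (Fintype.card F))
    (x : Matrix.SpecialLinearGroup (Fin 2) F) (hx : x * x = -1) :
    ∃ g : Matrix.SpecialLinearGroup (Fin 2) F, g * w * g⁻¹ = x := by
  have ht := trace_of_mul_self x hx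
  have hd := det2 x
  have h1 : x 1 1 = - x 0 0 := by linear_combination ht
  obtain ⟨s, t, hst⟩ := exists_form_eq_one hodd (x 0 0) (x 0 1) (x 1 0)
    (by rw [h1] at hd; linear_combination (-1) * hd)
  let g : Matrix.SpecialLinearGroup (Fin 2) F :=
    ⟨!![s, -(x 0 0 * s + x 0 1 * t); t, -(x 1 0 * s + x 1 1 * t)], by
      rw [Matrix.det_fin_two_of]
      rw [h1]
      linear_combination hst⟩
  have g00 : g 0 0 = s := rfl
  have g01 : g 0 1 = -(x 0 0 * s + x 0 1 * t) := rfl
  have g10 : g 1 0 = t := rfl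
  have g11 : g 1 1 = -(x 1 0 * s + x 1 1 * t) := rfl
  refine ⟨g, ?_⟩
  rw [mul_inv_eq_iff_eq_mul]
  refine ext2 ?_ ?_ ?_ ?_
  · rw [mul00, mul00, w00, w10, g00, g01, g10]; ring
  · rw [mul01, mul01, w01, w11, g00, g01, g11, h1]
    rw [h1] at hd
    linear_combination (-s) * hd
  · rw [mul10, mul10, w00, w10, g00, g10, g11]; ring
  · rw [mul11, mul11, w01, w11, g10, g01, g11, h1]
    rw [h1] at hd
    linear_combination (-t) * hd

theorem neg_one_ne_one (h2 : (2 : F) ≠ 0) : (-1 : Matrix.SpecialLinearGroup (Fin 2) F) ≠ 1 := by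
  intro h
  have h00 := congrArg (fun y : Matrix.SpecialLinearGroup (Fin 2) F => y 0 0) h
  simp only [neg_ij, one00] at h00
  apply h2
  linear_combination (-1) * h00

theorem orderOf_of_mul_self (h2 : (2 : F) ≠ 0) (x : Matrix.SpecialLinearGroup (Fin 2) F)
    (hx : x * x = -1) : orderOf x = 4 := by
  have : orderOf x = 2 ^ (1 + 1) := by
    apply orderOf_eq_prime_pow
    · rw [pow_one, pow_two, hx]
      exact neg_one_ne_one h2
    · have : x ^ 2 ^ (1 + 1) = (x * x) * (x * x) := by
        rw [show 2 ^ (1 + 1) = 4 by norm_num]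
        simp only [pow_succ, pow_zero, one_mul, mul_assoc]
      rw [this, hx]; simp
  rw [this]; norm_num

/-- A subgroup of order four is cyclic, generated by an element with square `-1`. -/
theorem exists_gen [Finite F] (h2 : (2 : F) ≠ 0)
    (A : Subgroup (Matrix.SpecialLinearGroup (Fin 2) F))
    (hA : Nat.card A = 4) : ∃ x : Matrix.SpecialLinearGroup (Fin 2) F, x * x = -1 ∧
      A = Subgroup.zpowers x := by
  classical
  have key : ∃ x ∈ A, x * x ≠ 1 := by
    by_contra hcon
    push Not at hcon
    have hsub : (A : Set (Matrix.SpecialLinearGroup (Fin 2) F)) ⊆ {1, -1} := by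
      intro x hx
      rcases eq_one_or_neg_one_of_mul_self h2 x (hcon x hx) with h | h
      · left; exact h
      · right; exact h
    have hle : Nat.card A ≤ 2 := by
      have h1 : Nat.card A = (A : Set (Matrix.SpecialLinearGroup (Fin 2) F)).ncard :=
        rfl
      rw [h1]
      exact (Set.ncard_le_ncard hsub (Set.toFinite _)).trans (Set.ncard_insert_le _ _ |>.trans
        (by simp))
    omega
  obtain ⟨x, hxA, hx⟩ := key
  have hx4 : x ^ 4 = 1 := by
    have h := pow_card_eq_one' (G := A) (x := ⟨x, hxA⟩)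
    rw [hA] at h
    simpa using congrArg Subtype.val h
  have hxx : (x * x) * (x * x) = 1 := by
    rw [← hx4]
    simp only [pow_succ, pow_zero, one_mul, mul_assoc]
  rcases eq_one_or_neg_one_of_mul_self h2 (x * x) hxx with h | h
  · exact absurd h hx
  · refine ⟨x, h, ?_⟩
    have ho := orderOf_of_mul_self h2 x h
    have hle : Subgroup.zpowers x ≤ A := by
      rw [Subgroup.zpowers_le]; exact hxA
    symm
    apply Subgroup.eq_of_le_of_card_ge hle
    rw [hA, Nat.card_zpowers, ho]

/-- Every subgroup of order four is conjugate to `⟨w⟩`. -/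
theorem exists_map_conj [Fintype F] (hodd : Odd (Fintype.card F))
    (A : Subgroup (Matrix.SpecialLinearGroup (Fin 2) F)) (hA : Nat.card A = 4) :
    ∃ g : Matrix.SpecialLinearGroup (Fin 2) F,
      A = (Subgroup.zpowers (w : Matrix.SpecialLinearGroup (Fin 2) F)).map
        (MulAut.conj g).toMonoidHom := by
  obtain ⟨x, hx, rfl⟩ := exists_gen (two_ne_zero_of_odd hodd) A hA
  obtain ⟨g, hg⟩ := exists_conj_w hodd x hx
  refine ⟨g, ?_⟩
  rw [MonoidHom.map_zpowers]
  congr 1
  rw [← hg]
  rfl

theorem w_inv : (w : Matrix.SpecialLinearGroup (Fin 2) F)⁻¹ = -w := by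
  rw [inv_eq_iff_mul_eq_one, mul_neg, w_mul_self, neg_neg]

theorem mem_zpowers_w {y : Matrix.SpecialLinearGroup (Fin 2) F}
    (hy : y ∈ Subgroup.zpowers (w : Matrix.SpecialLinearGroup (Fin 2) F)) :
    y = 1 ∨ y = -1 ∨ y = w ∨ y = -w := by
  obtain ⟨n, rfl⟩ := Subgroup.mem_zpowers_iff.mp hy
  have hsq : ∀ k : ℤ, ((-1 : Matrix.SpecialLinearGroup (Fin 2) F)) ^ k = 1 ∨
      ((-1 : Matrix.SpecialLinearGroup (Fin 2) F)) ^ k = -1 := by
    intro k
    have h1 : ((-1 : Matrix.SpecialLinearGroup (Fin 2) F)) ^ (2 : ℤ) = 1 := by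
      rw [zpow_two]; simp
    rcases Int.even_or_odd' k with ⟨m, rfl | rfl⟩
    · left
      rw [_root_.zpow_mul, h1, _root_.one_zpow]
    · right
      rw [_root_.zpow_add, _root_.zpow_mul, h1, _root_.one_zpow, one_mul, zpow_one]
  rcases Int.even_or_odd' n with ⟨k, rfl | rfl⟩
  · rw [_root_.zpow_mul, zpow_two, w_mul_self]
    rcases hsq k with h | h
    · left; exact h
    · right; left; exact h
  · rw [_root_.zpow_add, _root_.zpow_mul, zpow_two, w_mul_self, zpow_one]
    rcases hsq k with h | h
    · right; right; left; rw [h, one_mul]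
    · right; right; right; rw [h, neg_mul, one_mul]

theorem w_ne_one : (w : Matrix.SpecialLinearGroup (Fin 2) F) ≠ 1 := by
  intro h
  have h01 := congrArg (fun y : Matrix.SpecialLinearGroup (Fin 2) F => y 0 1) h
  simp only [w01, one01] at h01
  exact one_ne_zero h01

theorem w_ne_neg_one : (w : Matrix.SpecialLinearGroup (Fin 2) F) ≠ -1 := by
  intro h
  have h01 := congrArg (fun y : Matrix.SpecialLinearGroup (Fin 2) F => y 0 1) h
  simp only [w01, neg_ij, one01, neg_zero] at h01
  exact one_ne_zero h01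

theorem w_ne_neg_w (h2 : (2 : F) ≠ 0) : (w : Matrix.SpecialLinearGroup (Fin 2) F) ≠ -w := by
  intro h
  have h01 := congrArg (fun y : Matrix.SpecialLinearGroup (Fin 2) F => y 0 1) h
  simp only [w01, neg_ij] at h01
  apply h2
  linear_combination h01

/-- The normaliser of `⟨w⟩`: elements sending `w` to `w` or `-w`. -/
theorem mem_normalizer_zpowers_w {g : Matrix.SpecialLinearGroup (Fin 2) F} :
    g ∈ Subgroup.normalizer
      ((Subgroup.zpowers (w : Matrix.SpecialLinearGroup (Fin 2) F) :
        Subgroup (Matrix.SpecialLinearGroup (Fin 2) F)) :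
        Set (Matrix.SpecialLinearGroup (Fin 2) F)) ↔ g * w = w * g ∨ g * w = - w * g := by
  constructor
  · intro hg
    have h := (Subgroup.mem_normalizer_iff.mp hg w).mp (Subgroup.mem_zpowers w)
    rcases mem_zpowers_w h with h | h | h | h
    · exfalso
      rw [mul_inv_eq_one] at h
      exact w_ne_one (mul_eq_left.mp h)
    · exfalso
      rw [mul_inv_eq_iff_eq_mul, neg_mul, one_mul] at h
      apply w_ne_neg_one (F := F)
      have : g * w = g * (-1) := by rw [h]; simp
      exact mul_left_cancel this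
    · left
      rwa [mul_inv_eq_iff_eq_mul] at h
    · right
      rwa [mul_inv_eq_iff_eq_mul] at h
  · intro hg
    rw [Subgroup.mem_normalizer_iff_map_conj_eq]
    have hmap : (Subgroup.zpowers (w : Matrix.SpecialLinearGroup (Fin 2) F)).map
        (MulAut.conj g : Matrix.SpecialLinearGroup (Fin 2) F →*
          Matrix.SpecialLinearGroup (Fin 2) F) = Subgroup.zpowers (g * w * g⁻¹) := by
      rw [MonoidHom.map_zpowers]
      rfl
    rw [hmap]
    rcases hg with h | h
    · rw [h, mul_inv_cancel_right]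
    · rw [h, mul_inv_cancel_right, ← w_inv, Subgroup.zpowers_inv]

/-- Rotations. -/
def rot (p : {p : F × F // p.1 ^ 2 + p.2 ^ 2 = 1}) : Matrix.SpecialLinearGroup (Fin 2) F :=
  ⟨!![p.1.1, p.1.2; -p.1.2, p.1.1], by
    rw [Matrix.det_fin_two_of]
    linear_combination p.2⟩

theorem rot00 (p : {p : F × F // p.1 ^ 2 + p.2 ^ 2 = 1}) : rot p 0 0 = p.1.1 := rfl
theorem rot01 (p : {p : F × F // p.1 ^ 2 + p.2 ^ 2 = 1}) : rot p 0 1 = p.1.2 := rfl
theorem rot10 (p : {p : F × F // p.1 ^ 2 + p.2 ^ 2 = 1}) : rot p 1 0 = -p.1.2 := rfl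
theorem rot11 (p : {p : F × F // p.1 ^ 2 + p.2 ^ 2 = 1}) : rot p 1 1 = p.1.1 := rfl

theorem rot_injective : Function.Injective (rot (F := F)) := by
  intro p r h
  have h00 := congrArg (fun y : Matrix.SpecialLinearGroup (Fin 2) F => y 0 0) h
  have h01 := congrArg (fun y : Matrix.SpecialLinearGroup (Fin 2) F => y 0 1) h
  simp only [rot00, rot01] at h00 h01
  exact Subtype.ext (Prod.ext h00 h01)

theorem rot_comm (p : {p : F × F // p.1 ^ 2 + p.2 ^ 2 = 1}) : rot p * w = w * rot p := by
  refine ext2 ?_ ?_ ?_ ?_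
  · rw [mul00, mul00, rot00, rot01, rot10, w00, w01, w10]; ring
  · rw [mul01, mul01, rot00, rot01, rot11, w00, w01, w11]; ring
  · rw [mul10, mul10, rot10, rot11, rot00, w00, w10, w11]; ring
  · rw [mul11, mul11, rot10, rot11, rot01, w01, w10, w11]; ring

theorem exists_rot {g : Matrix.SpecialLinearGroup (Fin 2) F} (hg : g * w = w * g) :
    ∃ p, rot p = g := by
  have e00 := congrArg (fun y : Matrix.SpecialLinearGroup (Fin 2) F => y 0 0) hg
  have e01 := congrArg (fun y : Matrix.SpecialLinearGroup (Fin 2) F => y 0 1) hg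
  simp only [mul00, mul01, w00, w01, w10, w11] at e00 e01
  have hd := det2 g
  have h10 : g 1 0 = - g 0 1 := by linear_combination (-1) * e00
  have h11 : g 1 1 = g 0 0 := by linear_combination (-1) * e01
  refine ⟨⟨(g 0 0, g 0 1), ?_⟩, ?_⟩
  · show g 0 0 ^ 2 + g 0 1 ^ 2 = 1
    rw [h10, h11] at hd
    linear_combination hd
  · exact ext2 rfl rfl h10.symm h11.symm

theorem exists_inverting [Fintype F] (hodd : Odd (Fintype.card F)) :
    ∃ g : Matrix.SpecialLinearGroup (Fin 2) F, g * w = -w * g := by
  obtain ⟨g, hg⟩ := exists_conj_w hodd (-w) (by rw [neg_mul_neg, w_mul_self])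
  exact ⟨g, by rwa [mul_inv_eq_iff_eq_mul] at hg⟩

/-- The order of the normaliser of `⟨w⟩`. -/
theorem card_normalizer_w [Fintype F] (hodd : Odd (Fintype.card F)) :
    Nat.card ↥(Subgroup.normalizer
      ((Subgroup.zpowers (w : Matrix.SpecialLinearGroup (Fin 2) F) :
        Subgroup (Matrix.SpecialLinearGroup (Fin 2) F)) :
        Set (Matrix.SpecialLinearGroup (Fin 2) F))) =
      2 * Nat.card {p : F × F // p.1 ^ 2 + p.2 ^ 2 = 1} := by
  classical
  have h2 := two_ne_zero_of_odd hodd
  obtain ⟨g0, hg0⟩ := exists_inverting hodd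
  have hmem : ∀ g : Matrix.SpecialLinearGroup (Fin 2) F, g ∈ Subgroup.normalizer
      ((Subgroup.zpowers (w : Matrix.SpecialLinearGroup (Fin 2) F) :
        Subgroup (Matrix.SpecialLinearGroup (Fin 2) F)) :
        Set (Matrix.SpecialLinearGroup (Fin 2) F)) ↔ g * w = w * g ∨ g * w = - w * g :=
    fun g => mem_normalizer_zpowers_w
  let f : {p : F × F // p.1 ^ 2 + p.2 ^ 2 = 1} ⊕ {p : F × F // p.1 ^ 2 + p.2 ^ 2 = 1} →
      ↥(Subgroup.normalizer
      ((Subgroup.zpowers (w : Matrix.SpecialLinearGroup (Fin 2) F) :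
        Subgroup (Matrix.SpecialLinearGroup (Fin 2) F)) :
        Set (Matrix.SpecialLinearGroup (Fin 2) F))) := fun x =>
    match x with
    | Sum.inl p => ⟨rot p, (hmem _).mpr (Or.inl (rot_comm p))⟩
    | Sum.inr p => ⟨rot p * g0, (hmem _).mpr (Or.inr (by
        rw [mul_assoc, hg0, ← mul_assoc, mul_neg, rot_comm p, ← neg_mul, mul_assoc]))⟩
  have hf : Function.Bijective f := by
    constructor
    · rintro (p | p) (r | r) h
      · congr 1
        exact rot_injective (congrArg Subtype.val h)
      · exfalso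
        have h' : rot p = rot r * g0 := congrArg Subtype.val h
        have h1 : rot p * w = w * rot p := rot_comm p
        have h3 : rot p * w = -w * rot p := by
          rw [h', mul_assoc, hg0, ← mul_assoc, mul_neg, rot_comm r, ← neg_mul, mul_assoc]
        rw [h1] at h3
        exact w_ne_neg_w h2 (mul_right_cancel h3)
      · exfalso
        have h' : rot r = rot p * g0 := (congrArg Subtype.val h).symm
        have h1 : rot r * w = w * rot r := rot_comm r
        have h3 : rot r * w = -w * rot r := by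
          rw [h', mul_assoc, hg0, ← mul_assoc, mul_neg, rot_comm p, ← neg_mul, mul_assoc]
        rw [h1] at h3
        exact w_ne_neg_w h2 (mul_right_cancel h3)
      · congr 1
        have h' : rot p * g0 = rot r * g0 := congrArg Subtype.val h
        exact rot_injective (mul_right_cancel h')
    · rintro ⟨g, hg⟩
      rcases (hmem g).mp hg with h | h
      · obtain ⟨p, hp⟩ := exists_rot h
        exact ⟨Sum.inl p, Subtype.ext hp⟩
      · have hc : (g * g0⁻¹) * w = w * (g * g0⁻¹) := by
          have h4 : g0⁻¹ * w = -w * g0⁻¹ := by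
            rw [inv_mul_eq_iff_eq_mul, ← mul_assoc, mul_neg, hg0, neg_mul, neg_mul, neg_mul, neg_neg,
              mul_inv_cancel_right]
          simp only [mul_assoc, h4, neg_mul, mul_neg]
          rw [← mul_assoc, h]; simp only [neg_mul, neg_neg, mul_assoc]
        obtain ⟨p, hp⟩ := exists_rot hc
        refine ⟨Sum.inr p, Subtype.ext ?_⟩
        show rot p * g0 = g
        rw [hp, inv_mul_cancel_right]
  rw [← Nat.card_congr (Equiv.ofBijective f hf), Nat.card_sum, two_mul]

/-- The order of the normaliser of a subgroup of order four. -/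
theorem card_normalizer [Fintype F] (hodd : Odd (Fintype.card F))
    (A : Subgroup (Matrix.SpecialLinearGroup (Fin 2) F)) (hA : Nat.card A = 4) :
    Nat.card ↥(Subgroup.normalizer (A : Set (Matrix.SpecialLinearGroup (Fin 2) F))) =
      2 * Nat.card {p : F × F // p.1 ^ 2 + p.2 ^ 2 = 1} := by
  obtain ⟨g, rfl⟩ := exists_map_conj hodd A hA
  rw [← card_normalizer_w hodd, ← Subgroup.map_equiv_normalizer_eq]
  exact Subgroup.card_map_of_injective (MulAut.conj g).injective

/-- Involutions of `PSL_2(q)`, `q` odd, lift to elements with square `-1`. -/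
theorem psl_involution_lift (h2 : (2 : F) ≠ 0) (x : Matrix.ProjectiveSpecialLinearGroup (Fin 2) F)
    (hx : orderOf x = 2) : ∃ g : Matrix.SpecialLinearGroup (Fin 2) F, g * g = -1 ∧
      (QuotientGroup.mk g : Matrix.ProjectiveSpecialLinearGroup (Fin 2) F) = x := by
  obtain ⟨g, rfl⟩ := QuotientGroup.mk_surjective x
  refine ⟨g, ?_, rfl⟩
  have hx2 : (QuotientGroup.mk (g * g) : Matrix.ProjectiveSpecialLinearGroup (Fin 2) F) = 1 := by
    have := pow_orderOf_eq_one (QuotientGroup.mk g : Matrix.ProjectiveSpecialLinearGroup (Fin 2) F)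
    rw [hx, pow_two] at this
    exact this
  have hc : g * g ∈ Subgroup.center (Matrix.SpecialLinearGroup (Fin 2) F) :=
    (QuotientGroup.eq_one_iff _).mp hx2
  have hgc : g ∉ Subgroup.center (Matrix.SpecialLinearGroup (Fin 2) F) := by
    intro h
    have : (QuotientGroup.mk g : Matrix.ProjectiveSpecialLinearGroup (Fin 2) F) = 1 :=
      (QuotientGroup.eq_one_iff _).mpr h
    rw [this, orderOf_one] at hx
    omega
  have hone : ∀ z : Matrix.SpecialLinearGroup (Fin 2) F,
      z ∈ Subgroup.center (Matrix.SpecialLinearGroup (Fin 2) F) → z * z = 1 := by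
    intro z hz
    obtain ⟨r, hr, hrz⟩ := Matrix.SpecialLinearGroup.mem_center_iff.mp hz
    simp only [Fintype.card_fin] at hr
    apply Subtype.ext
    show (z * z : Matrix.SpecialLinearGroup (Fin 2) F).1 = 1
    have : (z * z : Matrix.SpecialLinearGroup (Fin 2) F).1 = z.1 * z.1 := rfl
    rw [this, ← hrz, ← map_mul, ← pow_two, hr, map_one]
  rcases eq_one_or_neg_one_of_mul_self h2 (g * g) (hone _ hc) with h | h
  · exfalso
    rcases eq_one_or_neg_one_of_mul_self h2 g h with h' | h'
    · exact hgc (h' ▸ Subgroup.one_mem _)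
    · apply hgc
      rw [h', Subgroup.mem_center_iff]
      intro y
      simp
  · exact h

/-- All involutions of `PSL_2(q)`, `q` odd, are conjugate. -/
theorem psl_isConj [Fintype F] (hodd : Odd (Fintype.card F))
    (x y : Matrix.ProjectiveSpecialLinearGroup (Fin 2) F) (hx : orderOf x = 2)
    (hy : orderOf y = 2) : IsConj x y := by
  have h2 := two_ne_zero_of_odd hodd
  have key : ∀ x : Matrix.ProjectiveSpecialLinearGroup (Fin 2) F, orderOf x = 2 →
      IsConj (QuotientGroup.mk w : Matrix.ProjectiveSpecialLinearGroup (Fin 2) F) x := by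
    intro x hx
    obtain ⟨g, hg, rfl⟩ := psl_involution_lift h2 x hx
    obtain ⟨k, hk⟩ := exists_conj_w hodd g hg
    rw [isConj_iff]
    refine ⟨QuotientGroup.mk k, ?_⟩
    rw [← hk]
    rfl
  exact (key x hx).symm.trans (key y hy)

end SL

end Cfsg.Agent.ClassicalGeometry.SLTwoFour
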