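import Mathlib
import Cfsg.Agent.LieClassical.HermGen
import Cfsg.Agent.LieClassical.SUBasic
set_option linter.all false

/-!
# Unitary transvections in `SU` and `PSU`, for the automorphism group of `PSU_n(q)`

`T v` is the transvection `x ↦ x + c₀ h(x, v) v`, with `c₀` a fixed nonzero element of trace zero; every
transvection with centre `⟨v⟩` is `T (a v)` for some `a`. `tau v` is its image in `PSU`.
-/

set_option autoImplicit false

namespace Cfsg.Agent.ClassicalGeometry.UnitAutBasic

open Cfsg Cfsg.Agent.LieClassical.HermBasic Cfsg.Agent.LieClassical.HermSiegel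
open Cfsg.Agent.LieClassical.SUBasic (suScalar mem_center_SU_iff coe_suScalar)

variable {F : Type*} [Field F] [Fintype F] {q n : ℕ}

/-- The linear functional `x ↦ h(x, v)`. -/
def hL (n q : ℕ) (v : Fin n → F) : (Fin n → F) →ₗ[F] F where
  toFun x := hermForm n F q x v
  map_add' x y := herm_add_left x y v
  map_smul' c x := herm_smul_left c x v

omit [Fintype F] in
theorem hL_apply (v x : Fin n → F) : hL n q v x = hermForm n F q x v := rfl

omit [Fintype F] in
/-- In dimension at least three there is a nonzero vector orthogonal to two given ones. -/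
theorem exists_ne_zero_orth (hn : 3 ≤ n) (v w : Fin n → F) :
    ∃ x : Fin n → F, x ≠ 0 ∧ hermForm n F q x v = 0 ∧ hermForm n F q x w = 0 := by
  have h : LinearMap.ker ((hL n q v).prod (hL n q w)) ≠ ⊥ := by
    apply LinearMap.ker_ne_bot_of_finrank_lt
    simp
    omega
  obtain ⟨x, hx, hx0⟩ := (Submodule.ne_bot_iff _).1 h
  rw [LinearMap.mem_ker, LinearMap.prod_apply] at hx
  exact ⟨x, hx0, congrArg Prod.fst hx, congrArg Prod.snd hx⟩

/-- A fixed nonzero element of trace zero. -/
noncomputable def c0 (hF : Fintype.card F = q ^ 2) : F := (exists_trace_zero_ne hF).choose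

theorem c0_ne_zero (hF : Fintype.card F = q ^ 2) : c0 hF ≠ 0 :=
  (exists_trace_zero_ne hF).choose_spec.1

theorem c0_tr (hF : Fintype.card F = q ^ 2) : c0 hF + c0 hF ^ q = 0 :=
  (exists_trace_zero_ne hF).choose_spec.2

theorem c0_pow (hF : Fintype.card F = q ^ 2) : c0 hF ^ q = -c0 hF := by
  linear_combination c0_tr hF

/-- Every trace zero element is `c₀ N(a)`. -/
theorem exists_c0_mul_norm (hF : Fintype.card F = q ^ 2) {c : F} (hc : c + c ^ q = 0) :
    ∃ a : F, c0 hF * (a * a ^ q) = c := by
  have h0 := c0_ne_zero hF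
  obtain ⟨a, ha⟩ := exists_norm_eq hF (c := c / c0 hF) (by
    rw [div_pow, c0_pow hF, show c ^ q = -c by linear_combination hc, neg_div_neg_eq])
  exact ⟨a, by rw [ha]; field_simp⟩

theorem isSiegel_c0 (hF : Fintype.card F = q ^ 2) {v : Fin n → F}
    (hv : hermForm n F q v v = 0) : IsSiegel q v 0 (c0 hF) :=
  ⟨hv, herm_zero_left v, by rw [herm_zero_left, add_zero, c0_tr]⟩

open Classical in
/-- The transvection `x ↦ x + c₀ h(x, v) v` for isotropic `v` (and `1` otherwise). -/
noncomputable def T (hF : Fintype.card F = q ^ 2) (v : Fin n → F) : SU n F q :=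
  if hv : hermForm n F q v v = 0 then siegel hF v 0 (c0 hF) (isSiegel_c0 hF hv) else 1

theorem T_eq (hF : Fintype.card F = q ^ 2) {v : Fin n → F} (hv : hermForm n F q v v = 0) :
    T hF v = siegel hF v 0 (c0 hF) (isSiegel_c0 hF hv) := by
  unfold T
  rw [dif_pos hv]

theorem act_T (hF : Fintype.card F = q ^ 2) {v : Fin n → F} (hv : hermForm n F q v v = 0)
    (x : Fin n → F) : act (T hF v) x = x + (c0 hF * hermForm n F q x v) • v := by
  rw [T_eq hF hv, act_siegel, herm_zero_right hF, sub_zero, smul_zero, add_zero]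

omit [Fintype F] in
theorem iso_act {v : Fin n → F} (g : SU n F q) (hv : hermForm n F q v v = 0) :
    hermForm n F q (act g v) (act g v) = 0 := by rw [herm_act, hv]

omit [Fintype F] in
theorem iso_smul {v : Fin n → F} (a : F) (hv : hermForm n F q v v = 0) :
    hermForm n F q (a • v) (a • v) = 0 := by
  rw [herm_smul_left, herm_smul_right, hv, mul_zero, mul_zero]

theorem conj_T (hF : Fintype.card F = q ^ 2) (g : SU n F q) {v : Fin n → F}
    (hv : hermForm n F q v v = 0) : g * T hF v * g⁻¹ = T hF (act g v) := by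
  apply ext_act
  intro x
  rw [act_mul, act_mul, act_T hF hv, act_T hF (iso_act g hv), act_add, act_smul, act_act_inv,
    herm_act_left, inv_inv]

theorem act_T_smul (hF : Fintype.card F = q ^ 2) {v : Fin n → F}
    (hv : hermForm n F q v v = 0) (a : F) (x : Fin n → F) :
    act (T hF (a • v)) x = x + (c0 hF * (a * a ^ q) * hermForm n F q x v) • v := by
  rw [act_T hF (iso_smul a hv), herm_smul_right, smul_smul]
  congr 2
  ring

theorem T_smul_congr (hF : Fintype.card F = q ^ 2) {v : Fin n → F}
    (hv : hermForm n F q v v = 0) {a b : F} (h : a * a ^ q = b * b ^ q) :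
    T hF (a • v) = T hF (b • v) := by
  apply ext_act
  intro x
  rw [act_T_smul hF hv, act_T_smul hF hv, h]

theorem T_mul (hF : Fintype.card F = q ^ 2) {v : Fin n → F}
    (hv : hermForm n F q v v = 0) {a b c : F} (h : a * a ^ q + b * b ^ q = c * c ^ q) :
    T hF (a • v) * T hF (b • v) = T hF (c • v) := by
  apply ext_act
  intro x
  rw [act_mul, act_T_smul hF hv, act_T_smul hF hv, act_T_smul hF hv, herm_add_left,
    herm_smul_left, hv, mul_zero, add_zero, add_assoc, ← add_smul]
  congr 2
  rw [← h]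
  ring

theorem T_zero (hF : Fintype.card F = q ^ 2) : T hF (0 : Fin n → F) = 1 := by
  apply ext_act
  intro x
  rw [act_T hF (herm_zero_left 0), smul_zero, add_zero, act_one]

theorem T_ne_one (hF : Fintype.card F = q ^ 2) {v : Fin n → F}
    (hv : hermForm n F q v v = 0) (h0 : v ≠ 0) : T hF v ≠ 1 := by
  intro h
  obtain ⟨x, hx⟩ := exists_herm_ne_zero hF h0
  have h1 := act_T hF hv x
  rw [h, act_one] at h1
  have h2 : (c0 hF * hermForm n F q x v) • v = 0 := by
    have := h1.symm
    rwa [add_eq_left] at this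
  rcases smul_eq_zero.1 h2 with h3 | h3
  · rcases mul_eq_zero.1 h3 with h4 | h4
    · exact c0_ne_zero hF h4
    · exact hx (herm_eq_zero_swap hF h4)
  · exact h0 h3

/-- `T v = T w` iff `w` is a norm one multiple of `v`. -/
theorem T_eq_T_iff (hF : Fintype.card F = q ^ 2) {v w : Fin n → F}
    (hv : hermForm n F q v v = 0) (hw : hermForm n F q w w = 0) (h0 : v ≠ 0) :
    T hF v = T hF w ↔ ∃ ζ : F, ζ * ζ ^ q = 1 ∧ w = ζ • v := by
  constructor
  · intro h
    obtain ⟨x, hx⟩ := exists_herm_ne_zero hF h0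
    have hx' : hermForm n F q x v ≠ 0 := fun h => hx (herm_eq_zero_swap hF h)
    have h1 := act_T hF hv x
    rw [h, act_T hF hw, add_right_inj] at h1
    have hcw : c0 hF * hermForm n F q x v ≠ 0 := mul_ne_zero (c0_ne_zero hF) hx'
    have hw' : hermForm n F q x w ≠ 0 := by
      intro h2
      rw [h2, mul_zero, zero_smul] at h1
      rcases smul_eq_zero.1 h1.symm with h3 | h3
      · exact hcw h3
      · exact h0 h3
    set a := hermForm n F q x v with ha
    set b := hermForm n F q x w with hb
    have hw2 : w = (a / b) • v := by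
      have : b • w = a • v := by
        have h3 : (c0 hF) • (b • w) = (c0 hF) • (a • v) := by
          rw [smul_smul, smul_smul, h1]
        exact smul_right_injective _ (c0_ne_zero hF) h3
      rw [div_eq_inv_mul, mul_smul, ← this, smul_smul, inv_mul_cancel₀ hw', one_smul]
    obtain ⟨ζ, hζ⟩ : ∃ ζ : F, ζ = a / b := ⟨_, rfl⟩
    rw [← hζ] at hw2
    have hab : a = ζ * b := by rw [hζ]; field_simp
    refine ⟨ζ, ?_, hw2⟩
    have hb2 : b = ζ ^ q * a := by
      rw [hb, hw2, herm_smul_right]
    have h3 : (ζ * ζ ^ q) * b = 1 * b := by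
      rw [hab] at hb2
      linear_combination -hb2
    exact mul_right_cancel₀ hw' h3
  · rintro ⟨ζ, hζ, rfl⟩
    have := T_smul_congr hF hv (a := 1) (b := ζ) (by rw [one_pow, mul_one, hζ])
    rwa [one_smul] at this

/-! ### The quotient -/

/-- The projection `SU → PSU`. -/
def pr (n : ℕ) (F : Type*) [Field F] (q : ℕ) : SU n F q →* PSU n F q :=
  QuotientGroup.mk' (Subgroup.center (SU n F q))

omit [Fintype F] in
theorem pr_surjective : Function.Surjective (pr n F q) := QuotientGroup.mk'_surjective _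

omit [Fintype F] in
theorem pr_eq_pr_iff {g g' : SU n F q} : pr n F q g = pr n F q g' ↔
    g⁻¹ * g' ∈ Subgroup.center (SU n F q) :=
  QuotientGroup.eq

/-- Central elements act as norm one scalars. -/
theorem exists_scalar_of_mem_center (hF : Fintype.card F = q ^ 2) (hn : 3 ≤ n) {z : SU n F q}
    (hz : z ∈ Subgroup.center (SU n F q)) :
    ∃ c : F, c * c ^ q = 1 ∧ ∀ x : Fin n → F, act z x = c • x := by
  obtain ⟨c, hcn, hcq, rfl⟩ := (mem_center_SU_iff hF hn z).1 hz
  refine ⟨c, by rw [← pow_succ', hcq], fun x => ?_⟩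
  rw [act_def, mat_def, coe_suScalar]
  ext i
  rw [Matrix.mulVec_diagonal]
  rfl

omit [Fintype F] in
theorem mem_center_of_scalar {g : SU n F q} {c : F} (h : ∀ x : Fin n → F, act g x = c • x) :
    g ∈ Subgroup.center (SU n F q) := by
  rw [Subgroup.mem_center_iff]
  intro k
  apply ext_act
  intro x
  rw [act_mul, act_mul, h, h, act_smul]

theorem exists_scalar_of_pr_eq (hF : Fintype.card F = q ^ 2) (hn : 3 ≤ n) {g g' : SU n F q}
    (h : pr n F q g = pr n F q g') :
    ∃ c : F, c * c ^ q = 1 ∧ ∀ x : Fin n → F, act g' x = c • act g x := by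
  obtain ⟨c, hc, hx⟩ := exists_scalar_of_mem_center hF hn (pr_eq_pr_iff.1 h)
  refine ⟨c, hc, fun x => ?_⟩
  have := congrArg (act g) (hx x)
  rwa [act_mul, act_act_inv, act_smul] at this

omit [Fintype F] in
theorem pr_eq_of_scalar {g g' : SU n F q} {c : F}
    (h : ∀ x : Fin n → F, act g' x = c • act g x) : pr n F q g = pr n F q g' := by
  rw [pr_eq_pr_iff]
  apply mem_center_of_scalar (c := c)
  intro x
  rw [act_mul, h, act_smul, act_inv_act]

/-- The image of `T v` in `PSU`. -/
noncomputable def tau (hF : Fintype.card F = q ^ 2) (v : Fin n → F) : PSU n F q :=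
  pr n F q (T hF v)

theorem tau_def (hF : Fintype.card F = q ^ 2) (v : Fin n → F) : tau hF v = pr n F q (T hF v) := rfl

/-- `T` is determined by `tau`. -/
theorem T_eq_of_tau_eq (hF : Fintype.card F = q ^ 2) (hn : 3 ≤ n) {v w : Fin n → F}
    (hv : hermForm n F q v v = 0) (hw : hermForm n F q w w = 0)
    (h : tau hF v = tau hF w) : T hF v = T hF w := by
  obtain ⟨c, -, hc⟩ := exists_scalar_of_pr_eq hF hn h
  obtain ⟨x, hx0, hxv, hxw⟩ := exists_ne_zero_orth (q := q) hn v w
  have h1 := hc x
  rw [act_T hF hv, act_T hF hw, hxv, hxw, mul_zero, zero_smul, zero_smul, add_zero] at h1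
  have hc1 : c = 1 := by
    have : (c - 1) • x = 0 := by rw [sub_smul, one_smul, ← h1, sub_self]
    rcases smul_eq_zero.1 this with h2 | h2
    · exact sub_eq_zero.1 h2
    · exact absurd h2 hx0
  apply ext_act
  intro y
  rw [hc y, hc1, one_smul]

theorem tau_eq_tau_iff (hF : Fintype.card F = q ^ 2) (hn : 3 ≤ n) {v w : Fin n → F}
    (hv : hermForm n F q v v = 0) (hw : hermForm n F q w w = 0) (h0 : v ≠ 0) :
    tau hF v = tau hF w ↔ ∃ ζ : F, ζ * ζ ^ q = 1 ∧ w = ζ • v := by
  rw [← T_eq_T_iff hF hv hw h0]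
  exact ⟨T_eq_of_tau_eq hF hn hv hw, fun h => by rw [tau_def, h, tau_def]⟩

theorem conj_tau (hF : Fintype.card F = q ^ 2) (g : SU n F q) {v : Fin n → F}
    (hv : hermForm n F q v v = 0) :
    pr n F q g * tau hF v * (pr n F q g)⁻¹ = tau hF (act g v) := by
  rw [tau_def, tau_def, ← conj_T hF g hv, map_mul, map_mul, map_inv]

theorem tau_smul_congr (hF : Fintype.card F = q ^ 2) {v : Fin n → F}
    (hv : hermForm n F q v v = 0) {a b : F} (h : a * a ^ q = b * b ^ q) :
    tau hF (a • v) = tau hF (b • v) := by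
  rw [tau_def, tau_def, T_smul_congr hF hv h]

theorem tau_mul (hF : Fintype.card F = q ^ 2) {v : Fin n → F}
    (hv : hermForm n F q v v = 0) {a b c : F} (h : a * a ^ q + b * b ^ q = c * c ^ q) :
    tau hF (a • v) * tau hF (b • v) = tau hF (c • v) := by
  rw [tau_def, tau_def, tau_def, ← T_mul hF hv h, map_mul]

theorem tau_zero (hF : Fintype.card F = q ^ 2) : tau hF (0 : Fin n → F) = 1 := by
  rw [tau_def, T_zero, map_one]

theorem tau_eq_one_iff (hF : Fintype.card F = q ^ 2) (hn : 3 ≤ n) {v : Fin n → F}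
    (hv : hermForm n F q v v = 0) : tau hF v = 1 ↔ v = 0 := by
  constructor
  · intro h
    by_contra h0
    have := T_eq_of_tau_eq hF hn hv (herm_zero_left 0) (h.trans (tau_zero hF).symm)
    rw [T_zero] at this
    exact T_ne_one hF hv h0 this
  · rintro rfl
    exact tau_zero hF

/-- Commuting transvections are those with orthogonal centres. -/
theorem tau_comm_iff (hF : Fintype.card F = q ^ 2) (hn : 3 ≤ n) {v w : Fin n → F}
    (hv : hermForm n F q v v = 0) (hw : hermForm n F q w w = 0) (h0 : w ≠ 0) :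
    tau hF v * tau hF w = tau hF w * tau hF v ↔ hermForm n F q w v = 0 := by
  have h1 : tau hF v * tau hF w = tau hF w * tau hF v ↔
      tau hF w = tau hF (act (T hF v) w) := by
    rw [← conj_tau hF (T hF v) hw, ← tau_def, eq_mul_inv_iff_mul_eq, eq_comm]
  rw [h1, tau_eq_tau_iff hF hn hw (iso_act _ hw) h0, act_T hF hv]
  constructor
  · rintro ⟨ζ, -, hζ⟩
    by_contra hne
    have h2 : (c0 hF * hermForm n F q w v) • v = (ζ - 1) • w := by
      rw [sub_smul, one_smul, ← hζ, add_sub_cancel_left]
    have hc : c0 hF * hermForm n F q w v ≠ 0 := mul_ne_zero (c0_ne_zero hF) hne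
    have h3 : v = ((c0 hF * hermForm n F q w v)⁻¹ * (ζ - 1)) • w := by
      rw [mul_smul, ← h2, smul_smul, inv_mul_cancel₀ hc, one_smul]
    apply hne
    rw [h3, herm_smul_right, hw, mul_zero]
  · intro h
    exact ⟨1, by simp, by rw [h, mul_zero, zero_smul, add_zero, one_smul]⟩

end Cfsg.Agent.ClassicalGeometry.UnitAutBasic
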