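import Mathlib
import Cfsg.Prelude.Def_Classical
import Cfsg.Prelude.Def_LieClassical
import Cfsg.Agent.LieClassical.HermBasic
set_option linter.all false

/-!
# Frames for the standard Hermitian form

Orthonormal bases of nondegenerate subspaces of `F^n`, hyperbolic partners of a totally isotropic frame,
and the Witt-type frame adapted to a totally isotropic subspace.
-/

set_option autoImplicit false

namespace Cfsg.Agent.ClassicalGeometry.HermFrame

open Cfsg Cfsg.Agent.LieClassical.HermBasic

variable {F : Type*} [Field F] [Fintype F] {q n : ℕ}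

/-- The functional `v ↦ h(v, w)`. -/
noncomputable def leftFun (q : ℕ) (w : Fin n → F) : (Fin n → F) →ₗ[F] F where
  toFun v := hermForm n F q v w
  map_add' u v := herm_add_left u v w
  map_smul' c v := by simp [herm_smul_left]

omit [Fintype F] in
theorem leftFun_apply (w v : Fin n → F) : leftFun q w v = hermForm n F q v w := rfl

/-- A nondegenerate nonzero subspace contains a vector of norm one. -/
theorem exists_norm_one (hF : Fintype.card F = q ^ 2) {U : Submodule F (Fin n → F)}
    (hU : ∀ u ∈ U, (∀ v ∈ U, hermForm n F q u v = 0) → u = 0) (hne : U ≠ ⊥) :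
    ∃ v ∈ U, hermForm n F q v v = 1 := by
  obtain ⟨u, huU, hu0⟩ := Submodule.exists_mem_ne_zero_of_ne_bot hne
  have hex : ∃ v ∈ U, hermForm n F q v v ≠ 0 := by
    by_contra hcon
    push Not at hcon
    refine hu0 (hU u huU fun v hv => ?_)
    apply eq_zero_of_forall_trace hF
    intro c
    have h1 := hcon (c • u + v) (U.add_mem (U.smul_mem c huU) hv)
    rw [herm_add_left, herm_add_right hF, herm_add_right hF, hcon v hv,
      hcon (c • u) (U.smul_mem c huU), zero_add, add_zero, herm_swap hF (c • u) v,
      herm_smul_left] at h1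
    exact h1
  obtain ⟨v, hvU, hv⟩ := hex
  have hc : (hermForm n F q v v)⁻¹ ^ q = (hermForm n F q v v)⁻¹ := by
    rw [inv_pow, herm_self_pow hF]
  obtain ⟨x, hx⟩ := exists_norm_eq hF hc
  refine ⟨x • v, U.smul_mem x hvU, ?_⟩
  rw [herm_smul_left, herm_smul_right, ← mul_assoc, hx, inv_mul_cancel₀ hv]

/-- A nondegenerate subspace of dimension `m` has an orthonormal basis. -/
theorem exists_orthonormal (hF : Fintype.card F = q ^ 2) (m : ℕ) :
    ∀ U : Submodule F (Fin n → F), Module.finrank F U = m →
      (∀ u ∈ U, (∀ v ∈ U, hermForm n F q u v = 0) → u = 0) →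
      ∃ g : Fin m → (Fin n → F), (∀ i, g i ∈ U) ∧
        ∀ i j, hermForm n F q (g i) (g j) = if i = j then 1 else 0 := by
  induction m with
  | zero =>
    intro U _ _
    exact ⟨fun i => i.elim0, fun i => i.elim0, fun i => i.elim0⟩
  | succ m ih =>
    intro U hUm hU
    have hne : U ≠ ⊥ := by
      rintro rfl
      simp at hUm
    obtain ⟨v, hvU, hv⟩ := exists_norm_one hF hU hne
    -- the complement of `v` in `U`
    set f : U →ₗ[F] F := (leftFun q v).comp U.subtype with hf
    have hfapp : ∀ u : U, f u = hermForm n F q (u : Fin n → F) v := fun u => rfl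
    have hsurj : Function.Surjective f := by
      intro c
      refine ⟨c • ⟨v, hvU⟩, ?_⟩
      rw [map_smul, hfapp, hv, smul_eq_mul, mul_one]
    have hrn := LinearMap.finrank_range_add_finrank_ker f
    rw [LinearMap.range_eq_top.2 hsurj, finrank_top, Module.finrank_self, hUm] at hrn
    set U' : Submodule F (Fin n → F) := (LinearMap.ker f).map U.subtype with hU'
    have hU'm : Module.finrank F U' = m := by
      have : Module.finrank F U' = Module.finrank F (LinearMap.ker f) :=
        Submodule.finrank_map_subtype_eq _ _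
      omega
    have hmem : ∀ u, u ∈ U' ↔ u ∈ U ∧ hermForm n F q u v = 0 := by
      intro u
      simp only [hU', Submodule.mem_map, LinearMap.mem_ker]
      constructor
      · rintro ⟨y, hy, rfl⟩
        exact ⟨y.2, hy⟩
      · rintro ⟨h1, h2⟩
        exact ⟨⟨u, h1⟩, h2, rfl⟩
    have hnd : ∀ u ∈ U', (∀ w ∈ U', hermForm n F q u w = 0) → u = 0 := by
      intro u hu hcon
      obtain ⟨huU, huv⟩ := (hmem u).1 hu
      refine hU u huU fun w hw => ?_
      have h1 : w - hermForm n F q w v • v ∈ U' := by
        rw [hmem]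
        refine ⟨U.sub_mem hw (U.smul_mem _ hvU), ?_⟩
        rw [herm_sub_left, herm_smul_left, hv, mul_one, sub_self]
      have h2 := hcon _ h1
      rwa [herm_sub_right hF, herm_smul_right, huv, mul_zero, sub_zero] at h2
    obtain ⟨g, hgU, hg⟩ := ih U' hU'm hnd
    refine ⟨Fin.cons v g, ?_, ?_⟩
    · intro i
      refine Fin.cases ?_ (fun j => ?_) i
      · exact hvU
      · exact ((hmem _).1 (hgU j)).1
    · intro i j
      refine Fin.cases ?_ (fun i' => ?_) i
      · refine Fin.cases ?_ (fun j' => ?_) j
        · simpa using hv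
        · have h1 := ((hmem _).1 (hgU j')).2
          have h2 : hermForm n F q v (g j') = 0 := herm_eq_zero_swap hF h1
          simp only [Fin.cons_zero, Fin.cons_succ, h2]
          rw [if_neg]
          exact (Fin.succ_ne_zero j').symm
      · refine Fin.cases ?_ (fun j' => ?_) j
        · have h1 := ((hmem _).1 (hgU i')).2
          simp only [Fin.cons_zero, Fin.cons_succ, h1]
          rw [if_neg (Fin.succ_ne_zero i')]
        · simp only [Fin.cons_succ, hg, Fin.succ_inj]

/-- Partners of a linearly independent family. -/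
theorem exists_dual (hF : Fintype.card F = q ^ 2) {k : ℕ} {e : Fin k → (Fin n → F)}
    (he : LinearIndependent F e) :
    ∃ f : Fin k → (Fin n → F), ∀ i j, hermForm n F q (e i) (f j) = if i = j then 1 else 0 := by
  classical
  have hinj : Function.Injective (Fintype.linearCombination F e) :=
    linearIndependent_iff_injective_fintypeLinearCombination.1 he
  obtain ⟨L, hL⟩ := LinearMap.exists_leftInverse_of_injective (Fintype.linearCombination F e)
    (LinearMap.ker_eq_bot.2 hinj)
  refine ⟨fun j l => (L (fun j' => if l = j' then 1 else 0) j) ^ q, fun i j => ?_⟩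
  have h1 : L (e i) = Pi.single i 1 := by
    have := LinearMap.congr_fun hL (Pi.single i 1)
    simpa [Fintype.linearCombination_apply_single] using this
  have h2 := LinearMap.pi_apply_eq_sum_univ L (e i)
  have h3 := congrFun (h1.symm.trans h2) j
  rw [herm_def]
  simp only [pow_q_pow_q hF]
  simp only [Finset.sum_apply, Pi.smul_apply, smul_eq_mul] at h3
  rw [← h3, Pi.single_apply]
  simp only [eq_comm]

/-- Isotropic partners of a totally isotropic linearly independent family. -/
theorem exists_hyperbolic (hF : Fintype.card F = q ^ 2) {k : ℕ} {e : Fin k → (Fin n → F)}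
    (he : LinearIndependent F e) (hiso : ∀ i j, hermForm n F q (e i) (e j) = 0) :
    ∃ f : Fin k → (Fin n → F), (∀ i j, hermForm n F q (e i) (f j) = if i = j then 1 else 0) ∧
      ∀ i j, hermForm n F q (f i) (f j) = 0 := by
  classical
  obtain ⟨f, hf⟩ := exists_dual hF he
  obtain ⟨t, ht⟩ := exists_trace_eq hF (c := 1) (one_pow q)
  have hfe : ∀ i j, hermForm n F q (f i) (e j) = if i = j then 1 else 0 := by
    intro i j
    rw [herm_swap hF (e j) (f i), hf]
    split_ifs with h1 h2 h2
    · exact one_pow q
    · exact absurd h1.symm h2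
    · exact absurd h2.symm h1
    · exact zero_pow_q hF
  refine ⟨fun i => f i - ∑ l, (t * hermForm n F q (f i) (f l)) • e l, ?_, ?_⟩
  · intro i j
    rw [herm_sub_right hF, herm_sum_right hF, hf]
    simp only [herm_smul_right, hiso, mul_zero, Finset.sum_const_zero, sub_zero]
  · intro i j
    rw [herm_sub_left, herm_sub_right hF, herm_sub_right hF, herm_sum_left, herm_sum_left,
      herm_sum_right hF]
    simp only [herm_smul_left, herm_sum_right hF, herm_smul_right, hiso, mul_zero,
      Finset.sum_const_zero, sub_zero, hf, hfe, mul_ite, mul_one, Finset.sum_ite_eq,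
      Finset.sum_ite_eq', Finset.mem_univ, if_true, mul_pow]
    rw [herm_swap hF (f i) (f j), pow_q_pow_q hF]
    have h2 : (t + t ^ q) * hermForm n F q (f i) (f j) = hermForm n F q (f i) (f j) := by
      rw [ht, one_mul]
    linear_combination -h2

/-- Frame adapted to a totally isotropic subspace: `e` a basis of `W`, `f` dual isotropic partners, `g` an
orthonormal basis of the orthogonal complement of the span of `e` and `f`. -/
theorem exists_frame (hF : Fintype.card F = q ^ 2) {k m : ℕ} (hn : n = k + (m + k))
    {W : Submodule F (Fin n → F)} (hWk : Module.finrank F W = k)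
    (hW : ∀ u ∈ W, ∀ v ∈ W, hermForm n F q u v = 0) :
    ∃ (e : Fin k → (Fin n → F)) (g : Fin m → (Fin n → F)) (f : Fin k → (Fin n → F)),
      Submodule.span F (Set.range e) = W ∧
      (∀ i j, hermForm n F q (e i) (e j) = 0) ∧
      (∀ i j, hermForm n F q (e i) (g j) = 0) ∧
      (∀ i j, hermForm n F q (e i) (f j) = if i = j then 1 else 0) ∧
      (∀ i j, hermForm n F q (g i) (g j) = if i = j then 1 else 0) ∧
      (∀ i j, hermForm n F q (g i) (f j) = 0) ∧
      (∀ i j, hermForm n F q (f i) (f j) = 0) := by
  classical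
  set b := Module.finBasisOfFinrankEq F W hWk with hb
  set e : Fin k → (Fin n → F) := fun i => (b i : Fin n → F) with he
  have hspan : Submodule.span F (Set.range e) = W := by
    have h1 : Set.range e = W.subtype '' Set.range b := by
      rw [← Set.range_comp]; rfl
    rw [h1, Submodule.span_image, b.span_eq, Submodule.map_top, Submodule.range_subtype]
  have heW : ∀ i, e i ∈ W := fun i => (b i).2
  have hli : LinearIndependent F e := by
    have := b.linearIndependent.map' W.subtype (Submodule.ker_subtype W)
    exact this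
  have hee : ∀ i j, hermForm n F q (e i) (e j) = 0 := fun i j => hW _ (heW i) _ (heW j)
  obtain ⟨f, hef, hff⟩ := exists_hyperbolic hF hli hee
  have hfe : ∀ i j, hermForm n F q (f i) (e j) = if i = j then 1 else 0 := by
    intro i j
    rw [herm_swap hF (e j) (f i), hef]
    split_ifs with h1 h2 h2
    · exact one_pow q
    · exact absurd h1.symm h2
    · exact absurd h2.symm h1
    · exact zero_pow_q hF
  -- the orthogonal complement
  set T : (Fin n → F) →ₗ[F] (Fin k → F) × (Fin k → F) :=
    (LinearMap.pi fun i => leftFun q (e i)).prod (LinearMap.pi fun i => leftFun q (f i)) with hT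
  have hTapp : ∀ v, T v = (fun i => hermForm n F q v (e i), fun i => hermForm n F q v (f i)) :=
    fun v => rfl
  have hTsurj : Function.Surjective T := by
    rintro ⟨c, d⟩
    refine ⟨∑ i, c i • f i + ∑ i, d i • e i, ?_⟩
    rw [hTapp]
    refine Prod.ext ?_ ?_
    · funext j
      simp only [herm_add_left, herm_sum_left, herm_smul_left, hfe, hee, mul_zero,
        Finset.sum_const_zero, add_zero, mul_ite, mul_one, Finset.sum_ite_eq',
        Finset.mem_univ, if_true]
    · funext j
      simp only [herm_add_left, herm_sum_left, herm_smul_left, hef, hff, mul_zero,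
        Finset.sum_const_zero, zero_add, mul_ite, mul_one, Finset.sum_ite_eq',
        Finset.mem_univ, if_true]
  have hker : Module.finrank F (LinearMap.ker T) = m := by
    have h1 := LinearMap.finrank_range_add_finrank_ker T
    rw [LinearMap.range_eq_top.2 hTsurj, finrank_top, Module.finrank_prod,
      Module.finrank_fin_fun, Module.finrank_fin_fun] at h1
    omega
  have hmem : ∀ v, v ∈ LinearMap.ker T ↔
      (∀ i, hermForm n F q v (e i) = 0) ∧ ∀ i, hermForm n F q v (f i) = 0 := by
    intro v
    rw [LinearMap.mem_ker, hTapp, Prod.ext_iff, funext_iff, funext_iff]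
    rfl
  have hnd : ∀ u ∈ LinearMap.ker T,
      (∀ v ∈ LinearMap.ker T, hermForm n F q u v = 0) → u = 0 := by
    intro u hu hcon
    obtain ⟨hue, huf⟩ := (hmem u).1 hu
    refine herm_nondeg hF fun w => ?_
    set w' := w - ∑ i, hermForm n F q w (f i) • e i - ∑ i, hermForm n F q w (e i) • f i with hw'
    have h1 : w' ∈ LinearMap.ker T := by
      rw [hmem]
      constructor
      · intro j
        simp only [hw', herm_sub_left, herm_sum_left, herm_smul_left, hfe, hee, mul_zero,
          Finset.sum_const_zero, sub_zero, mul_ite, mul_one, Finset.sum_ite_eq',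
          Finset.mem_univ, if_true, sub_self]
      · intro j
        simp only [hw', herm_sub_left, herm_sum_left, herm_smul_left, hef, hff, mul_zero,
          Finset.sum_const_zero, mul_ite, mul_one, Finset.sum_ite_eq',
          Finset.mem_univ, if_true, sub_self]
    have h2 := hcon w' h1
    rw [hw', herm_sub_right hF, herm_sub_right hF, herm_sum_right hF, herm_sum_right hF] at h2
    simpa only [herm_smul_right, hue, huf, mul_zero, Finset.sum_const_zero, sub_zero] using h2
  obtain ⟨g, hgU, hgg⟩ := exists_orthonormal hF m _ hker hnd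
  refine ⟨e, g, f, hspan, hee, ?_, hef, hgg, ?_, hff⟩
  · intro i j
    exact herm_eq_zero_swap hF (((hmem _).1 (hgU j)).1 i)
  · intro i j
    exact ((hmem _).1 (hgU i)).2 j

section Matrix

open Matrix

/-- The Gram matrix of an adapted frame. -/
def gramJ (k m : ℕ) (F : Type*) [Field F] :
    Matrix (Fin k ⊕ (Fin m ⊕ Fin k)) (Fin k ⊕ (Fin m ⊕ Fin k)) F :=
  fromBlocks 0 (fromCols 0 1) (fromRows 0 1) (fromBlocks 1 0 0 0)

omit [Fintype F] in
theorem gramJ_def (k m : ℕ) : gramJ k m F =
    fromBlocks 0 (fromCols 0 1) (fromRows 0 1) (fromBlocks 1 0 0 0) := rfl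

omit [Fintype F] in
theorem gramJ_mul_self (k m : ℕ) : gramJ k m F * gramJ k m F = 1 := by
  rw [gramJ_def, fromBlocks_multiply, fromCols_mul_fromRows, fromRows_mul_fromCols,
    fromBlocks_multiply, fromBlocks_mul_fromRows, fromCols_mul_fromBlocks, fromBlocks_add]
  simp

/-- Matrix form of the adapted frame. -/
theorem exists_frame_matrix (hF : Fintype.card F = q ^ 2) {k m : ℕ} (hn : n = k + (m + k))
    {W : Submodule F (Fin n → F)} (hWk : Module.finrank F W = k)
    (hW : ∀ u ∈ W, ∀ v ∈ W, hermForm n F q u v = 0) :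
    ∃ (P : Matrix (Fin n) (Fin k ⊕ (Fin m ⊕ Fin k)) F)
      (Q : Matrix (Fin k ⊕ (Fin m ⊕ Fin k)) (Fin n) F),
      P * Q = 1 ∧ Q * P = 1 ∧ Pᵀ * P.map (conj hF) = gramJ k m F ∧
      ∀ v : Fin n → F, v ∈ W ↔ ∀ a : Fin m ⊕ Fin k, (Q *ᵥ v) (Sum.inr a) = 0 := by
  classical
  obtain ⟨e, g, f, hspan, hee, heg, hef, hgg, hgf, hff⟩ := exists_frame hF hn hWk hW
  have hge : ∀ i j, hermForm n F q (g i) (e j) = 0 := fun i j => herm_eq_zero_swap hF (heg j i)
  have hfg : ∀ i j, hermForm n F q (f i) (g j) = 0 := fun i j => herm_eq_zero_swap hF (hgf j i)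
  have hfe : ∀ i j, hermForm n F q (f i) (e j) = if i = j then 1 else 0 := by
    intro i j
    rw [herm_swap hF (e j) (f i), hef]
    split_ifs with h1 h2 h2
    · exact one_pow q
    · exact absurd h1.symm h2
    · exact absurd h2.symm h1
    · exact zero_pow_q hF
  set P : Matrix (Fin n) (Fin k ⊕ (Fin m ⊕ Fin k)) F :=
    Matrix.of fun l a => (Sum.elim e (Sum.elim g f) a : Fin n → F) l with hP
  have hG : Pᵀ * P.map (conj hF) = gramJ k m F := by
    ext a b
    have h1 : (Pᵀ * P.map (conj hF)) a b =
        hermForm n F q (Sum.elim e (Sum.elim g f) a) (Sum.elim e (Sum.elim g f) b) := by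
      rw [mul_apply]; rfl
    rw [h1, gramJ_def]
    rcases a with a | a | a <;> rcases b with b | b | b <;>
      simp [hee, heg, hef, hgg, hgf, hff, hge, hfg, hfe, Matrix.one_apply]
  set Q : Matrix (Fin k ⊕ (Fin m ⊕ Fin k)) (Fin n) F := (P.map (conj hF) * gramJ k m F)ᵀ with hQ
  have hQP : Q * P = 1 := by
    rw [hQ, ← Matrix.transpose_transpose P, ← Matrix.transpose_mul, ← Matrix.mul_assoc]
    rw [Matrix.transpose_transpose, hG, gramJ_mul_self, Matrix.transpose_one]
  have hPQ : P * Q = 1 := by
    have hc : Fintype.card (Fin k ⊕ (Fin m ⊕ Fin k)) = Fintype.card (Fin n) := by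
      simp [hn]
    exact (Matrix.mul_eq_one_comm_of_card_eq _ _ _ hc).1 hQP
  refine ⟨P, Q, hPQ, hQP, hG, ?_⟩
  intro v
  constructor
  · intro hv a
    rw [← hspan] at hv
    induction hv using Submodule.span_induction with
    | mem x hx =>
      obtain ⟨i, rfl⟩ := hx
      have h1 : e i = P *ᵥ Pi.single (Sum.inl i) 1 := by
        rw [Matrix.mulVec_single_one]; rfl
      rw [h1, Matrix.mulVec_mulVec, hQP, Matrix.one_mulVec]
      simp
    | zero => simp
    | add x y _ _ hx hy => rw [Matrix.mulVec_add, Pi.add_apply, hx, hy, add_zero]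
    | smul c x _ hx => rw [Matrix.mulVec_smul, Pi.smul_apply, hx, smul_zero]
  · intro hv
    have h1 : v = P *ᵥ (Q *ᵥ v) := by rw [Matrix.mulVec_mulVec, hPQ, Matrix.one_mulVec]
    rw [← hspan, h1, Matrix.mulVec_eq_sum, Fintype.sum_sum_type]
    refine Submodule.add_mem _ ?_ ?_
    · refine Submodule.sum_mem _ fun i _ => ?_
      have h2 : (MulOpposite.op ((Q *ᵥ v) (Sum.inl i)) • Pᵀ (Sum.inl i) : Fin n → F) =
          (Q *ᵥ v) (Sum.inl i) • e i := by
        ext l
        simp [hP, mul_comm]
      rw [h2]
      exact Submodule.smul_mem _ _ (Submodule.subset_span ⟨i, rfl⟩)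
    · have h3 : ∀ a : Fin m ⊕ Fin k, (MulOpposite.op ((Q *ᵥ v) (Sum.inr a)) •
          Pᵀ (Sum.inr a) : Fin n → F) = 0 := by
        intro a
        rw [hv a]
        simp
      rw [Finset.sum_eq_zero fun a _ => h3 a]
      exact Submodule.zero_mem _

end Matrix

end Cfsg.Agent.ClassicalGeometry.HermFrame
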