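import Mathlib
import Cfsg.Prelude.Def_ClassicalGeometry
set_option linter.all false

set_option autoImplicit false
set_option linter.unusedSectionVars false

namespace Cfsg.Agent.ClassicalGeometry.Reflection

open QuadraticMap Matrix

variable {ι : Type} [Fintype ι] [DecidableEq ι]

section CommRing

variable {F : Type*} [CommRing F]

/-- `polarVec Q v` as a dot product computes the polar form. -/
theorem polarVec_dotProduct (Q : QuadraticForm F (ι → F)) (v x : ι → F) :
    Cfsg.polarVec (⇑Q) v ⬝ᵥ x = polar (⇑Q) v x := by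
  have h : (polarBilin Q v) x = ∑ j, x j • polarBilin Q v (Pi.single j 1) := by
    conv_lhs => rw [pi_eq_sum_univ' x]
    rw [map_sum]
    refine Finset.sum_congr rfl fun j _ => ?_
    rw [map_smul]
  rw [polarBilin_apply_apply] at h
  rw [h]
  change (∑ j, polar (⇑Q) v (Pi.single j 1) * x j) = _
  exact Finset.sum_congr rfl fun j _ => mul_comm _ _

theorem polarVec_apply (Q : (ι → F) → F) (v : ι → F) (j : ι) :
    Cfsg.polarVec Q v j = polar Q v (Pi.single j 1) := rfl

theorem siegelMatrix_def (Q : (ι → F) → F) (u v : ι → F) (c : F) :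
    Cfsg.siegelMatrix Q u v c
      = 1 + c • (Matrix.vecMulVec v (Cfsg.polarVec Q u) - Matrix.vecMulVec u (Cfsg.polarVec Q v)) :=
  rfl

theorem siegelMatrix_mulVec (Q : QuadraticForm F (ι → F)) (u v : ι → F) (c : F) (x : ι → F) :
    Cfsg.siegelMatrix (⇑Q) u v c *ᵥ x
      = x + c • (polar (⇑Q) u x • v - polar (⇑Q) v x • u) := by
  rw [siegelMatrix_def, Matrix.add_mulVec, Matrix.one_mulVec, Matrix.smul_mulVec,
    Matrix.sub_mulVec, Matrix.vecMulVec_mulVec, Matrix.vecMulVec_mulVec,
    polarVec_dotProduct, polarVec_dotProduct]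
  simp [op_smul_eq_smul]

/-- `Q (x + y) = Q x + Q y + polar Q x y`. -/
theorem map_add' (Q : QuadraticForm F (ι → F)) (x y : ι → F) :
    Q (x + y) = Q x + Q y + polar (⇑Q) x y := QuadraticMap.map_add Q x y

theorem polar_self' (Q : QuadraticForm F (ι → F)) (x : ι → F) :
    polar (⇑Q) x x = 2 * Q x := by
  rw [QuadraticMap.polar_self]; simp

end CommRing

section Field

variable {F : Type*} [Field F]

theorem reflectionMatrix_def (Q : (ι → F) → F) (v : ι → F) :
    Cfsg.reflectionMatrix Q v = 1 - (Q v)⁻¹ • Matrix.vecMulVec v (Cfsg.polarVec Q v) := rfl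

theorem reflectionMatrix_mulVec (Q : QuadraticForm F (ι → F)) (v x : ι → F) :
    Cfsg.reflectionMatrix (⇑Q) v *ᵥ x = x - ((Q v)⁻¹ * polar (⇑Q) v x) • v := by
  rw [reflectionMatrix_def, Matrix.sub_mulVec, Matrix.one_mulVec, Matrix.smul_mulVec,
    Matrix.vecMulVec_mulVec, polarVec_dotProduct]
  simp [op_smul_eq_smul, smul_smul]

/-- The reflection preserves `Q`. -/
theorem reflectionMatrix_isometry (Q : QuadraticForm F (ι → F)) (v : ι → F) (hv : Q v ≠ 0)
    (x : ι → F) : Q (Cfsg.reflectionMatrix (⇑Q) v *ᵥ x) = Q x := by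
  rw [reflectionMatrix_mulVec, sub_eq_add_neg, ← neg_smul, map_add', QuadraticMap.map_smul,
    QuadraticMap.polar_smul_right, polar_comm (⇑Q) x v]
  simp only [smul_eq_mul]
  field_simp
  ring

theorem reflectionMatrix_mulVec_self (Q : QuadraticForm F (ι → F)) (v : ι → F) (hv : Q v ≠ 0) :
    Cfsg.reflectionMatrix (⇑Q) v *ᵥ v = -v := by
  rw [reflectionMatrix_mulVec, polar_self']
  have : (Q v)⁻¹ * (2 * Q v) = 2 := by field_simp
  rw [this, two_smul]
  abel

theorem reflectionMatrix_mulVec_of_polar_eq_zero (Q : QuadraticForm F (ι → F)) (v x : ι → F)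
    (h : polar (⇑Q) v x = 0) : Cfsg.reflectionMatrix (⇑Q) v *ᵥ x = x := by
  rw [reflectionMatrix_mulVec, h]
  simp

/-- The reflection in `u - v` exchanges `u` and `v` when `Q u = Q v`. -/
theorem reflectionMatrix_sub_mulVec (Q : QuadraticForm F (ι → F)) (u v : ι → F)
    (huv : Q u = Q v) (h : Q (u - v) ≠ 0) :
    Cfsg.reflectionMatrix (⇑Q) (u - v) *ᵥ u = v := by
  have h1 : polar (⇑Q) (u - v) u = Q (u - v) := by
    rw [QuadraticMap.polar_sub_left, polar_self', polar_comm (⇑Q) v u, sub_eq_add_neg u v,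
      map_add', QuadraticMap.map_neg, QuadraticMap.polar_neg_right, ← huv]
    ring
  rw [reflectionMatrix_mulVec, h1, inv_mul_cancel₀ h, one_smul]
  abel

/-- The square of a reflection matrix is `1`. -/
theorem reflectionMatrix_mul_self (Q : QuadraticForm F (ι → F)) (v : ι → F) (hv : Q v ≠ 0) :
    Cfsg.reflectionMatrix (⇑Q) v * Cfsg.reflectionMatrix (⇑Q) v = 1 := by
  apply Matrix.mulVec_injective
  funext x
  rw [← Matrix.mulVec_mulVec, Matrix.one_mulVec, reflectionMatrix_mulVec Q v x,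
    Matrix.mulVec_sub, Matrix.mulVec_smul, reflectionMatrix_mulVec_self Q v hv,
    reflectionMatrix_mulVec]
  rw [smul_neg]
  abel

/-- The determinant of a reflection is `-1` (any characteristic). -/
theorem det_reflectionMatrix (Q : QuadraticForm F (ι → F)) (v : ι → F) (hv : Q v ≠ 0) :
    (Cfsg.reflectionMatrix (⇑Q) v).det = -1 := by
  have h : Cfsg.reflectionMatrix (⇑Q) v
      = 1 + Matrix.replicateCol Unit (-(Q v)⁻¹ • v) * Matrix.replicateRow Unit (Cfsg.polarVec (⇑Q) v) := by
    rw [reflectionMatrix_def, ← Matrix.vecMulVec_eq, Matrix.smul_vecMulVec, neg_smul, sub_eq_add_neg]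
  rw [h, Matrix.det_one_add_replicateCol_mul_replicateRow, dotProduct_smul, polarVec_dotProduct,
    polar_self', smul_eq_mul]
  field_simp
  ring

/-- A matrix preserving `Q` (as `Q (M x) = Q x`) preserves the polar form. -/
theorem polar_mulVec_of_isometry (Q : QuadraticForm F (ι → F)) (M : Matrix ι ι F)
    (hM : ∀ x, Q (M *ᵥ x) = Q x) (x y : ι → F) :
    polar (⇑Q) (M *ᵥ x) (M *ᵥ y) = polar (⇑Q) x y := by
  simp only [polar, ← Matrix.mulVec_add, hM]

/-- Membership in `isometryGroup`. -/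
theorem mem_isometryGroup_iff (Q : (ι → F) → F) (g : Matrix.GeneralLinearGroup ι F) :
    g ∈ Cfsg.isometryGroup F Q ↔ ∀ x, Q ((g : Matrix ι ι F) *ᵥ x) = Q x :=
  ⟨fun h x => h x x, fun h x _ => h x⟩

/-- The reflection as an element of `GL`. -/
def reflGL (Q : QuadraticForm F (ι → F)) (v : ι → F) (hv : Q v ≠ 0) :
    Matrix.GeneralLinearGroup ι F :=
  ⟨Cfsg.reflectionMatrix (⇑Q) v, Cfsg.reflectionMatrix (⇑Q) v,
    reflectionMatrix_mul_self Q v hv, reflectionMatrix_mul_self Q v hv⟩

@[simp] theorem coe_reflGL (Q : QuadraticForm F (ι → F)) (v : ι → F) (hv : Q v ≠ 0) :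
    (reflGL Q v hv : Matrix ι ι F) = Cfsg.reflectionMatrix (⇑Q) v := rfl

/-- The reflection as an element of the isometry group. -/
def reflIso (Q : QuadraticForm F (ι → F)) (v : ι → F) (hv : Q v ≠ 0) :
    Cfsg.isometryGroup F (⇑Q) :=
  ⟨reflGL Q v hv, (mem_isometryGroup_iff _ _).2 fun x => reflectionMatrix_isometry Q v hv x⟩

@[simp] theorem coe_reflIso (Q : QuadraticForm F (ι → F)) (v : ι → F) (hv : Q v ≠ 0) :
    ((reflIso Q v hv : Matrix.GeneralLinearGroup ι F) : Matrix ι ι F)
      = Cfsg.reflectionMatrix (⇑Q) v := rfl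

theorem reflIso_mul_self (Q : QuadraticForm F (ι → F)) (v : ι → F) (hv : Q v ≠ 0) :
    reflIso Q v hv * reflIso Q v hv = 1 := by
  apply Subtype.ext
  apply Units.ext
  exact reflectionMatrix_mul_self Q v hv

theorem reflIso_inv (Q : QuadraticForm F (ι → F)) (v : ι → F) (hv : Q v ≠ 0) :
    (reflIso Q v hv)⁻¹ = reflIso Q v hv :=
  inv_eq_of_mul_eq_one_left (reflIso_mul_self Q v hv)

/-- Two elements of `isometryGroup` are equal iff their matrices act equally. -/
theorem isometryGroup_ext (Q : (ι → F) → F) (g h : Cfsg.isometryGroup F Q)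
    (H : ∀ x, ((g : Matrix.GeneralLinearGroup ι F) : Matrix ι ι F) *ᵥ x
      = ((h : Matrix.GeneralLinearGroup ι F) : Matrix ι ι F) *ᵥ x) : g = h := by
  apply Subtype.ext
  apply Units.ext
  apply Matrix.mulVec_injective
  funext x
  exact H x

/-- Action of a product. -/
theorem coe_mul_mulVec (Q : (ι → F) → F) (g h : Cfsg.isometryGroup F Q) (x : ι → F) :
    (((g * h : Cfsg.isometryGroup F Q) : Matrix.GeneralLinearGroup ι F) : Matrix ι ι F) *ᵥ x
      = ((g : Matrix.GeneralLinearGroup ι F) : Matrix ι ι F) *ᵥ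
        (((h : Matrix.GeneralLinearGroup ι F) : Matrix ι ι F) *ᵥ x) := by
  rw [Matrix.mulVec_mulVec]; rfl

/-- Conjugating a reflection by an isometry gives the reflection in the image vector. -/
theorem conj_reflIso (Q : QuadraticForm F (ι → F)) (v : ι → F) (hv : Q v ≠ 0)
    (g : Cfsg.isometryGroup F (⇑Q))
    (hgv : Q (((g : Matrix.GeneralLinearGroup ι F) : Matrix ι ι F) *ᵥ v) ≠ 0) :
    g * reflIso Q v hv * g⁻¹
      = reflIso Q (((g : Matrix.GeneralLinearGroup ι F) : Matrix ι ι F) *ᵥ v) hgv := by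
  rw [mul_inv_eq_iff_eq_mul]
  have hg := (mem_isometryGroup_iff _ _).1 g.2
  apply isometryGroup_ext
  intro x
  rw [coe_mul_mulVec, coe_mul_mulVec, coe_reflIso, coe_reflIso, reflectionMatrix_mulVec,
    reflectionMatrix_mulVec, Matrix.mulVec_sub, Matrix.mulVec_smul,
    polar_mulVec_of_isometry Q _ hg, hg]

theorem det_reflIso (Q : QuadraticForm F (ι → F)) (v : ι → F) (hv : Q v ≠ 0) :
    (((reflIso Q v hv : Matrix.GeneralLinearGroup ι F) : Matrix ι ι F)).det = -1 :=
  det_reflectionMatrix Q v hv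

end Field

end Cfsg.Agent.ClassicalGeometry.Reflection
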