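import Mathlib
import Cfsg.Prelude.Def_ClassicalGeometry
import Cfsg.Agent.ClassicalGeometry.Reflection
set_option linter.all false

set_option autoImplicit false

namespace Cfsg.Agent.ClassicalGeometry.SpinorSign

open QuadraticMap Matrix Cfsg.Agent.ClassicalGeometry.Reflection

/-! ### Counting with two commuting involutions -/

section Count

variable {α : Type*} [DecidableEq α]

theorem four_dvd_card (σ τ : α → α) (hσ : ∀ x, σ (σ x) = x) (hτ : ∀ x, τ (τ x) = x)
    (hc : ∀ x, σ (τ x) = τ (σ x)) (S : Finset α) :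
    (∀ x ∈ S, σ x ∈ S ∧ τ x ∈ S ∧ σ x ≠ x ∧ τ x ≠ x ∧ σ x ≠ τ x) → 4 ∣ S.card := by
  induction S using Finset.strongInduction with
  | H S ih =>
    intro h
    rcases S.eq_empty_or_nonempty with rfl | ⟨x, hx⟩
    · simp
    · obtain ⟨h1, h2, h3, h4, h5⟩ := h x hx
      have h6 : τ (σ x) ∈ S := (h _ h1).2.1
      have h7 : τ (σ x) ≠ σ x := (h _ h1).2.2.2.1
      have h8 : τ (σ x) ≠ x := fun e => h5 (by rw [← hτ (σ x), e])
      have h9 : τ (σ x) ≠ τ x := fun e => h3 (by rw [← hτ (σ x), e, hτ])
      set T : Finset α := {x, σ x, τ x, τ (σ x)} with hTdef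
      have hT : T ⊆ S := by
        intro y hy
        simp only [hTdef, Finset.mem_insert, Finset.mem_singleton] at hy
        rcases hy with rfl | rfl | rfl | rfl <;> assumption
      have hTcard : T.card = 4 := by
        rw [hTdef, Finset.card_insert_of_notMem, Finset.card_insert_of_notMem,
          Finset.card_insert_of_notMem, Finset.card_singleton]
        · simp only [Finset.mem_singleton]; exact h9.symm
        · simp only [Finset.mem_insert, Finset.mem_singleton, not_or]
          exact ⟨h5, h7.symm⟩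
        · simp only [Finset.mem_insert, Finset.mem_singleton, not_or]
          exact ⟨h3.symm, h4.symm, h8.symm⟩
      have hx' : x ∈ T := by simp [hTdef]
      have hss : S \ T ⊂ S := by
        refine ⟨Finset.sdiff_subset, fun hsub => ?_⟩
        exact (Finset.mem_sdiff.1 (hsub hx)).2 hx'
      have hmem : ∀ y, y ∈ T ↔ σ y ∈ T := by
        have key : ∀ y, y ∈ T → σ y ∈ T := by
          intro y hy
          simp only [hTdef, Finset.mem_insert, Finset.mem_singleton] at hy ⊢
          rcases hy with rfl | rfl | rfl | rfl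
          · exact Or.inr (Or.inl rfl)
          · exact Or.inl (hσ _)
          · exact Or.inr (Or.inr (Or.inr (hc _)))
          · exact Or.inr (Or.inr (Or.inl (by rw [hc, hσ])))
        intro y
        exact ⟨key y, fun hy => by have := key _ hy; rwa [hσ] at this⟩
      have hmem' : ∀ y, y ∈ T ↔ τ y ∈ T := by
        have key : ∀ y, y ∈ T → τ y ∈ T := by
          intro y hy
          simp only [hTdef, Finset.mem_insert, Finset.mem_singleton] at hy ⊢
          rcases hy with rfl | rfl | rfl | rfl
          · exact Or.inr (Or.inr (Or.inl rfl))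
          · exact Or.inr (Or.inr (Or.inr rfl))
          · exact Or.inl (hτ _)
          · exact Or.inr (Or.inl (hτ _))
        intro y
        exact ⟨key y, fun hy => by have := key _ hy; rwa [hτ] at this⟩
      have h10 := ih (S \ T) hss (by
        intro y hy
        rw [Finset.mem_sdiff] at hy
        obtain ⟨a1, a2, a3, a4, a5⟩ := h y hy.1
        refine ⟨Finset.mem_sdiff.2 ⟨a1, fun e => hy.2 ((hmem y).2 e)⟩,
          Finset.mem_sdiff.2 ⟨a2, fun e => hy.2 ((hmem' y).2 e)⟩, a3, a4, a5⟩)
      have h11 : (S \ T).card + T.card = S.card := Finset.card_sdiff_add_card_eq_card hT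
      omega

/-- If `σ`, `τ` are commuting involutions of a finite set and `τ` has no fixed point, the sign of
`σ` is `-1` to the power `#{x | σ x = τ x} / 2`. -/
theorem sign_eq_of_commute_free [Fintype α] (σ τ : Equiv.Perm α) (hσ : ∀ x, σ (σ x) = x)
    (hτ : ∀ x, τ (τ x) = x) (hτ' : ∀ x, τ x ≠ x) (hc : ∀ x, σ (τ x) = τ (σ x)) {k : ℕ}
    (hk : (Finset.univ.filter (fun x => σ x = τ x)).card = 2 * k) :
    Equiv.Perm.sign σ = (-1) ^ k := by
  classical
  have h2 : σ ^ 2 = 1 := by
    ext x; simp [pow_two, hσ]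
  rw [Equiv.Perm.sign_of_pow_two_eq_one h2]
  have h3 : Fintype.card (Function.fixedPoints σ) = (Finset.univ.filter (fun x => σ x = x)).card := by
    rw [Fintype.card_subtype]; rfl
  have h4 : 4 ∣ (Finset.univ.filter (fun x => σ x ≠ x ∧ σ x ≠ τ x)).card := by
    apply four_dvd_card σ τ hσ hτ hc
    intro x hx
    rw [Finset.mem_filter] at hx
    obtain ⟨-, hx1, hx2⟩ := hx
    refine ⟨?_, ?_, hx1, hτ' x, hx2⟩
    · rw [Finset.mem_filter]
      refine ⟨Finset.mem_univ _, fun e => hx1 (σ.injective e), fun e => hx2 (σ.injective ?_)⟩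
      rw [e, hc]
    · rw [Finset.mem_filter]
      refine ⟨Finset.mem_univ _, fun e => hx1 (τ.injective ?_), fun e => hx2 (τ.injective ?_)⟩
      · rw [← hc, e]
      · rw [← hc, e]
  have h5 : (Finset.univ.filter (fun x => σ x = x)).card
      + ((Finset.univ.filter (fun x => σ x = τ x)).card
      + (Finset.univ.filter (fun x => σ x ≠ x ∧ σ x ≠ τ x)).card) = Fintype.card α := by
    rw [← Finset.card_union_of_disjoint, ← Finset.card_union_of_disjoint, ← Finset.card_univ]
    · congr 1
      ext x
      simp only [Finset.mem_union, Finset.mem_filter, Finset.mem_univ, true_and, iff_true]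
      tauto
    · rw [Finset.disjoint_left]
      intro x hx hx'
      simp only [Finset.mem_union, Finset.mem_filter, Finset.mem_univ, true_and] at hx hx'
      rcases hx' with hx' | hx'
      · exact hτ' x (by rw [← hx', hx])
      · exact hx'.1 hx
    · rw [Finset.disjoint_left]
      intro x hx hx'
      simp only [Finset.mem_filter, Finset.mem_univ, true_and] at hx hx'
      exact hx'.2 hx
  obtain ⟨m, hm⟩ := h4
  have h6 : (Fintype.card α - Fintype.card (Function.fixedPoints σ)) / 2 = k + 2 * m := by
    rw [h3]; omega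
  rw [h6, pow_add, pow_mul]
  simp

end Count

variable {ι : Type} [Fintype ι] [DecidableEq ι] {F : Type*} [Field F]

/-! ### The permutation of the quadric `Q x = c` -/

/-- The action of the isometry group on the quadric `Q x = c`. -/
def quadricPerm (Q : (ι → F) → F) (c : F) :
    Cfsg.isometryGroup F Q →* Equiv.Perm {x : ι → F // Q x = c} where
  toFun g :=
    { toFun := fun x => ⟨((g : Matrix.GeneralLinearGroup ι F) : Matrix ι ι F) *ᵥ (x : ι → F), by
        rw [(mem_isometryGroup_iff Q _).1 g.2]; exact x.2⟩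
      invFun := fun x => ⟨(((g⁻¹ : Cfsg.isometryGroup F Q) : Matrix.GeneralLinearGroup ι F) :
          Matrix ι ι F) *ᵥ (x : ι → F), by
        rw [(mem_isometryGroup_iff Q _).1 (g⁻¹).2]; exact x.2⟩
      left_inv := fun x => by
        apply Subtype.ext
        change _ *ᵥ (_ *ᵥ (x : ι → F)) = (x : ι → F)
        rw [← coe_mul_mulVec, inv_mul_cancel]
        simp
      right_inv := fun x => by
        apply Subtype.ext
        change _ *ᵥ (_ *ᵥ (x : ι → F)) = (x : ι → F)
        rw [← coe_mul_mulVec, mul_inv_cancel]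
        simp }
  map_one' := by
    ext x
    simp
  map_mul' g h := by
    apply Equiv.ext
    intro x
    apply Subtype.ext
    exact coe_mul_mulVec Q g h x

theorem coe_quadricPerm (Q : (ι → F) → F) (c : F) (g : Cfsg.isometryGroup F Q)
    (x : {x : ι → F // Q x = c}) :
    ((quadricPerm Q c g x : {x : ι → F // Q x = c}) : ι → F)
      = ((g : Matrix.GeneralLinearGroup ι F) : Matrix ι ι F) *ᵥ (x : ι → F) := rfl

open Classical in
/-- The sign of the permutation of the quadric `Q x = c`; for `c ≠ 0` and finite `F` of odd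
characteristic this is essentially the spinor norm (times a power of the determinant). -/
noncomputable def spinorSign [Finite F] (Q : (ι → F) → F) (c : F) :
    Cfsg.isometryGroup F Q →* ℤˣ :=
  letI := Fintype.ofFinite {x : ι → F // Q x = c}
  (Equiv.Perm.sign (α := {x : ι → F // Q x = c})).comp (quadricPerm Q c)

theorem spinorSign_apply [Finite F] (Q : (ι → F) → F) (c : F) [Fintype {x : ι → F // Q x = c}]
    [DecidableEq {x : ι → F // Q x = c}] (g : Cfsg.isometryGroup F Q) :
    spinorSign Q c g = Equiv.Perm.sign (quadricPerm Q c g) := by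
  unfold spinorSign
  simp only [MonoidHom.comp_apply]
  congr!

theorem spinorSign_reflIso [Finite F] (h2 : (2 : F) ≠ 0) (Q : QuadraticForm F (ι → F)) {c : F}
    (hc : c ≠ 0) (v : ι → F) (hv : Q v ≠ 0) [Decidable (IsSquare (c * Q v))] :
    spinorSign (⇑Q) c (reflIso Q v hv) = if IsSquare (c * Q v) then -1 else 1 := by
  classical
  let _ := Fintype.ofFinite {x : ι → F // Q x = c}
  rw [spinorSign_apply]
  have hv0 : v ≠ 0 := fun e => hv (by rw [e, QuadraticMap.map_zero])
  let τ : Equiv.Perm {x : ι → F // Q x = c} :=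
    { toFun := fun x => ⟨-(x : ι → F), by rw [QuadraticMap.map_neg]; exact x.2⟩
      invFun := fun x => ⟨-(x : ι → F), by rw [QuadraticMap.map_neg]; exact x.2⟩
      left_inv := fun x => Subtype.ext (neg_neg _)
      right_inv := fun x => Subtype.ext (neg_neg _) }
  have hτc : ∀ x, ((τ x : {x : ι → F // Q x = c}) : ι → F) = -(x : ι → F) := fun x => rfl
  have h1 : ∀ x, quadricPerm (⇑Q) c (reflIso Q v hv) (quadricPerm (⇑Q) c (reflIso Q v hv) x) = x := by
    intro x
    rw [← Equiv.Perm.mul_apply, ← map_mul, reflIso_mul_self, map_one]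
    rfl
  have h3 : ∀ x, τ x ≠ x := by
    intro x hx
    have h4 : -(x : ι → F) = x := congrArg Subtype.val hx
    have h5 : (2 : F) • (x : ι → F) = 0 := by
      rw [two_smul]
      nth_rewrite 1 [← h4]
      simp
    rw [smul_eq_zero] at h5
    rcases h5 with h5 | h5
    · exact h2 h5
    · apply hc
      rw [← x.2, h5, QuadraticMap.map_zero]
  have h4 : ∀ x, quadricPerm (⇑Q) c (reflIso Q v hv) (τ x)
      = τ (quadricPerm (⇑Q) c (reflIso Q v hv) x) := by
    intro x
    apply Subtype.ext
    rw [coe_quadricPerm, hτc, hτc, coe_quadricPerm, Matrix.mulVec_neg]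
  -- the points where the reflection acts as `-1`
  have h5 : ∀ x : {x : ι → F // Q x = c}, quadricPerm (⇑Q) c (reflIso Q v hv) x = τ x ↔
      ∃ s : F, (x : ι → F) = s • v := by
    intro x
    rw [Subtype.ext_iff, coe_quadricPerm, hτc, coe_reflIso, reflectionMatrix_mulVec]
    constructor
    · intro h
      refine ⟨2⁻¹ * ((Q v)⁻¹ * polar (⇑Q) v x), ?_⟩
      have h6 : (2 : F) • (x : ι → F) = ((Q v)⁻¹ * polar (⇑Q) v x) • v := by
        rw [two_smul]
        have := sub_eq_iff_eq_add.1 h
        nth_rewrite 1 [this]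
        abel
      rw [mul_smul, ← h6, smul_smul, inv_mul_cancel₀ h2, one_smul]
    · rintro ⟨s, hs⟩
      rw [hs, QuadraticMap.polar_smul_right, polar_self']
      have : (Q v)⁻¹ * s • (2 * Q v) = 2 * s := by
        rw [smul_eq_mul]; field_simp
      rw [this, mul_smul, two_smul]
      abel
  by_cases hsq : IsSquare (c * Q v)
  · rw [if_pos hsq]
    obtain ⟨t, ht⟩ := hsq
    have ht0 : t ≠ 0 := by
      rintro rfl
      rw [mul_zero] at ht
      exact (mul_ne_zero hc hv) ht
    have hs : ∀ s : F, Q (s • v) = c ↔ s = t / Q v ∨ s = -(t / Q v) := by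
      intro s
      rw [QuadraticMap.map_smul, smul_eq_mul, ← sq_eq_sq_iff_eq_or_eq_neg, div_pow, eq_div_iff
        (pow_ne_zero 2 hv)]
      constructor
      · intro h
        rw [← h] at ht
        rw [pow_two t, ← ht]; ring
      · intro h
        have h7 : s * s * Q v * Q v = c * Q v := by
          rw [ht, ← pow_two t, ← h]; ring
        exact mul_right_cancel₀ hv h7
    have hp : Q ((t / Q v) • v) = c := (hs _).2 (Or.inl rfl)
    have hn : Q ((-(t / Q v)) • v) = c := (hs _).2 (Or.inr rfl)
    have h8 : (Finset.univ.filter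
        (fun x => quadricPerm (⇑Q) c (reflIso Q v hv) x = τ x)) = {⟨_, hp⟩, ⟨_, hn⟩} := by
      ext x
      rw [Finset.mem_filter, h5, Finset.mem_insert, Finset.mem_singleton]
      constructor
      · rintro ⟨-, s, hsx⟩
        have := x.2
        rw [hsx, hs] at this
        rcases this with rfl | rfl
        · exact Or.inl (Subtype.ext hsx)
        · exact Or.inr (Subtype.ext hsx)
      · rintro (rfl | rfl)
        · exact ⟨Finset.mem_univ _, _, rfl⟩
        · exact ⟨Finset.mem_univ _, _, rfl⟩
    have h9 : (Finset.univ.filter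
        (fun x => quadricPerm (⇑Q) c (reflIso Q v hv) x = τ x)).card = 2 * 1 := by
      rw [h8, Finset.card_pair]
      intro h
      have h10 := congrArg Subtype.val h
      simp only at h10
      have h11 : (2 * (t / Q v)) • v = 0 := by
        have h12 : (t / Q v) • v - (-(t / Q v)) • v = 0 := sub_eq_zero.2 h10
        rw [← sub_smul] at h12
        rw [← h12]; congr 1; ring
      rw [smul_eq_zero] at h11
      rcases h11 with h11 | h11
      · exact (mul_ne_zero h2 (div_ne_zero ht0 hv)) h11
      · exact hv0 h11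
    rw [sign_eq_of_commute_free _ τ h1 (fun x => Subtype.ext (neg_neg _)) h3 h4 h9, pow_one]
  · rw [if_neg hsq]
    have h9 : (Finset.univ.filter
        (fun x => quadricPerm (⇑Q) c (reflIso Q v hv) x = τ x)).card = 2 * 0 := by
      rw [mul_zero, Finset.card_eq_zero, Finset.filter_eq_empty_iff]
      intro x _
      rw [h5]
      rintro ⟨s, hs⟩
      apply hsq
      refine ⟨s * Q v, ?_⟩
      have := x.2
      rw [hs, QuadraticMap.map_smul, smul_eq_mul] at this
      rw [← this]; ring
    rw [sign_eq_of_commute_free _ τ h1 (fun x => Subtype.ext (neg_neg _)) h3 h4 h9, pow_zero]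

/-! ### Reflections with the same value of `Q` are conjugate under a reflection -/

/-- `reflIso` only depends on the vector. -/
theorem reflIso_congr (Q : QuadraticForm F (ι → F)) {v w : ι → F} (hv : Q v ≠ 0) (hw : Q w ≠ 0)
    (h : v = w) : reflIso Q v hv = reflIso Q w hw := by
  subst h; rfl

/-- `reflIso` does not change if the vector is scaled. -/
theorem reflIso_smul (Q : QuadraticForm F (ι → F)) {c : F} {v : ι → F} (hv : Q v ≠ 0)
    (hcv : Q (c • v) ≠ 0) : reflIso Q (c • v) hcv = reflIso Q v hv := by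
  have hc : c ≠ 0 := by
    rintro rfl
    simp at hcv
  apply isometryGroup_ext
  intro x
  rw [coe_reflIso, coe_reflIso, reflectionMatrix_mulVec, reflectionMatrix_mulVec,
    QuadraticMap.map_smul, QuadraticMap.polar_smul_left, smul_smul]
  congr 2
  simp only [smul_eq_mul]
  field_simp

/-- Two anisotropic vectors of the same length: reflections are conjugate by a reflection
(characteristic not 2). -/
theorem exists_conj_reflIso (h2 : (2 : F) ≠ 0) (Q : QuadraticForm F (ι → F)) {v w : ι → F}
    (hv : Q v ≠ 0) (hw : Q w ≠ 0) (h : Q v = Q w) :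
    ∃ (u : ι → F) (hu : Q u ≠ 0),
      reflIso Q w hw = reflIso Q u hu * reflIso Q v hv * reflIso Q u hu := by
  have hsum : Q (v - w) + Q (v + w) = 4 * Q v := by
    rw [sub_eq_add_neg, map_add', map_add', QuadraticMap.map_neg, QuadraticMap.polar_neg_right, ← h]
    ring
  have h4 : (4 : F) * Q v ≠ 0 := by
    refine mul_ne_zero ?_ hv
    have : (4 : F) = 2 * 2 := by norm_num
    rw [this]; exact mul_ne_zero h2 h2
  by_cases hd : Q (v - w) = 0
  · have hs : Q (v + w) ≠ 0 := by
      intro hs
      rw [hd, hs, add_zero] at hsum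
      exact h4 hsum.symm
    refine ⟨v + w, hs, ?_⟩
    have hs' : Q (v - (-w)) ≠ 0 := by rwa [sub_neg_eq_add]
    have h5 : Cfsg.reflectionMatrix (⇑Q) (v + w) *ᵥ v = -w := by
      have := reflectionMatrix_sub_mulVec Q v (-w) (by rw [QuadraticMap.map_neg]; exact h) hs'
      rwa [sub_neg_eq_add] at this
    have h6 : Q ((((reflIso Q (v + w) hs : Cfsg.isometryGroup F (⇑Q)) :
        Matrix.GeneralLinearGroup ι F) : Matrix ι ι F) *ᵥ v) ≠ 0 := by
      rw [coe_reflIso, h5, QuadraticMap.map_neg]; exact hw
    have h7 := conj_reflIso Q v hv (reflIso Q (v + w) hs) h6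
    rw [reflIso_inv] at h7
    rw [h7]
    have hw' : Q ((-1 : F) • w) ≠ 0 := by
      rw [neg_one_smul, QuadraticMap.map_neg]; exact hw
    rw [← reflIso_smul Q hw hw']
    apply reflIso_congr
    rw [coe_reflIso, h5, neg_one_smul]
  · refine ⟨v - w, hd, ?_⟩
    have h5 := reflectionMatrix_sub_mulVec Q v w h hd
    have h6 : Q ((((reflIso Q (v - w) hd : Cfsg.isometryGroup F (⇑Q)) :
        Matrix.GeneralLinearGroup ι F) : Matrix ι ι F) *ᵥ v) ≠ 0 := by
      rw [coe_reflIso, h5]; exact hw
    have h7 := conj_reflIso Q v hv (reflIso Q (v - w) hd) h6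
    rw [reflIso_inv] at h7
    rw [h7]
    apply reflIso_congr
    rw [coe_reflIso, h5]

/-- If `Q v` and `Q w` are in the same square class, the reflections are conjugate by a
reflection. -/
theorem exists_conj_reflIso_of_isSquare (h2 : (2 : F) ≠ 0) (Q : QuadraticForm F (ι → F))
    {v w : ι → F} (hv : Q v ≠ 0) (hw : Q w ≠ 0) (h : IsSquare (Q v * Q w)) :
    ∃ (u : ι → F) (hu : Q u ≠ 0),
      reflIso Q w hw = reflIso Q u hu * reflIso Q v hv * reflIso Q u hu := by
  obtain ⟨t, ht⟩ := h
  have hw1 : Q ((t / Q w) • w) = Q v := by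
    rw [QuadraticMap.map_smul, smul_eq_mul]
    field_simp
    rw [pow_two, ← ht]
    ring
  have hw2 : Q ((t / Q w) • w) ≠ 0 := by rw [hw1]; exact hv
  obtain ⟨u, hu, h3⟩ := exists_conj_reflIso h2 Q hv hw2 hw1.symm
  refine ⟨u, hu, ?_⟩
  rw [← h3, reflIso_smul Q hw hw2]

/-- The product of two reflections in the same square class is the square of a product of two
reflections. -/
theorem exists_reflIso_mul_reflIso_eq_sq (h2 : (2 : F) ≠ 0) (Q : QuadraticForm F (ι → F))
    {v w : ι → F} (hv : Q v ≠ 0) (hw : Q w ≠ 0) (h : IsSquare (Q v * Q w)) :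
    ∃ (u : ι → F) (hu : Q u ≠ 0),
      reflIso Q v hv * reflIso Q w hw = (reflIso Q v hv * reflIso Q u hu) ^ 2 := by
  obtain ⟨u, hu, h3⟩ := exists_conj_reflIso_of_isSquare h2 Q hv hw h
  refine ⟨u, hu, ?_⟩
  rw [h3, pow_two]
  group

end Cfsg.Agent.ClassicalGeometry.SpinorSign
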