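import Mathlib
import Cfsg.Prelude.Def_ClassicalGeometry
set_option linter.all false

/-!
Basic API for `Cfsg.sympForm` and `Cfsg.sympTransvection`.
-/

set_option autoImplicit false
open Cfsg
open scoped Matrix

namespace Cfsg.Agent.ClassicalGeometry.SympBasic

variable {F : Type*} {m : ℕ}

section CommRing

variable [CommRing F]

theorem sympForm_def (u v : Fin m ⊕ Fin m → F) :
    sympForm m F u v = u ⬝ᵥ (Matrix.J (Fin m) F *ᵥ v) := rfl

theorem sympTransvection_def (v : Fin m ⊕ Fin m → F) (c : F) :
    sympTransvection m v c = 1 + c • Matrix.vecMulVec v (Matrix.J (Fin m) F *ᵥ v) := rfl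

theorem J_mulVec_inl (v : Fin m ⊕ Fin m → F) (i : Fin m) :
    (Matrix.J (Fin m) F *ᵥ v) (Sum.inl i) = - v (Sum.inr i) := by
  have h : v = Sum.elim (v ∘ Sum.inl) (v ∘ Sum.inr) := (Sum.elim_comp_inl_inr v).symm
  conv_lhs => rw [h, Matrix.J, Matrix.fromBlocks_mulVec]
  simp [Matrix.neg_mulVec]

theorem J_mulVec_inr (v : Fin m ⊕ Fin m → F) (i : Fin m) :
    (Matrix.J (Fin m) F *ᵥ v) (Sum.inr i) = v (Sum.inl i) := by
  have h : v = Sum.elim (v ∘ Sum.inl) (v ∘ Sum.inr) := (Sum.elim_comp_inl_inr v).symm
  conv_lhs => rw [h, Matrix.J, Matrix.fromBlocks_mulVec]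
  simp

/-- Explicit formula for the form. -/
theorem sympForm_eq_sum (u v : Fin m ⊕ Fin m → F) :
    sympForm m F u v =
      ∑ i : Fin m, (u (Sum.inr i) * v (Sum.inl i) - u (Sum.inl i) * v (Sum.inr i)) := by
  rw [sympForm_def, dotProduct, Fintype.sum_sum_type, ← Finset.sum_add_distrib]
  refine Finset.sum_congr rfl fun i _ => ?_
  rw [J_mulVec_inl, J_mulVec_inr]
  ring

theorem sympForm_add_left (u u' v : Fin m ⊕ Fin m → F) :
    sympForm m F (u + u') v = sympForm m F u v + sympForm m F u' v := by
  simp only [sympForm_def, add_dotProduct]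

theorem sympForm_add_right (u v v' : Fin m ⊕ Fin m → F) :
    sympForm m F u (v + v') = sympForm m F u v + sympForm m F u v' := by
  simp only [sympForm_def, Matrix.mulVec_add, dotProduct_add]

theorem sympForm_smul_left (c : F) (u v : Fin m ⊕ Fin m → F) :
    sympForm m F (c • u) v = c * sympForm m F u v := by
  simp only [sympForm_def, smul_dotProduct, smul_eq_mul]

theorem sympForm_smul_right (c : F) (u v : Fin m ⊕ Fin m → F) :
    sympForm m F u (c • v) = c * sympForm m F u v := by
  simp only [sympForm_def, Matrix.mulVec_smul, dotProduct_smul, smul_eq_mul]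

theorem sympForm_neg_left (u v : Fin m ⊕ Fin m → F) :
    sympForm m F (-u) v = - sympForm m F u v := by
  simp only [sympForm_def, neg_dotProduct]

theorem sympForm_neg_right (u v : Fin m ⊕ Fin m → F) :
    sympForm m F u (-v) = - sympForm m F u v := by
  simp only [sympForm_def, Matrix.mulVec_neg, dotProduct_neg]

theorem sympForm_sub_left (u u' v : Fin m ⊕ Fin m → F) :
    sympForm m F (u - u') v = sympForm m F u v - sympForm m F u' v := by
  simp only [sympForm_def, sub_dotProduct]

theorem sympForm_sub_right (u v v' : Fin m ⊕ Fin m → F) :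
    sympForm m F u (v - v') = sympForm m F u v - sympForm m F u v' := by
  simp only [sympForm_def, Matrix.mulVec_sub, dotProduct_sub]

@[simp] theorem sympForm_zero_left (v : Fin m ⊕ Fin m → F) :
    sympForm m F 0 v = 0 := by
  simp only [sympForm_def, zero_dotProduct]

@[simp] theorem sympForm_zero_right (v : Fin m ⊕ Fin m → F) :
    sympForm m F v 0 = 0 := by
  simp only [sympForm_def, Matrix.mulVec_zero, dotProduct_zero]

/-- The form is alternating. -/
@[simp] theorem sympForm_self (v : Fin m ⊕ Fin m → F) : sympForm m F v v = 0 := by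
  rw [sympForm_eq_sum]
  refine Finset.sum_eq_zero fun i _ => ?_
  ring

/-- The form is skew-symmetric. -/
theorem sympForm_swap (u v : Fin m ⊕ Fin m → F) :
    sympForm m F u v = - sympForm m F v u := by
  rw [sympForm_eq_sum, sympForm_eq_sum, ← Finset.sum_neg_distrib]
  refine Finset.sum_congr rfl fun i _ => ?_
  ring

/-- `sympForm` as a bilinear map. -/
def sympBilin (m : ℕ) (F : Type*) [CommRing F] :
    (Fin m ⊕ Fin m → F) →ₗ[F] (Fin m ⊕ Fin m → F) →ₗ[F] F :=
  LinearMap.mk₂ F (sympForm m F) sympForm_add_left sympForm_smul_left sympForm_add_right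
    (fun c u v => sympForm_smul_right c u v)

@[simp] theorem sympBilin_apply (u v : Fin m ⊕ Fin m → F) :
    sympBilin m F u v = sympForm m F u v := rfl

theorem sympBilin_isAlt : (sympBilin m F).IsAlt := fun v => sympForm_self v

/-- The value of the form at a basis vector, left. -/
theorem sympForm_single_inr_left (i : Fin m) (v : Fin m ⊕ Fin m → F) :
    sympForm m F (Pi.single (Sum.inr i) 1) v = v (Sum.inl i) := by
  rw [sympForm_def, single_one_dotProduct, J_mulVec_inr]

theorem sympForm_single_inl_left (i : Fin m) (v : Fin m ⊕ Fin m → F) :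
    sympForm m F (Pi.single (Sum.inl i) 1) v = - v (Sum.inr i) := by
  rw [sympForm_def, single_one_dotProduct, J_mulVec_inl]

theorem sympForm_single_inr_right (i : Fin m) (v : Fin m ⊕ Fin m → F) :
    sympForm m F v (Pi.single (Sum.inr i) 1) = - v (Sum.inl i) := by
  rw [sympForm_swap, sympForm_single_inr_left]

theorem sympForm_single_inl_right (i : Fin m) (v : Fin m ⊕ Fin m → F) :
    sympForm m F v (Pi.single (Sum.inl i) 1) = v (Sum.inr i) := by
  rw [sympForm_swap, sympForm_single_inl_left, neg_neg]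

/-- Non-degeneracy: a vector with all left pairings zero is zero. -/
theorem eq_zero_of_forall_sympForm_left {v : Fin m ⊕ Fin m → F}
    (h : ∀ w, sympForm m F w v = 0) : v = 0 := by
  funext j
  rcases j with i | i
  · simpa [sympForm_single_inr_left] using h (Pi.single (Sum.inr i) 1)
  · simpa [sympForm_single_inl_left] using h (Pi.single (Sum.inl i) 1)

theorem eq_zero_of_forall_sympForm_right {v : Fin m ⊕ Fin m → F}
    (h : ∀ w, sympForm m F v w = 0) : v = 0 :=
  eq_zero_of_forall_sympForm_left fun w => by rw [sympForm_swap, h, neg_zero]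

theorem eq_of_forall_sympForm_left {u v : Fin m ⊕ Fin m → F}
    (h : ∀ w, sympForm m F w u = sympForm m F w v) : u = v := by
  rw [← sub_eq_zero]
  exact eq_zero_of_forall_sympForm_left fun w => by rw [sympForm_sub_right, h, sub_self]

theorem eq_of_forall_sympForm_right {u v : Fin m ⊕ Fin m → F}
    (h : ∀ w, sympForm m F u w = sympForm m F v w) : u = v := by
  rw [← sub_eq_zero]
  exact eq_zero_of_forall_sympForm_right fun w => by rw [sympForm_sub_left, h, sub_self]

/-- The bilinear form `sympBilin` is non-degenerate. -/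
theorem sympBilin_nondegenerate : (sympBilin m F).Nondegenerate :=
  ⟨fun _ h => eq_zero_of_forall_sympForm_right h, fun _ h => eq_zero_of_forall_sympForm_left h⟩

/-- `A` is symplectic iff `v ↦ A *ᵥ v` preserves `sympForm`. -/
theorem mem_symplecticGroup_iff {A : Matrix (Fin m ⊕ Fin m) (Fin m ⊕ Fin m) F} :
    A ∈ Matrix.symplecticGroup (Fin m) F ↔
      ∀ u v, sympForm m F (A *ᵥ u) (A *ᵥ v) = sympForm m F u v := by
  have key : ∀ u v, sympForm m F (A *ᵥ u) (A *ᵥ v) =
      u ⬝ᵥ ((Aᵀ * Matrix.J (Fin m) F * A) *ᵥ v) := by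
    intro u v
    rw [sympForm_def, Matrix.mulVec_mulVec, Matrix.dotProduct_mulVec, Matrix.dotProduct_mulVec,
      ← Matrix.vecMul_transpose, Matrix.vecMul_vecMul, Matrix.mul_assoc]
  rw [SymplecticGroup.mem_iff']
  constructor
  · intro h u v
    rw [key, h, sympForm_def]
  · intro h
    ext i j
    have := h (Pi.single i 1) (Pi.single j 1)
    rw [key, sympForm_def, single_one_dotProduct, single_one_dotProduct,
      Matrix.mulVec_single_one, Matrix.mulVec_single_one] at this
    exact this

theorem sympForm_mulVec {A : Matrix (Fin m ⊕ Fin m) (Fin m ⊕ Fin m) F}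
    (hA : A ∈ Matrix.symplecticGroup (Fin m) F) (u v : Fin m ⊕ Fin m → F) :
    sympForm m F (A *ᵥ u) (A *ᵥ v) = sympForm m F u v :=
  mem_symplecticGroup_iff.1 hA u v

/-- The action of a symplectic transvection. -/
theorem sympTransvection_mulVec (v x : Fin m ⊕ Fin m → F) (c : F) :
    sympTransvection m v c *ᵥ x = x + (c * sympForm m F x v) • v := by
  rw [sympTransvection_def, Matrix.add_mulVec, Matrix.one_mulVec, Matrix.smul_mulVec,
    Matrix.vecMulVec_mulVec, sympForm_def, dotProduct_comm x]
  ext i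
  simp only [Pi.add_apply, Pi.smul_apply, MulOpposite.smul_eq_mul_unop, MulOpposite.unop_op,
    smul_eq_mul]
  ring

/-- Symplectic transvections lie in the symplectic group. -/
theorem sympTransvection_mem (v : Fin m ⊕ Fin m → F) (c : F) :
    sympTransvection m v c ∈ Matrix.symplecticGroup (Fin m) F := by
  rw [mem_symplecticGroup_iff]
  intro x y
  rw [sympTransvection_mulVec, sympTransvection_mulVec, sympForm_add_left, sympForm_add_right,
    sympForm_add_right, sympForm_smul_left, sympForm_smul_left, sympForm_smul_right,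
    sympForm_smul_right, sympForm_self, sympForm_swap v y]
  ring

theorem sympTransvection_zero (v : Fin m ⊕ Fin m → F) :
    sympTransvection m v 0 = 1 := by
  rw [sympTransvection_def, zero_smul, add_zero]

/-- The parameters add. -/
theorem sympTransvection_mul (v : Fin m ⊕ Fin m → F) (c d : F) :
    sympTransvection m v c * sympTransvection m v d = sympTransvection m v (c + d) := by
  rw [← Matrix.mulVec_injective.eq_iff]
  funext x
  rw [← Matrix.mulVec_mulVec, sympTransvection_mulVec, sympTransvection_mulVec,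
    sympTransvection_mulVec, sympForm_add_left, sympForm_smul_left, sympForm_self]
  ext i
  simp only [Pi.add_apply, Pi.smul_apply, smul_eq_mul]
  ring

/-- Rescaling the vector. -/
theorem sympTransvection_smul (v : Fin m ⊕ Fin m → F) (a c : F) :
    sympTransvection m (a • v) c = sympTransvection m v (a ^ 2 * c) := by
  rw [← Matrix.mulVec_injective.eq_iff]
  funext x
  rw [sympTransvection_mulVec, sympTransvection_mulVec, sympForm_smul_right]
  ext i
  simp only [Pi.add_apply, Pi.smul_apply, smul_eq_mul]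
  ring

/-- Conjugation of a transvection: `A T_v(c) = T_{Av}(c) A`. -/
theorem mul_sympTransvection {A : Matrix (Fin m ⊕ Fin m) (Fin m ⊕ Fin m) F}
    (hA : A ∈ Matrix.symplecticGroup (Fin m) F) (v : Fin m ⊕ Fin m → F) (c : F) :
    A * sympTransvection m v c = sympTransvection m (A *ᵥ v) c * A := by
  rw [← Matrix.mulVec_injective.eq_iff]
  funext x
  rw [← Matrix.mulVec_mulVec, ← Matrix.mulVec_mulVec, sympTransvection_mulVec,
    sympTransvection_mulVec, sympForm_mulVec hA, Matrix.mulVec_add, Matrix.mulVec_smul]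

theorem conj_sympTransvection {A : Matrix (Fin m ⊕ Fin m) (Fin m ⊕ Fin m) F}
    (hA : A ∈ Matrix.symplecticGroup (Fin m) F) (v : Fin m ⊕ Fin m → F) (c : F) :
    A * sympTransvection m v c * A⁻¹ = sympTransvection m (A *ᵥ v) c := by
  rw [mul_sympTransvection hA, Matrix.mul_assoc,
    Matrix.mul_nonsing_inv _ (SymplecticGroup.symplectic_det hA), Matrix.mul_one]

/-- The symplectic transvections, as elements of the symplectic group. -/
def transv (v : Fin m ⊕ Fin m → F) (c : F) : Matrix.symplecticGroup (Fin m) F :=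
  ⟨sympTransvection m v c, sympTransvection_mem v c⟩

@[simp] theorem coe_transv (v : Fin m ⊕ Fin m → F) (c : F) :
    (transv v c : Matrix (Fin m ⊕ Fin m) (Fin m ⊕ Fin m) F) = sympTransvection m v c := rfl

/-- The subgroup generated by the symplectic transvections (in the form used by the statements). -/
def transvGroup (m : ℕ) (F : Type*) [CommRing F] : Subgroup (Matrix.symplecticGroup (Fin m) F) :=
  Subgroup.closure {A : Matrix.symplecticGroup (Fin m) F |
    ∃ (w : Fin m ⊕ Fin m → F) (c : F),
      (A : Matrix (Fin m ⊕ Fin m) (Fin m ⊕ Fin m) F) = sympTransvection m w c}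

theorem transv_mem_transvGroup (v : Fin m ⊕ Fin m → F) (c : F) :
    transv v c ∈ transvGroup m F :=
  Subgroup.subset_closure ⟨v, c, rfl⟩

theorem coe_mul_mulVec (A B : Matrix.symplecticGroup (Fin m) F) (x : Fin m ⊕ Fin m → F) :
    ((A * B : Matrix.symplecticGroup (Fin m) F) :
      Matrix (Fin m ⊕ Fin m) (Fin m ⊕ Fin m) F) *ᵥ x =
    (A : Matrix (Fin m ⊕ Fin m) (Fin m ⊕ Fin m) F) *ᵥ
      ((B : Matrix (Fin m ⊕ Fin m) (Fin m ⊕ Fin m) F) *ᵥ x) := by
  rw [Submonoid.coe_mul, Matrix.mulVec_mulVec]

end CommRing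

section Field

variable [Field F]

/-- For non-zero `x, y` there is `z` with `f(x,z) ≠ 0` and `f(z,y) ≠ 0`. -/
theorem exists_both_ne_zero {x y : Fin m ⊕ Fin m → F} (hx : x ≠ 0) (hy : y ≠ 0) :
    ∃ z, sympForm m F x z ≠ 0 ∧ sympForm m F y z ≠ 0 := by
  obtain ⟨a, ha⟩ : ∃ a, sympForm m F x a ≠ 0 := by
    by_contra h
    push Not at h
    exact hx (eq_zero_of_forall_sympForm_right h)
  obtain ⟨b, hb⟩ : ∃ b, sympForm m F y b ≠ 0 := by
    by_contra h
    push Not at h
    exact hy (eq_zero_of_forall_sympForm_right h)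
  by_cases ha' : sympForm m F y a = 0
  · by_cases hb' : sympForm m F x b = 0
    · refine ⟨a + b, ?_, ?_⟩
      · rwa [sympForm_add_right, hb', add_zero]
      · rwa [sympForm_add_right, ha', zero_add]
    · exact ⟨b, hb', hb⟩
  · exact ⟨a, ha, ha'⟩

/-- One transvection moves `x` to `y` when `f(x,y) ≠ 0`. -/
theorem transv_sub_mulVec {x y : Fin m ⊕ Fin m → F} (h : sympForm m F x y ≠ 0) :
    sympTransvection m (y - x) (sympForm m F x y)⁻¹ *ᵥ x = y := by
  rw [sympTransvection_mulVec, sympForm_sub_right, sympForm_self, sub_zero,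
    inv_mul_cancel₀ h, one_smul, add_sub_cancel]

theorem transv_sub_mulVec_of_eq {x y u : Fin m ⊕ Fin m → F} (c : F)
    (h : sympForm m F u x = sympForm m F u y) :
    sympTransvection m (y - x) c *ᵥ u = u := by
  rw [sympTransvection_mulVec, sympForm_sub_right, h, sub_self, mul_zero, zero_smul, add_zero]

/-- The transvection group is transitive on non-zero vectors. -/
theorem exists_transvGroup_mulVec_eq {x y : Fin m ⊕ Fin m → F} (hx : x ≠ 0) (hy : y ≠ 0) :
    ∃ A ∈ transvGroup m F,
      (A : Matrix (Fin m ⊕ Fin m) (Fin m ⊕ Fin m) F) *ᵥ x = y := by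
  obtain ⟨z, hxz, hyz⟩ := exists_both_ne_zero hx hy
  have hzy : sympForm m F z y ≠ 0 := by
    rw [sympForm_swap]; exact neg_ne_zero.2 hyz
  refine ⟨transv (y - z) (sympForm m F z y)⁻¹ * transv (z - x) (sympForm m F x z)⁻¹,
    mul_mem (transv_mem_transvGroup _ _) (transv_mem_transvGroup _ _), ?_⟩
  rw [coe_mul_mulVec, coe_transv, coe_transv, transv_sub_mulVec hxz, transv_sub_mulVec hzy]

/-- The stabiliser of `u` in the transvection group is transitive on the vectors `v` with
`f(u,v) = 1`. -/
theorem exists_transvGroup_fix_mulVec_eq {u v w : Fin m ⊕ Fin m → F}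
    (hv : sympForm m F u v = 1) (hw : sympForm m F u w = 1) :
    ∃ A ∈ transvGroup m F,
      (A : Matrix (Fin m ⊕ Fin m) (Fin m ⊕ Fin m) F) *ᵥ u = u ∧
      (A : Matrix (Fin m ⊕ Fin m) (Fin m ⊕ Fin m) F) *ᵥ v = w := by
  by_cases hvw : sympForm m F v w = 0
  · have h1 : sympForm m F v (u + v) ≠ 0 := by
      rw [sympForm_add_right, sympForm_self, sympForm_swap, hv, add_zero]
      exact neg_ne_zero.2 one_ne_zero
    have h2 : sympForm m F (u + v) w ≠ 0 := by
      rw [sympForm_add_left, hvw, hw, add_zero]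
      exact one_ne_zero
    have h3 : sympForm m F u (u + v) = 1 := by
      rw [sympForm_add_right, sympForm_self, hv, zero_add]
    refine ⟨transv (w - (u + v)) (sympForm m F (u + v) w)⁻¹ *
      transv ((u + v) - v) (sympForm m F v (u + v))⁻¹,
      mul_mem (transv_mem_transvGroup _ _) (transv_mem_transvGroup _ _), ?_, ?_⟩
    · rw [coe_mul_mulVec, coe_transv, coe_transv,
        transv_sub_mulVec_of_eq (u := u) _ (hv.trans h3.symm),
        transv_sub_mulVec_of_eq (u := u) _ (h3.trans hw.symm)]
    · rw [coe_mul_mulVec, coe_transv, coe_transv, transv_sub_mulVec h1, transv_sub_mulVec h2]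
  · refine ⟨transv (w - v) (sympForm m F v w)⁻¹, transv_mem_transvGroup _ _, ?_, ?_⟩
    · rw [coe_transv, transv_sub_mulVec_of_eq (u := u) _ (hv.trans hw.symm)]
    · rw [coe_transv, transv_sub_mulVec hvw]

/-- The transvection group is transitive on hyperbolic pairs. -/
theorem exists_transvGroup_hyperbolic {u v u' v' : Fin m ⊕ Fin m → F}
    (h : sympForm m F u v = 1) (h' : sympForm m F u' v' = 1) :
    ∃ A ∈ transvGroup m F,
      (A : Matrix (Fin m ⊕ Fin m) (Fin m ⊕ Fin m) F) *ᵥ u = u' ∧
      (A : Matrix (Fin m ⊕ Fin m) (Fin m ⊕ Fin m) F) *ᵥ v = v' := by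
  have hu : u ≠ 0 := by
    rintro rfl
    rw [sympForm_zero_left] at h
    exact zero_ne_one h
  have hu' : u' ≠ 0 := by
    rintro rfl
    rw [sympForm_zero_left] at h'
    exact zero_ne_one h'
  obtain ⟨A, hA, hAu⟩ := exists_transvGroup_mulVec_eq hu hu'
  have h1 : sympForm m F u' ((A : Matrix (Fin m ⊕ Fin m) (Fin m ⊕ Fin m) F) *ᵥ v) = 1 := by
    rw [← hAu, sympForm_mulVec A.2, h]
  obtain ⟨B, hB, hBu, hBv⟩ := exists_transvGroup_fix_mulVec_eq h1 h'
  refine ⟨B * A, mul_mem hB hA, ?_, ?_⟩
  · rw [coe_mul_mulVec, hAu, hBu]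
  · rw [coe_mul_mulVec, hBv]

end Field

end Cfsg.Agent.ClassicalGeometry.SympBasic
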