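import Mathlib
import Cfsg.Agent.LieClassical.OrthSimple
import Cfsg.Agent.ClassicalGeometry.SympAutSemi
set_option linter.all false

/-!
# Semisimilitudes of a quadratic space and the automorphisms of `E Q / Z(E Q)` they induce
-/

set_option autoImplicit false

namespace Cfsg.Agent.ClassicalGeometry.OrthSemi

open QuadraticMap Cfsg.Agent.LieClassical.OrthCore Cfsg.Agent.LieClassical.OrthTrans
  Cfsg.Agent.LieClassical.OrthSimple Cfsg.Agent.ClassicalGeometry.SympAutSemi

variable {F V : Type*} [Field F] [AddCommGroup V] [Module F V] {Q : QuadraticForm F V}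

/-- `M` is a semisimilitude of `Q` with field automorphism `σ` and multiplier `c`. -/
structure IsSS (Q : QuadraticForm F V) (σ : F ≃+* F) (c : F) (M : Equiv.Perm V) : Prop where
  ne : c ≠ 0
  add : ∀ u v, M (u + v) = M u + M v
  smul : ∀ (a : F) (v : V), M (a • v) = σ a • M v
  form : ∀ v, Q (M v) = c * σ (Q v)

theorem IsSS.sub {σ : F ≃+* F} {c : F} {M : Equiv.Perm V} (h : IsSS Q σ c M) (u v : V) :
    M (u - v) = M u - M v := by
  rw [eq_sub_iff_add_eq, ← h.add, sub_add_cancel]

theorem IsSS.map_zero {σ : F ≃+* F} {c : F} {M : Equiv.Perm V} (h : IsSS Q σ c M) :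
    M 0 = 0 := by
  have := h.sub 0 0
  rwa [sub_self, sub_self] at this

theorem IsSS.polar {σ : F ≃+* F} {c : F} {M : Equiv.Perm V} (h : IsSS Q σ c M) (x y : V) :
    polar Q (M x) (M y) = c * σ (polar Q x y) := by
  simp only [QuadraticMap.polar]
  rw [← h.add, h.form, h.form, h.form, map_sub, map_sub]
  ring

theorem IsSS.mul {σ τ : F ≃+* F} {c d : F} {M N : Equiv.Perm V} (hM : IsSS Q σ c M)
    (hN : IsSS Q τ d N) : IsSS Q (τ.trans σ) (c * σ d) (M * N) := by
  refine ⟨?_, ?_, ?_, ?_⟩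
  · exact mul_ne_zero hM.ne (by simpa using hN.ne)
  · intro u v
    show M (N (u + v)) = M (N u) + M (N v)
    rw [hN.add, hM.add]
  · intro a v
    show M (N (a • v)) = σ (τ a) • M (N v)
    rw [hN.smul, hM.smul]
  · intro v
    show Q (M (N v)) = c * σ d * σ (τ (Q v))
    rw [hM.form, hN.form, map_mul, mul_assoc]

theorem apply_inv (M : Equiv.Perm V) (v : V) : M (M⁻¹ v) = v := M.apply_symm_apply v

theorem inv_apply (M : Equiv.Perm V) (v : V) : M⁻¹ (M v) = v := M.symm_apply_apply v

theorem IsSS.inv {σ : F ≃+* F} {c : F} {M : Equiv.Perm V} (h : IsSS Q σ c M) :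
    IsSS Q σ.symm (σ.symm c⁻¹) M⁻¹ := by
  refine ⟨?_, ?_, ?_, ?_⟩
  · simpa using h.ne
  · intro u v
    apply M.injective
    rw [apply_inv, h.add, apply_inv, apply_inv]
  · intro a v
    apply M.injective
    rw [apply_inv, h.smul, apply_inv, RingEquiv.apply_symm_apply]
  · intro v
    have := h.form (M⁻¹ v)
    rw [apply_inv] at this
    rw [this, map_mul, ← mul_assoc, ← map_mul, inv_mul_cancel₀ h.ne, map_one, one_mul,
      RingEquiv.symm_apply_apply]

/-- The group of semisimilitudes. -/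
def Gam (Q : QuadraticForm F V) : Subgroup (Equiv.Perm V) where
  carrier := {M | ∃ (σ : F ≃+* F) (c : F), IsSS Q σ c M}
  mul_mem' := by
    rintro M N ⟨σ, c, hM⟩ ⟨τ, d, hN⟩
    exact ⟨_, _, hM.mul hN⟩
  one_mem' := ⟨RingEquiv.refl F, 1, one_ne_zero, fun _ _ => rfl, fun _ _ => rfl, fun _ => by
    rw [one_mul]; rfl⟩
  inv_mem' := by
    rintro M ⟨σ, c, hM⟩
    exact ⟨_, _, hM.inv⟩

theorem mem_Gam {M : Equiv.Perm V} : M ∈ Gam Q ↔ ∃ (σ : F ≃+* F) (c : F), IsSS Q σ c M := Iff.rfl

theorem add_of_mem {M : Equiv.Perm V} (hM : M ∈ Gam Q) (u v : V) : M (u + v) = M u + M v := by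
  obtain ⟨σ, c, hM⟩ := hM
  exact hM.add u v

/-- Conjugation of a linear automorphism by a semilinear map. -/
def conjLin (M : Gam Q) (h : V ≃ₗ[F] V) : V ≃ₗ[F] V where
  toFun v := M.1 (h (M.1⁻¹ v))
  invFun v := M.1 (h⁻¹ (M.1⁻¹ v))
  map_add' u v := by
    rw [add_of_mem ((Gam Q).inv_mem M.2), map_add, add_of_mem M.2]
  map_smul' a v := by
    obtain ⟨σ, c, hM⟩ := M.2
    rw [hM.inv.smul, map_smul, hM.smul, RingEquiv.apply_symm_apply]
    rfl
  left_inv v := by
    show M.1 (h.symm (M.1⁻¹ (M.1 (h (M.1⁻¹ v))))) = v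
    rw [inv_apply, LinearEquiv.symm_apply_apply, apply_inv]
  right_inv v := by
    show M.1 (h (M.1⁻¹ (M.1 (h.symm (M.1⁻¹ v))))) = v
    rw [inv_apply, LinearEquiv.apply_symm_apply, apply_inv]

theorem conjLin_apply (M : Gam Q) (h : V ≃ₗ[F] V) (v : V) :
    conjLin M h v = M.1 (h (M.1⁻¹ v)) := rfl

theorem conjLin_apply' (M : Gam Q) (h : V ≃ₗ[F] V) (v : V) :
    conjLin M h (M.1 v) = M.1 (h v) := by
  rw [conjLin_apply, inv_apply]

theorem conjLin_mul (M : Gam Q) (h k : V ≃ₗ[F] V) :
    conjLin M (h * k) = conjLin M h * conjLin M k := by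
  ext v
  show M.1 (h (k (M.1⁻¹ v))) = M.1 (h (M.1⁻¹
    (M.1 (k (M.1⁻¹ v)))))
  rw [inv_apply]

theorem conjLin_one (M : Gam Q) : conjLin M 1 = 1 := by
  ext v
  show M.1 (M.1⁻¹ v) = v
  rw [apply_inv]

theorem conjLin_inv (M : Gam Q) (h : V ≃ₗ[F] V) : conjLin M h⁻¹ = (conjLin M h)⁻¹ := by
  rw [eq_inv_iff_mul_eq_one, ← conjLin_mul, inv_mul_cancel, conjLin_one]

theorem conjLin_mul_left (M N : Gam Q) (h : V ≃ₗ[F] V) :
    conjLin (M * N) h = conjLin M (conjLin N h) := by
  ext v
  show M.1 (N.1 (h ((M.1 * N.1)⁻¹ v))) = M.1 (N.1 (h (N.1⁻¹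
    (M.1⁻¹ v))))
  rw [mul_inv_rev]
  rfl

theorem conjLin_one_left (h : V ≃ₗ[F] V) : conjLin (1 : Gam Q) h = h := by
  ext v
  rfl

theorem conjLin_siegel (M : Gam Q) {σ : F ≃+* F} {c : F} (hM : IsSS Q σ c M.1) {u w : V}
    (hu : Q u = 0) (hw : polar Q u w = 0) :
    ∃ (hu' : Q (M.1 u) = 0) (hw' : polar Q (M.1 u) (c⁻¹ • M.1 w) = 0),
      conjLin M (siegel Q u w hu hw) = siegel Q (M.1 u) (c⁻¹ • M.1 w) hu' hw' := by
  have hu' : Q (M.1 u) = 0 := by rw [hM.form, hu, map_zero, mul_zero]
  have hw' : polar Q (M.1 u) (c⁻¹ • M.1 w) = 0 := by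
    rw [polar_smul_right, hM.polar, hw, map_zero, mul_zero, smul_zero]
  refine ⟨hu', hw', ?_⟩
  ext v
  obtain ⟨v, rfl⟩ := M.1.surjective v
  rw [conjLin_apply', siegel_apply, siegel_apply, hM.sub, hM.sub, hM.add, hM.smul, hM.smul,
    hM.smul, QuadraticMap.map_smul, hM.form, polar_smul_left, hM.polar, hM.polar, map_mul, smul_smul]
  have hc := hM.ne
  have e1 : c * σ (polar Q u v) * c⁻¹ = σ (polar Q u v) := by field_simp
  have e2 : c⁻¹ • (c * σ (polar Q w v)) = σ (polar Q w v) := by
    rw [smul_eq_mul]; field_simp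
  have e3 : (c⁻¹ * c⁻¹) • (c * σ (Q w)) * (c * σ (polar Q u v)) = σ (Q w) * σ (polar Q u v) := by
    rw [smul_eq_mul]; field_simp
  rw [e1, e2, e3]

theorem conjLin_mem_E (M : Gam Q) {h : V ≃ₗ[F] V} (hh : h ∈ E Q) : conjLin M h ∈ E Q := by
  obtain ⟨σ, c, hM⟩ := M.2
  induction hh using Subgroup.closure_induction with
  | mem x hx =>
    obtain ⟨u, w, hu, hw, rfl⟩ := hx
    obtain ⟨hu', hw', e⟩ := conjLin_siegel M hM hu hw
    rw [e]
    exact siegel_mem_E hu' hw'
  | one => rw [conjLin_one]; exact (E Q).one_mem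
  | mul x y _ _ hx hy =>
    rw [conjLin_mul]
    exact (E Q).mul_mem hx hy
  | inv x _ hx =>
    rw [conjLin_inv]
    exact (E Q).inv_mem hx

/-- Semisimilitudes act on `E Q` by conjugation. -/
def conjE (Q : QuadraticForm F V) : Gam Q →* MulAut ↥(E Q) where
  toFun M :=
    { toFun := fun h => ⟨conjLin M h.1, conjLin_mem_E M h.2⟩
      invFun := fun h => ⟨conjLin M⁻¹ h.1, conjLin_mem_E M⁻¹ h.2⟩
      left_inv := fun h => by
        apply Subtype.ext
        show conjLin M⁻¹ (conjLin M h.1) = h.1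
        rw [← conjLin_mul_left, inv_mul_cancel, conjLin_one_left]
      right_inv := fun h => by
        apply Subtype.ext
        show conjLin M (conjLin M⁻¹ h.1) = h.1
        rw [← conjLin_mul_left, mul_inv_cancel, conjLin_one_left]
      map_mul' := fun h k => Subtype.ext (conjLin_mul M h.1 k.1) }
  map_one' := by
    ext h : 2
    exact conjLin_one_left h.1
  map_mul' M N := by
    ext h : 2
    exact conjLin_mul_left M N h.1

theorem coe_conjE (M : Gam Q) (h : ↥(E Q)) : (conjE Q M h : V ≃ₗ[F] V) = conjLin M h.1 := rfl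

/-- The automorphism of `E Q / Z(E Q)` induced by a semisimilitude. -/
def Psi (Q : QuadraticForm F V) : Gam Q →* MulAut (↥(E Q) ⧸ Subgroup.center ↥(E Q)) :=
  quotAut.comp (conjE Q)

theorem Psi_mk (M : Gam Q) (h : ↥(E Q)) :
    Psi Q M (QuotientGroup.mk h) = QuotientGroup.mk (conjE Q M h) := rfl

/-- An automorphism of a perfect group which is trivial modulo the centre is trivial. -/
theorem eq_one_of_quotAut {G : Type*} [Group G] (hG : commutator G = ⊤) (α : MulAut G)
    (h : quotAut α = 1) : α = 1 := by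
  have h1 : ∀ x : G, ∃ z ∈ Subgroup.center G, α x = x * z := by
    intro x
    have h2 := DFunLike.congr_fun h (QuotientGroup.mk x)
    rw [quotAut_mk] at h2
    have h3 : (QuotientGroup.mk (α x) : G ⧸ Subgroup.center G) = QuotientGroup.mk x := h2
    rw [QuotientGroup.eq] at h3
    refine ⟨x⁻¹ * α x, ?_, by group⟩
    have := (Subgroup.center G).inv_mem h3
    simpa using this
  have key : ∀ x ∈ commutator G, α x = x := by
    intro x hx
    rw [commutator_eq_closure] at hx
    induction hx using Subgroup.closure_induction with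
    | mem x hx =>
      obtain ⟨a, b, rfl⟩ := hx
      obtain ⟨z, hz, ha⟩ := h1 a
      obtain ⟨w, hw, hb⟩ := h1 b
      rw [Subgroup.mem_center_iff] at hz hw
      rw [commutatorElement_def, map_mul, map_mul, map_mul, map_inv, map_inv, ha, hb]
      have e1 : a * z * (b * w) = a * b * (z * w) := by
        rw [mul_assoc, ← mul_assoc z, ← hz b]; group
      have e2 : (a * z)⁻¹ * (b * w)⁻¹ = a⁻¹ * b⁻¹ * (z * w)⁻¹ := by
        have hz' : ∀ g, g * z⁻¹ = z⁻¹ * g := fun g => by
          have := hz g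
          calc g * z⁻¹ = z⁻¹ * (z * g) * z⁻¹ := by group
            _ = z⁻¹ * (g * z) * z⁻¹ := by rw [this]
            _ = z⁻¹ * g := by group
        have hw' : ∀ g, g * w⁻¹ = w⁻¹ * g := fun g => by
          have := hw g
          calc g * w⁻¹ = w⁻¹ * (w * g) * w⁻¹ := by group
            _ = w⁻¹ * (g * w) * w⁻¹ := by rw [this]
            _ = w⁻¹ * g := by group
        rw [mul_inv_rev, mul_inv_rev, mul_inv_rev]
        calc z⁻¹ * a⁻¹ * (w⁻¹ * b⁻¹) = z⁻¹ * (a⁻¹ * w⁻¹) * b⁻¹ := by group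
          _ = z⁻¹ * (w⁻¹ * a⁻¹) * b⁻¹ := by rw [hw']
          _ = (z⁻¹ * (w⁻¹ * (a⁻¹ * b⁻¹))) := by group
          _ = (w⁻¹ * (a⁻¹ * b⁻¹)) * z⁻¹ := by rw [hz']
          _ = ((a⁻¹ * b⁻¹) * w⁻¹) * z⁻¹ := by rw [hw']
          _ = a⁻¹ * b⁻¹ * (w⁻¹ * z⁻¹) := by group
      have e3 : a * z * (b * w) * (a * z)⁻¹ * (b * w)⁻¹
          = (a * z * (b * w)) * ((a * z)⁻¹ * (b * w)⁻¹) := by group
      rw [e3, e1, e2]
      have hzw : ∀ g, g * (z * w) = (z * w) * g := fun g => by
        rw [← mul_assoc, hz, mul_assoc, hw, ← mul_assoc]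
      calc a * b * (z * w) * (a⁻¹ * b⁻¹ * (z * w)⁻¹)
          = a * b * ((z * w) * (a⁻¹ * b⁻¹)) * (z * w)⁻¹ := by group
        _ = a * b * ((a⁻¹ * b⁻¹) * (z * w)) * (z * w)⁻¹ := by rw [hzw]
        _ = a * b * a⁻¹ * b⁻¹ := by group
    | one => rw [map_one]
    | mul x y _ _ hx hy => rw [map_mul, hx, hy]
    | inv x _ hx => rw [map_inv, hx]
  ext x
  exact key x (by rw [hG]; exact Subgroup.mem_top x)

theorem commutator_E (hG : Good Q) : commutator ↥(E Q) = ⊤ := by
  rw [← (Subgroup.map_injective (E Q).subtype_injective).eq_iff, commutator_def,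
    Subgroup.map_commutator, ← MonoidHom.range_eq_map, Subgroup.range_subtype, hG.E_perfect]

theorem siegel_eq_of_eq {u w u' w' : V} {hu : Q u = 0} {hw : polar Q u w = 0} {hu' : Q u' = 0}
    {hw' : polar Q u' w' = 0} (h : siegel Q u w hu hw = siegel Q u' w' hu' hw') (v : V) :
    polar Q u v • w - polar Q w v • u - (Q w * polar Q u v) • u =
      polar Q u' v • w' - polar Q w' v • u' - (Q w' * polar Q u' v) • u' := by
  have h1 := LinearEquiv.congr_fun h v
  rw [siegel_apply, siegel_apply] at h1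
  have h2 : v + (polar Q u v • w - polar Q w v • u - (Q w * polar Q u v) • u) =
      v + (polar Q u' v • w' - polar Q w' v • u' - (Q w' * polar Q u' v) • u') := by
    rw [← add_sub_assoc, ← add_sub_assoc, h1, ← add_sub_assoc, ← add_sub_assoc]
  exact add_left_cancel h2

/-- A vector fixed by all Siegel transformations with singular vector `u` is a multiple of `u`. -/
theorem eq_smul_of_fixed (hG : Good Q) {u : V} (hu : Q u = 0) (hu0 : u ≠ 0) {x : V}
    (h : ∀ (w : V) (hw : polar Q u w = 0), siegel Q u w hu hw x = x) : ∃ c : F, x = c • u := by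
  by_contra hcon
  push Not at hcon
  obtain ⟨y, hy1, hy2⟩ := exists_sep hG.nondeg hcon
  have h1 := h y hy1
  rw [siegel_apply] at h1
  have h2 : polar Q u x • y = (polar Q y x + Q y * polar Q u x) • u := by
    have h3 : (polar Q u x • y - polar Q y x • u - (Q y * polar Q u x) • u) = 0 := by
      have : x + (polar Q u x • y - polar Q y x • u - (Q y * polar Q u x) • u) = x + 0 := by
        rw [← add_sub_assoc, ← add_sub_assoc, h1, add_zero]
      exact add_left_cancel this
    rw [add_smul, ← sub_eq_zero, ← h3]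
    abel
  have hyx : polar Q y x = 1 := by rw [polar_comm]; exact hy2
  rw [hyx] at h2
  by_cases h0 : polar Q u x = 0
  · rw [h0, zero_smul, mul_zero, add_zero, one_smul] at h2
    exact hu0 h2.symm
  · -- `y` is a multiple of `u`; take a vector `z ⊥ u` not of this form
    have hy : ∃ d : F, y = d • u := by
      refine ⟨(polar Q u x)⁻¹ * (1 + Q y * polar Q u x), ?_⟩
      rw [mul_smul, ← h2, smul_smul, inv_mul_cancel₀ h0, one_smul]
    obtain ⟨u', hu'⟩ := exists_hyp hG.nondeg hu hu0
    obtain ⟨z, w, hz, hz1, hz2, hz3, hz4⟩ := hG.exists_hyp2 hu'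
    have h4 := h z hz1
    rw [siegel_apply] at h4
    have h5 : polar Q u x • z = (polar Q z x + Q z * polar Q u x) • u := by
      have h3 : (polar Q u x • z - polar Q z x • u - (Q z * polar Q u x) • u) = 0 := by
        have : x + (polar Q u x • z - polar Q z x • u - (Q z * polar Q u x) • u) = x + 0 := by
          rw [← add_sub_assoc, ← add_sub_assoc, h4, add_zero]
        exact add_left_cancel this
      rw [add_smul, ← sub_eq_zero, ← h3]
      abel
    have h6 := congrArg (polar Q w) h5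
    rw [polar_smul_right, polar_smul_right, polar_comm Q w z, hz.pair, polar_comm Q w u, hz2,
      smul_zero, smul_eq_mul, mul_one] at h6
    exact h0 h6

/-- A semisimilitude commuting with `E Q` is a scalar. -/
theorem exists_scalar_of_conjE (hG : Good Q) (M : Gam Q) (h : conjE Q M = 1) :
    ∃ a : F, a ≠ 0 ∧ ∀ v, M.1 v = a • v := by
  obtain ⟨σ, c, hM⟩ := M.2
  have hcomm : ∀ (k : V ≃ₗ[F] V), k ∈ E Q → ∀ v, M.1 (k v) = k (M.1 v) := by
    intro k hk v
    have h1 : conjLin M k = k := by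
      have := DFunLike.congr_fun h (⟨k, hk⟩ : ↥(E Q))
      exact congrArg Subtype.val this
    rw [← conjLin_apply', h1]
  have hfix : ∀ u : V, Q u = 0 → ∃ a : F, M.1 u = a • u := by
    intro u hu
    by_cases hu0 : u = 0
    · exact ⟨0, by rw [hu0, hM.map_zero, smul_zero]⟩
    refine eq_smul_of_fixed hG hu hu0 fun w hw => ?_
    rw [← hcomm _ (siegel_mem_E hu hw)]
    congr 1
    rw [siegel_apply, polar_self_of_sing hu, polar_comm Q w u, hw]
    simp
  -- orthogonal independent singular vectors have the same factor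
  have hkey : ∀ {x y : V} {a b : F}, Q x = 0 → Q y = 0 → polar Q x y = 0 → x ≠ 0 →
      (∀ e : F, y ≠ e • x) → M.1 x = a • x → M.1 y = b • y → a = b := by
    intro x y a b hx hy hxy hx0 hind ha hb
    have hs : Q (x + y) = 0 := by rw [Q_add, hx, hy, hxy]; simp
    obtain ⟨e, he⟩ := hfix _ hs
    rw [hM.add, ha, hb, smul_add] at he
    have h2 : (e - b) • y = (a - e) • x := by
      have : (a - e) • x - (e - b) • y = (a • x + b • y) - (e • x + e • y) := by module
      rw [he, sub_self] at this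
      exact (sub_eq_zero.1 this).symm
    by_cases h3 : e - b = 0
    · rw [h3, zero_smul] at h2
      have h4 : a - e = 0 := by
        rcases smul_eq_zero.1 h2.symm with h5 | h5
        · exact h5
        · exact absurd h5 hx0
      linear_combination h3 + h4
    · exfalso
      apply hind ((e - b)⁻¹ * (a - e))
      rw [mul_smul, ← h2, smul_smul, inv_mul_cancel₀ h3, one_smul]
  obtain ⟨x, y, hxy⟩ := hG.exists_hyp
  obtain ⟨z, w, hz, hz1, hz2, hz3, hz4⟩ := hG.exists_hyp2 hxy
  obtain ⟨a, ha⟩ := hfix x hxy.left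
  obtain ⟨b, hb⟩ := hfix z hz.left
  have hzx : ∀ e : F, z ≠ e • x := by
    rintro e rfl
    have := hz.pair
    rw [polar_smul_left, hz2, smul_zero] at this
    exact zero_ne_one this
  have hab : a = b := hkey hxy.left hz.left hz1 hxy.left_ne hzx ha hb
  have ha0 : a ≠ 0 := by
    rintro rfl
    rw [zero_smul, ← hM.map_zero] at ha
    exact hxy.left_ne (M.1.injective ha)
  have hσ : ∀ t : F, σ t = t := by
    intro t
    by_cases ht : t = 0
    · rw [ht, _root_.map_zero]
    have h1 : M.1 (t • x) = (σ t * a * t⁻¹) • (t • x) := by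
      rw [hM.smul, ha, smul_smul, smul_smul]
      congr 1
      field_simp
    have h2 : σ t * a * t⁻¹ = b := by
      refine hkey (x := t • x) (y := z) ?_ hz.left ?_ ?_ ?_ h1 hb
      · rw [QuadraticMap.map_smul, hxy.left, smul_zero]
      · rw [polar_smul_left, hz1, smul_zero]
      · exact smul_ne_zero ht hxy.left_ne
      · intro e he
        exact hzx (e * t) (by rw [mul_smul]; exact he)
    rw [← hab] at h2
    have h3 : σ t * a = a * t := by
      calc σ t * a = σ t * a * t⁻¹ * t := by field_simp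
        _ = a * t := by rw [h2]
    have h4 : (σ t - t) * a = 0 := by linear_combination h3
    rcases mul_eq_zero.1 h4 with h5 | h5
    · exact sub_eq_zero.1 h5
    · exact absurd h5 ha0
  let n : V ≃ₗ[F] V :=
    { toFun := M.1
      invFun := M.1.symm
      map_add' := hM.add
      map_smul' := fun t v => by rw [hM.smul, hσ]; rfl
      left_inv := M.1.left_inv
      right_inv := M.1.right_inv }
  obtain ⟨d, hd⟩ := good_eq_smul_of_fix hG (n := n) hfix
  refine ⟨d, ?_, hd⟩
  rintro rfl
  have := hd x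
  rw [zero_smul] at this
  have h0 : M.1 x = M.1 0 := by rw [hM.map_zero]; exact this
  exact hxy.left_ne (M.1.injective h0)

/-- Scalars as semisimilitudes. -/
def scal (Q : QuadraticForm F V) : Fˣ →* Gam Q where
  toFun a := ⟨
    { toFun := fun v => (a : F) • v
      invFun := fun v => ((a⁻¹ : Fˣ) : F) • v
      left_inv := fun v => by
        show ((a⁻¹ : Fˣ) : F) • (a : F) • v = v
        rw [smul_smul, Units.inv_mul, one_smul]
      right_inv := fun v => by
        show (a : F) • ((a⁻¹ : Fˣ) : F) • v = v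
        rw [smul_smul, Units.mul_inv, one_smul] },
    RingEquiv.refl F, a * a, mul_ne_zero a.ne_zero a.ne_zero, fun u v => smul_add _ _ _,
    fun t v => smul_comm _ _ _, fun v => by
      show Q ((a : F) • v) = _
      rw [QuadraticMap.map_smul]; rfl⟩
  map_one' := by
    apply Subtype.ext
    ext v
    show ((1 : Fˣ) : F) • v = v
    rw [Units.val_one, one_smul]
  map_mul' a b := by
    apply Subtype.ext
    ext v
    show ((a * b : Fˣ) : F) • v = (a : F) • (b : F) • v
    rw [Units.val_mul, mul_smul]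

theorem scal_apply (a : Fˣ) (v : V) : (scal Q a).1 v = (a : F) • v := rfl

theorem scal_injective (hG : Good Q) : Function.Injective (scal Q) := by
  obtain ⟨x, y, hxy⟩ := hG.exists_hyp
  intro a b h
  have h1 : (scal Q a).1 x = (scal Q b).1 x := by rw [h]
  rw [scal_apply, scal_apply] at h1
  have h2 : ((a : F) - (b : F)) • x = 0 := by rw [sub_smul, h1, sub_self]
  rcases smul_eq_zero.1 h2 with h3 | h3
  · exact Units.ext (sub_eq_zero.1 h3)
  · exact absurd h3 hxy.left_ne

theorem ker_Psi (hG : Good Q) : (Psi Q).ker = (scal Q).range := by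
  ext M
  rw [MonoidHom.mem_ker, MonoidHom.mem_range]
  constructor
  · intro h
    have h1 : conjE Q M = 1 := eq_one_of_quotAut (commutator_E hG) _ h
    obtain ⟨a, ha, hM⟩ := exists_scalar_of_conjE hG M h1
    refine ⟨Units.mk0 a ha, ?_⟩
    apply Subtype.ext
    ext v
    exact (hM v).symm
  · rintro ⟨a, rfl⟩
    have h1 : conjE Q (scal Q a) = 1 := by
      ext k : 2
      show conjLin (scal Q a) k.1 = k.1
      ext v
      obtain ⟨v, rfl⟩ := (scal Q a).1.surjective v
      rw [conjLin_apply', scal_apply, scal_apply, map_smul]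
    rw [Psi, MonoidHom.comp_apply, h1, map_one]

theorem card_ker_Psi (hG : Good Q) : Nat.card (Psi Q).ker = Nat.card Fˣ := by
  rw [ker_Psi hG]
  exact Nat.card_congr (MonoidHom.ofInjective (scal_injective hG)).symm.toEquiv

theorem card_Gam (hG : Good Q) :
    Nat.card (Gam Q) = Nat.card (Psi Q).range * Nat.card Fˣ := by
  rw [← card_ker_Psi hG, mul_comm, ← Subgroup.index_ker]
  exact (Subgroup.card_mul_index _).symm

end Cfsg.Agent.ClassicalGeometry.OrthSemi
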