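import Mathlib
import Cfsg.Agent.ClassicalGeometry.OrthSemi
set_option linter.all false

/-!
# The number of semisimilitudes of a quadratic space over a finite field
-/

set_option autoImplicit false

namespace Cfsg.Agent.ClassicalGeometry.OrthSemiCount

open scoped Matrix

open QuadraticMap Cfsg.Agent.LieClassical.OrthCore Cfsg.Agent.LieClassical.OrthTrans
  Cfsg.Agent.LieClassical.OrthSimple Cfsg.Agent.ClassicalGeometry.OrthSemi

variable {F V : Type*} [Field F] [AddCommGroup V] [Module F V] {Q : QuadraticForm F V}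

theorem isSS_unique (hG : Good Q) {σ τ : F ≃+* F} {c d : F} {M : Equiv.Perm V}
    (h : IsSS Q σ c M) (h' : IsSS Q τ d M) : σ = τ ∧ c = d := by
  obtain ⟨x, y, hxy⟩ := hG.exists_hyp
  have hMx : M x ≠ 0 := by
    intro h0
    rw [← h.map_zero] at h0
    exact hxy.left_ne (M.injective h0)
  have hσ : σ = τ := by
    ext t
    have h1 := (h.smul t x).symm.trans (h'.smul t x)
    rw [← sub_eq_zero, ← sub_smul] at h1
    rcases smul_eq_zero.1 h1 with h2 | h2
    · exact sub_eq_zero.1 h2
    · exact absurd h2 hMx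
  refine ⟨hσ, ?_⟩
  have h1 : Q (x + y) = 1 := by rw [Q_add, hxy.left, hxy.right, hxy.pair]; simp
  have h2 := (h.form (x + y)).symm.trans (h'.form (x + y))
  rwa [h1, map_one, map_one, mul_one, mul_one] at h2

/-- A linear isometry as a permutation. -/
def permO (Q : QuadraticForm F V) : O Q →* Equiv.Perm V where
  toFun g := g.1.toEquiv
  map_one' := rfl
  map_mul' _ _ := rfl

theorem permO_apply (g : O Q) (v : V) : permO Q g v = g.1 v := rfl

theorem permO_injective : Function.Injective (permO Q) := by
  intro g h e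
  apply Subtype.ext
  ext v
  exact Equiv.congr_fun e v

theorem isSS_permO (g : O Q) : IsSS Q (RingEquiv.refl F) 1 (permO Q g) :=
  ⟨one_ne_zero, fun u v => map_add g.1 u v, fun a v => map_smul g.1 a v, fun v => by
    rw [one_mul]; exact g.2 v⟩

theorem exists_permO {M : Equiv.Perm V} (h : IsSS Q (RingEquiv.refl F) 1 M) :
    ∃ g : O Q, permO Q g = M :=
  ⟨⟨{ toFun := M
      invFun := M.symm
      map_add' := h.add
      map_smul' := h.smul
      left_inv := M.left_inv
      right_inv := M.right_inv }, fun v => by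
        have := h.form v
        rw [one_mul] at this
        exact this⟩, Equiv.ext fun _ => rfl⟩

/-- The semisimilitudes are parametrised by the realised pairs and the isometries. -/
theorem card_Gam_eq (hG : Good Q) (S : Set ((F ≃+* F) × F))
    (hS : ∀ σ c, (σ, c) ∈ S ↔ ∃ M, IsSS Q σ c M) :
    Nat.card (Gam Q) = Nat.card S * Nat.card (O Q) := by
  have hs : ∀ s : S, ∃ M, IsSS Q s.1.1 s.1.2 M := fun s => (hS _ _).1 s.2
  choose N hN using hs
  have key : ∀ (s : S) (g : O Q), IsSS Q s.1.1 s.1.2 (permO Q g * N s) := by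
    intro s g
    have h := (isSS_permO g).mul (hN s)
    have e1 : s.1.1.trans (RingEquiv.refl F) = s.1.1 := by ext; rfl
    have e2 : (1 : F) * (RingEquiv.refl F) s.1.2 = s.1.2 := by rw [one_mul]; rfl
    rwa [e1, e2] at h
  let f : S × O Q → Gam Q := fun x => ⟨permO Q x.2 * N x.1, _, _, key x.1 x.2⟩
  have hf : Function.Bijective f := by
    constructor
    · rintro ⟨s, g⟩ ⟨t, h⟩ e
      have e1 : permO Q g * N s = permO Q h * N t := congrArg Subtype.val e
      have h1 := key s g
      rw [e1] at h1
      have h2 := isSS_unique hG h1 (key t h)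
      have hst : s = t := Subtype.ext (Prod.ext h2.1 h2.2)
      subst hst
      have := mul_right_cancel e1
      rw [permO_injective this]
    · rintro ⟨M, σ, c, hM⟩
      have hs : (σ, c) ∈ S := (hS _ _).2 ⟨M, hM⟩
      have h1 := hM.mul (hN ⟨(σ, c), hs⟩).inv
      have e1 : (σ.symm.trans σ) = RingEquiv.refl F := by ext; simp
      have e2 : c * σ (σ.symm c⁻¹) = 1 := by
        rw [RingEquiv.apply_symm_apply, mul_inv_cancel₀ hM.ne]
      have h2 : IsSS Q (RingEquiv.refl F) 1 (M * (N ⟨(σ, c), hs⟩)⁻¹) := by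
        rw [← e1, ← e2]; exact h1
      obtain ⟨g, hg⟩ := exists_permO h2
      refine ⟨(⟨(σ, c), hs⟩, g), Subtype.ext ?_⟩
      show permO Q g * N ⟨(σ, c), hs⟩ = M
      rw [hg, inv_mul_cancel_right]
  rw [← Nat.card_eq_of_bijective f hf, Nat.card_prod]

/-- If every pair is realised, the number of automorphisms induced by semisimilitudes. -/
theorem card_range_of_all [Finite F] (hG : Good Q)
    (h : ∀ (σ : F ≃+* F) (c : F), c ≠ 0 → ∃ M, IsSS Q σ c M) :
    Nat.card (Psi Q).range = Nat.card (F ≃+* F) * Nat.card (O Q) := by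
  have h1 := card_Gam_eq hG {x | x.2 ≠ 0} (fun σ c => ⟨h σ c, fun ⟨M, hM⟩ => hM.ne⟩)
  rw [card_Gam hG] at h1
  have h2 : Nat.card {x : (F ≃+* F) × F | x.2 ≠ 0} = Nat.card (F ≃+* F) * Nat.card Fˣ := by
    rw [← Nat.card_prod]
    refine Nat.card_congr
      { toFun := fun x => (x.1.1, Units.mk0 x.1.2 x.2)
        invFun := fun x => ⟨(x.1, x.2), x.2.ne_zero⟩
        left_inv := fun x => rfl
        right_inv := fun x => by
          apply Prod.ext
          · rfl
          · exact Units.ext rfl }
  rw [h2] at h1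
  have h3 : 0 < Nat.card Fˣ := Nat.card_pos
  apply Nat.eq_of_mul_eq_mul_right h3
  rw [h1]; ring

/-- Twice the number of nonzero squares. -/
theorem card_squares [Finite F] (h2 : (2 : F) ≠ 0) :
    2 * Nat.card {c : Fˣ // IsSquare c} = Nat.card Fˣ := by
  let f : Fˣ →* Fˣ := powMonoidHom 2
  have h1 : Nat.card {c : Fˣ // IsSquare c} = Nat.card f.range := by
    refine Nat.card_congr (Equiv.subtypeEquivRight fun c => ?_)
    rw [MonoidHom.mem_range]
    constructor
    · rintro ⟨r, rfl⟩
      exact ⟨r, by rw [powMonoidHom_apply, pow_two]⟩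
    · rintro ⟨r, rfl⟩
      exact ⟨r, by rw [powMonoidHom_apply, pow_two]⟩
  have h3 : Nat.card f.ker = 2 := by
    have h4 : (f.ker : Set Fˣ) = {1, -1} := by
      ext c
      simp only [SetLike.mem_coe, MonoidHom.mem_ker, f, powMonoidHom_apply, Set.mem_insert_iff,
        Set.mem_singleton_iff]
      constructor
      · intro h
        have h5 : (c : F) * c = 1 := by
          have := congrArg Units.val h
          rwa [Units.val_pow_eq_pow_val, Units.val_one, pow_two] at this
        rcases mul_self_eq_one_iff.1 h5 with h6 | h6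
        · left; exact Units.ext h6
        · right; exact Units.ext (by rw [h6]; simp)
      · rintro (rfl | rfl) <;> simp
    have h5 : (1 : Fˣ) ≠ -1 := by
      intro h
      have := congrArg Units.val h
      rw [Units.val_one, Units.val_neg, Units.val_one] at this
      apply h2
      linear_combination this
    show Nat.card (f.ker : Set Fˣ) = 2
    rw [h4, Nat.card_coe_set_eq, Set.ncard_pair h5]
  rw [h1, ← h3, ← Subgroup.index_ker]
  exact Subgroup.card_mul_index _

/-- If exactly the square multipliers occur, the number of automorphisms induced by semisimilitudes. -/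
theorem card_range_of_squares [Finite F] (h2 : (2 : F) ≠ 0) (hG : Good Q)
    (h : ∀ (σ : F ≃+* F), ∃ M, IsSS Q σ 1 M)
    (h' : ∀ (c : F) (M : Equiv.Perm V), IsSS Q (RingEquiv.refl F) c M → IsSquare c) :
    2 * Nat.card (Psi Q).range = Nat.card (F ≃+* F) * Nat.card (O Q) := by
  have h1 := card_Gam_eq hG {x | x.2 ≠ 0 ∧ IsSquare x.2} (fun σ c => by
    constructor
    · rintro ⟨hc, r, hr⟩
      simp only at hc hr
      subst hr
      obtain ⟨M, hM⟩ := h σ
      have hr0 : r ≠ 0 := fun h0 => hc (by rw [h0, zero_mul])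
      have h3 : IsSS Q (RingEquiv.refl F) (r * r) (scal Q (Units.mk0 r hr0)).1 :=
        ⟨hc, fun u v => smul_add _ _ _, fun t v => smul_comm _ _ _, fun v => by
          rw [scal_apply, QuadraticMap.map_smul]; rfl⟩
      refine ⟨(scal Q (Units.mk0 r hr0)).1 * M, ?_⟩
      have h4 := h3.mul hM
      have e1 : σ.trans (RingEquiv.refl F) = σ := by ext; rfl
      have e2 : r * r * (RingEquiv.refl F) 1 = r * r := by rw [map_one, mul_one]
      rwa [e1, e2] at h4
    · rintro ⟨M, hM⟩
      refine ⟨hM.ne, ?_⟩
      obtain ⟨N, hN⟩ := h σ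
      have h3 := hM.mul hN.inv
      have e1 : (σ.symm.trans σ) = RingEquiv.refl F := by ext; simp
      have e2 : c * σ (σ.symm (1 : F)⁻¹) = c := by
        rw [RingEquiv.apply_symm_apply, inv_one, mul_one]
      rw [e1, e2] at h3
      exact h' c _ h3)
  rw [card_Gam hG] at h1
  have h3 : Nat.card {x : (F ≃+* F) × F | x.2 ≠ 0 ∧ IsSquare x.2} =
      Nat.card (F ≃+* F) * Nat.card {c : Fˣ // IsSquare c} := by
    rw [← Nat.card_prod]
    refine Nat.card_congr
      { toFun := fun x => (x.1.1, ⟨Units.mk0 x.1.2 x.2.1, by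
          obtain ⟨r, hr⟩ := x.2.2
          have hr0 : r ≠ 0 := fun h0 => x.2.1 (by rw [hr, h0, zero_mul])
          exact ⟨Units.mk0 r hr0, Units.ext hr⟩⟩)
        invFun := fun x => ⟨(x.1, x.2.1), x.2.1.ne_zero, by
          obtain ⟨r, hr⟩ := x.2.2
          exact ⟨r, by show ((x.2.1 : Fˣ) : F) = _; rw [hr, Units.val_mul]⟩⟩
        left_inv := fun x => rfl
        right_inv := fun x => by
          apply Prod.ext
          · rfl
          · exact Subtype.ext (Units.ext rfl) }
  rw [h3] at h1
  have h4 := card_squares (F := F) h2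
  have h5 : 0 < Nat.card {c : Fˣ // IsSquare c} := by
    by_contra hcon
    have h6 : Nat.card {c : Fˣ // IsSquare c} = 0 := by omega
    rw [h6, mul_zero] at h4
    have : 0 < Nat.card Fˣ := Nat.card_pos
    omega
  rw [← h4] at h1
  apply Nat.eq_of_mul_eq_mul_right h5
  calc 2 * Nat.card (Psi Q).range * Nat.card {c : Fˣ // IsSquare c}
      = Nat.card (Psi Q).range * (2 * Nat.card {c : Fˣ // IsSquare c}) := by ring
    _ = Nat.card (F ≃+* F) * Nat.card {c : Fˣ // IsSquare c} * Nat.card (O Q) := h1
    _ = _ := by ring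

/-- In odd dimension the multiplier of a similitude is a square. -/
theorem isSquare_of_odd [FiniteDimensional F V] (h2 : (2 : F) ≠ 0) (hQ : Nondeg Q)
    (hodd : Odd (Module.finrank F V)) {c : F} {M : Equiv.Perm V}
    (h : IsSS Q (RingEquiv.refl F) c M) : IsSquare c := by
  let L : V →ₗ[F] V :=
    { toFun := M
      map_add' := h.add
      map_smul' := h.smul }
  let b := Module.finBasis F V
  have h1 : (polarBilin Q).compl₁₂ L L = c • polarBilin Q := by
    ext x y
    show polar Q (M x) (M y) = c • polar Q x y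
    rw [h.polar]; rfl
  have h3 : (LinearMap.BilinForm.toMatrix b (polarBilin Q)).det ≠ 0 := by
    rw [← LinearMap.BilinForm.nondegenerate_iff_det_ne_zero]
    constructor
    · exact hQ
    · intro y hy
      exact hQ y fun x => by rw [polar_comm]; exact hy x
  have h4 : LinearMap.BilinForm.toMatrix b ((polarBilin Q).compl₁₂ L L) =
      (LinearMap.toMatrix b b L)ᵀ * LinearMap.BilinForm.toMatrix b (polarBilin Q) *
        LinearMap.toMatrix b b L :=
    LinearMap.BilinForm.toMatrix_comp b b _ _ _
  rw [h1, map_smul] at h4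
  have h5 := congrArg Matrix.det h4
  rw [Matrix.det_mul, Matrix.det_mul, Matrix.det_transpose, Matrix.det_smul, Fintype.card_fin] at h5
  have h6 : c ^ Module.finrank F V = (LinearMap.toMatrix b b L).det ^ 2 := by
    apply mul_right_cancel₀ h3
    rw [h5]; ring
  obtain ⟨k, hk⟩ := hodd
  have hc := h.ne
  refine ⟨(LinearMap.toMatrix b b L).det * (c ^ k)⁻¹, ?_⟩
  have h7 : c ^ k ≠ 0 := pow_ne_zero _ hc
  field_simp
  rw [← h6, hk]
  ring

end Cfsg.Agent.ClassicalGeometry.OrthSemiCount
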