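import Mathlib
import Cfsg.Prelude.Def_ClassicalGeometry
import Cfsg.Agent.ClassicalGeometry.Reflection
import Cfsg.Agent.ClassicalGeometry.OrthCharTwo
set_option linter.all false

/-!
* the Dickson invariant (any field): parity of the dimension of the fixed space;
* in characteristic two, over a finite field: all reflections are congruent modulo the commutator
  subgroup (unless `|F| = 2`, `n = 4`), so the commutator subgroup has index `2`.
-/

set_option autoImplicit false
set_option linter.unusedSectionVars false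

namespace Cfsg.Agent.ClassicalGeometry.OrthDickson

open QuadraticMap Matrix Module
open Cfsg.Agent.ClassicalGeometry.Reflection
open Cfsg.Agent.ClassicalGeometry.OrthCharTwo

variable {ι : Type} [Fintype ι] [DecidableEq ι] {F : Type*} [Field F]
variable (Q : QuadraticForm F (ι → F))

/-! ### Dickson invariant -/

/-- If `Fix g ⊆ v^⊥`, then `dim Fix (r_v g) = dim Fix g + 1`. -/
theorem finrank_fixSp_refl_mul (g : Cfsg.isometryGroup F (⇑Q)) (v : ι → F)
    (hvg : v ∈ resSp g) (hv : Q v ≠ 0) :
    finrank F (fixSp (reflIso Q v hv * g)) = finrank F (fixSp g) + 1 := by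
  obtain ⟨x, hx⟩ := hvg
  obtain ⟨h1, h2⟩ := refl_act_of_res Q g x v hx hv
  -- `x ∈ Fix (r g)`, and `Fix (r g) = Fix g ⊕ ⟨x⟩`
  have hvx : polar Q v x ≠ 0 := by rw [h2]; exact neg_ne_zero.2 hv
  have hlt := fixSp_lt_of_res Q g v ⟨x, hx⟩ hv
  have hsup : fixSp (reflIso Q v hv * g) ≤ fixSp g ⊔ Submodule.span F {x} := by
    intro y hy
    rw [Submodule.mem_sup]
    refine ⟨y - (polar Q v y * (polar Q v x)⁻¹) • x, ?_,
      (polar Q v y * (polar Q v x)⁻¹) • x, ?_, by abel⟩
    · set z := y - (polar Q v y * (polar Q v x)⁻¹) • x with hz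
      have hz1 : z ∈ fixSp (reflIso Q v hv * g) :=
        Submodule.sub_mem _ hy (Submodule.smul_mem _ _ h1)
      have hz2 : polar Q v z = 0 := by
        rw [hz, polar_sub_right, polar_smul_right, smul_eq_mul]
        field_simp
        ring
      rw [mem_fixSp] at hz1 ⊢
      have hz3 : act g z = act (reflIso Q v hv) z := by
        nth_rewrite 2 [← hz1]
        rw [act_mul, ← act_mul (reflIso Q v hv), reflIso_mul_self, act_one]
      rw [hz3]
      exact act_refl_of_polar Q v hv z hz2
    · exact Submodule.smul_mem _ _ (Submodule.mem_span_singleton_self x)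
  have h3 : finrank F (fixSp (reflIso Q v hv * g)) ≤ finrank F (fixSp g) + 1 := by
    calc finrank F (fixSp (reflIso Q v hv * g))
        ≤ finrank F (fixSp g ⊔ Submodule.span F {x} : Submodule F (ι → F)) :=
          Submodule.finrank_mono hsup
      _ ≤ finrank F (fixSp g) + finrank F (Submodule.span F {x} : Submodule F (ι → F)) :=
          Submodule.finrank_add_le_finrank_add_finrank _ _
      _ ≤ finrank F (fixSp g) + 1 := by
          gcongr
          have := finrank_span_le_card (R := F) ({x} : Set (ι → F))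
          simpa using this
  have h4 := Submodule.finrank_lt_finrank_of_lt hlt
  omega

/-- The dimension of the fixed space changes by one on multiplication by a reflection. -/
theorem finrank_fixSp_refl_mul_or (hQ : (polarBilin Q).Nondegenerate)
    (g : Cfsg.isometryGroup F (⇑Q)) (v : ι → F) (hv : Q v ≠ 0) :
    finrank F (fixSp (reflIso Q v hv * g)) = finrank F (fixSp g) + 1 ∨
    finrank F (fixSp g) = finrank F (fixSp (reflIso Q v hv * g)) + 1 := by
  by_cases hvg : v ∈ resSp g
  · exact Or.inl (finrank_fixSp_refl_mul Q g v hvg hv)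
  · right
    have h1 : v ∈ resSp (reflIso Q v hv * g) := by
      rw [mem_resSp_iff_forall Q hQ]
      intro y hy
      by_contra hne
      apply hvg
      rw [mem_fixSp, act_mul] at hy
      have h2 : act g y = act (reflIso Q v hv) y := by
        nth_rewrite 2 [← hy]
        rw [← act_mul (reflIso Q v hv), reflIso_mul_self, act_one]
      rw [act_refl] at h2
      have h3 : v = (-((Q v)⁻¹ * polar Q v y)⁻¹) • (act g y - y) := by
        have hne' : (Q v)⁻¹ * polar Q v y ≠ 0 := mul_ne_zero (inv_ne_zero hv) hne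
        rw [h2, sub_sub_cancel_left, smul_neg, neg_smul, neg_neg, smul_smul,
          inv_mul_cancel₀ hne', one_smul]
      rw [h3]
      exact Submodule.smul_mem _ _ ⟨y, rfl⟩
    have h4 := finrank_fixSp_refl_mul Q _ v h1 hv
    rwa [← mul_assoc, reflIso_mul_self, one_mul] at h4

/-- the Dickson sign of an isometry (`(-1)^(dim (g-1)V)`) -/
noncomputable def dsign (g : Cfsg.isometryGroup F (⇑Q)) : ℤˣ :=
  (-1) ^ (finrank F (fixSp g) + Fintype.card ι)

theorem dsign_def (g : Cfsg.isometryGroup F (⇑Q)) :
    dsign Q g = (-1) ^ (finrank F (fixSp g) + Fintype.card ι) := rfl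

theorem dsign_one : dsign Q (1 : Cfsg.isometryGroup F (⇑Q)) = 1 := by
  rw [dsign_def, fixSp_eq_top_iff.2 rfl, finrank_top, finrank_fintype_fun_eq_card, ← two_mul,
    pow_mul]
  simp

theorem dsign_refl_mul (hQ : (polarBilin Q).Nondegenerate) (g : Cfsg.isometryGroup F (⇑Q))
    (v : ι → F) (hv : Q v ≠ 0) : dsign Q (reflIso Q v hv * g) = - dsign Q g := by
  rw [dsign_def, dsign_def]
  rcases finrank_fixSp_refl_mul_or Q hQ g v hv with h | h
  · rw [h, add_right_comm, pow_succ]
    simp
  · rw [h, add_right_comm, pow_succ]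
    simp

theorem dsign_refl (hQ : (polarBilin Q).Nondegenerate)
    (v : ι → F) (hv : Q v ≠ 0) : dsign Q (reflIso Q v hv) = -1 := by
  have := dsign_refl_mul Q hQ 1 v hv
  rwa [mul_one, dsign_one] at this

theorem dsign_mul_of_gen (hQ : (polarBilin Q).Nondegenerate)
    (h : (∃ θ : F, θ ≠ 0 ∧ θ ≠ 1) ∨ Fintype.card ι ≠ 4)
    (g g' : Cfsg.isometryGroup F (⇑Q)) : dsign Q (g * g') = dsign Q g * dsign Q g' := by
  revert g'
  refine isometry_induction Q hQ h
    (fun g => ∀ g', dsign Q (g * g') = dsign Q g * dsign Q g') ?_ ?_ g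
  · intro g'
    rw [one_mul, dsign_one, one_mul]
  · intro v hv g hg g'
    rw [mul_assoc, dsign_refl_mul Q hQ, dsign_refl_mul Q hQ, hg, neg_mul]

/-- The Dickson homomorphism. -/
noncomputable def dsignHom (hQ : (polarBilin Q).Nondegenerate)
    (h : (∃ θ : F, θ ≠ 0 ∧ θ ≠ 1) ∨ Fintype.card ι ≠ 4) :
    Cfsg.isometryGroup F (⇑Q) →* ℤˣ where
  toFun := dsign Q
  map_one' := dsign_one Q
  map_mul' := dsign_mul_of_gen Q hQ h

theorem dsignHom_apply (hQ : (polarBilin Q).Nondegenerate)
    (h : (∃ θ : F, θ ≠ 0 ∧ θ ≠ 1) ∨ Fintype.card ι ≠ 4) (g : Cfsg.isometryGroup F (⇑Q)) :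
    dsignHom Q hQ h g = dsign Q g := rfl

theorem dsign_eq_one_of_mem_commutator (hQ : (polarBilin Q).Nondegenerate)
    (h : (∃ θ : F, θ ≠ 0 ∧ θ ≠ 1) ∨ Fintype.card ι ≠ 4) (g : Cfsg.isometryGroup F (⇑Q))
    (hg : g ∈ commutator (Cfsg.isometryGroup F (⇑Q))) : dsign Q g = 1 := by
  have := Abelianization.commutator_subset_ker (dsignHom Q hQ h) hg
  rwa [MonoidHom.mem_ker] at this

/-- A reflection is not in the commutator subgroup. -/
theorem refl_notMem_commutator (hQ : (polarBilin Q).Nondegenerate)
    (h : (∃ θ : F, θ ≠ 0 ∧ θ ≠ 1) ∨ Fintype.card ι ≠ 4) (v : ι → F) (hv : Q v ≠ 0) :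
    reflIso Q v hv ∉ commutator (Cfsg.isometryGroup F (⇑Q)) := by
  intro hmem
  have h1 := dsign_eq_one_of_mem_commutator Q hQ h _ hmem
  rw [dsign_refl Q hQ] at h1
  exact absurd h1 (by decide)

/-! ### Congruence of reflections modulo the commutator subgroup in characteristic two -/

/-- If `Q u = Q v ≠ 0` and `Q (u - v) ≠ 0`, the reflections in `u`, `v` are congruent modulo the
commutator subgroup (any characteristic). -/
theorem refl_mul_refl_mem (u v : ι → F) (hu : Q u ≠ 0) (hv : Q v ≠ 0) (huv : Q u = Q v)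
    (hw : Q (u - v) ≠ 0) :
    reflIso Q u hu * reflIso Q v hv ∈ commutator (Cfsg.isometryGroup F (⇑Q)) := by
  set s := reflIso Q (u - v) hw with hs
  have h1 : act s u = v := by
    rw [hs, act_def, coe_reflIso]
    exact reflectionMatrix_sub_mulVec Q u v huv hw
  have h2 : Q (act s u) ≠ 0 := by rw [h1]; exact hv
  have h3 : s * reflIso Q u hu * s⁻¹ = reflIso Q v hv := by
    have := conj_reflIso Q u hu s h2
    rw [this]
    congr 1
  have h4 : reflIso Q u hu * reflIso Q v hv
      = reflIso Q u hu * s * (reflIso Q u hu)⁻¹ * s⁻¹ := by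
    rw [reflIso_inv Q u hu, ← h3]
    group
  rw [h4]
  exact Subgroup.commutator_mem_commutator (Subgroup.mem_top _) (Subgroup.mem_top _)

theorem sub_eq_add_of_two {M : Type*} [AddCommGroup M] [Module F M] (h2 : (2 : F) = 0) (x y : M) :
    x - y = x + y := by
  have h : y + y = 0 := by
    rw [← two_smul F y, h2, zero_smul]
  rw [sub_eq_iff_eq_add, add_assoc, h, add_zero]

/-- every element of a finite field of characteristic two is a square -/
theorem exists_sq_of_two [Finite F] (h2 : (2 : F) = 0) (a : F) : ∃ c : F, c * c = a := by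
  have : CharP F 2 := CharTwo.of_one_ne_zero_of_two_eq_zero one_ne_zero h2
  obtain ⟨c, hc⟩ := FiniteField.isSquare_of_char_two (ringChar.eq F 2) a
  exact ⟨c, hc.symm⟩

/-- In characteristic two over a finite field, if `Q u ≠ 0`, `Q v ≠ 0`, `f(u,v) ≠ 0`, the
reflections in `u`, `v` are congruent modulo the commutator subgroup. -/
theorem refl_mul_refl_mem_of_polar [Finite F] (h2 : (2 : F) = 0) (u v : ι → F) (hu : Q u ≠ 0)
    (hv : Q v ≠ 0) (huv : polar Q u v ≠ 0) :
    reflIso Q u hu * reflIso Q v hv ∈ commutator (Cfsg.isometryGroup F (⇑Q)) := by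
  obtain ⟨c, hc⟩ := exists_sq_of_two h2 (Q u * (Q v)⁻¹)
  have hc0 : c ≠ 0 := by
    rintro rfl
    rw [mul_zero] at hc
    exact mul_ne_zero hu (inv_ne_zero hv) hc.symm
  have hcv : Q (c • v) = Q u := by
    rw [QuadraticMap.map_smul, hc, smul_eq_mul, mul_assoc, inv_mul_cancel₀ hv, mul_one]
  have hcv0 : Q (c • v) ≠ 0 := by rw [hcv]; exact hu
  rw [← refl_smul Q v hv c hc0 hcv0]
  apply refl_mul_refl_mem Q u (c • v) hu hcv0 hcv.symm
  rw [sub_eq_add_of_two h2, map_add', hcv, polar_smul_right, smul_eq_mul, ← two_mul, h2, zero_mul,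
    zero_add]
  exact mul_ne_zero hc0 huv

/-- In characteristic two over a finite field (`|F| ≠ 2` or `n ≠ 4`) all reflections are congruent
modulo the commutator subgroup. -/
theorem refl_mul_refl_mem_two [Finite F] (h2 : (2 : F) = 0) (hQ : (polarBilin Q).Nondegenerate)
    (h : (∃ θ : F, θ ≠ 0 ∧ θ ≠ 1) ∨ Fintype.card ι ≠ 4)
    (u v : ι → F) (hu : Q u ≠ 0) (hv : Q v ≠ 0) :
    reflIso Q u hu * reflIso Q v hv ∈ commutator (Cfsg.isometryGroup F (⇑Q)) := by
  by_cases huv : polar Q u v ≠ 0
  · exact refl_mul_refl_mem_of_polar Q h2 u v hu hv huv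
  push Not at huv
  have hself : ∀ x, polar Q x x = 0 := by
    intro x
    rw [polar_self', h2, zero_mul]
  by_cases hli : ∀ s t : F, s • u + t • v = 0 → s = 0 ∧ t = 0
  · -- find a non-singular vector orthogonal to neither
    suffices H : ∃ z, Q z ≠ 0 ∧ polar Q u z ≠ 0 ∧ polar Q z v ≠ 0 by
      obtain ⟨z, hz, huz, hzv⟩ := H
      have h3 := refl_mul_refl_mem_of_polar Q h2 u z hu hz huz
      have h4 := refl_mul_refl_mem_of_polar Q h2 z v hz hv hzv
      have h5 := Subgroup.mul_mem _ h3 h4
      rwa [mul_assoc, ← mul_assoc (reflIso Q z hz), reflIso_mul_self, one_mul] at h5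
    obtain ⟨w1, hw1, hw1'⟩ := exists_dual_pair Q hQ hli
    obtain ⟨w2, hw2, hw2'⟩ := exists_dual_pair Q hQ (a := v) (b := u) (by
      intro s t hst
      rw [add_comm] at hst
      exact (hli t s hst).symm)
    set z0 := w1 + w2 with hz0
    have hz1 : polar Q u z0 = 1 := by rw [hz0, polar_add_right, hw1, hw2', zero_add]
    have hz2 : polar Q v z0 = 1 := by rw [hz0, polar_add_right, hw1', hw2, add_zero]
    by_cases hQz0 : Q z0 = 0
    · rcases h with ⟨θ, hθ0, hθ1⟩ | h
      · refine ⟨z0 + (θ * (Q u)⁻¹) • u, ?_, ?_, ?_⟩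
        · rw [map_add', QuadraticMap.map_smul, hQz0, polar_smul_right, polar_comm (⇑Q) z0 u, hz1]
          simp only [smul_eq_mul]
          have h3 : (0 : F) + θ * (Q u)⁻¹ * (θ * (Q u)⁻¹) * Q u + θ * (Q u)⁻¹ * 1
              = θ * (Q u)⁻¹ * (θ - 1 + 2) := by
            field_simp
            ring
          rw [h3, h2, add_zero]
          exact mul_ne_zero (mul_ne_zero hθ0 (inv_ne_zero hu)) (sub_ne_zero.2 hθ1)
        · rw [polar_add_right, hz1, polar_smul_right, hself, smul_zero, add_zero]
          exact one_ne_zero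
        · rw [polar_comm, polar_add_right, hz2, polar_smul_right, polar_comm (⇑Q) v u, huv,
            smul_zero, add_zero]
          exact one_ne_zero
      · by_contra hcon
        push Not at hcon
        apply h
        apply card_eq_four Q hQ hli (hself u) (hself v) huv
        have key : ∀ y, polar Q u y = 0 → polar Q v y = 0 → Q y = - polar Q z0 y := by
          intro y hy1 hy2
          by_contra hne
          have h6 := hcon (z0 + y) (by
            rw [map_add', hQz0, zero_add]
            intro h0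
            exact hne (by linear_combination h0)) (by
            rw [polar_add_right, hz1, hy1, add_zero]
            exact one_ne_zero)
          rw [polar_comm, polar_add_right, hz2, hy2, add_zero] at h6
          exact one_ne_zero h6
        intro x y hx1 hx2 hy1 hy2
        have h7 := key (x + y) (by rw [polar_add_right, hx1, hy1, add_zero])
          (by rw [polar_add_right, hx2, hy2, add_zero])
        rw [map_add', polar_add_right, key x hx1 hx2, key y hy1 hy2] at h7
        linear_combination h7
    · refine ⟨z0, hQz0, ?_, ?_⟩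
      · rw [hz1]; exact one_ne_zero
      · rw [polar_comm, hz2]; exact one_ne_zero
  · -- `v` is a multiple of `u`
    push Not at hli
    obtain ⟨s, t, hst, hne⟩ := hli
    have hu0 : u ≠ 0 := by rintro rfl; exact hu (QuadraticMap.map_zero Q)
    have hv0 : v ≠ 0 := by rintro rfl; exact hv (QuadraticMap.map_zero Q)
    have ht : t ≠ 0 := by
      rintro rfl
      rw [zero_smul, add_zero, smul_eq_zero] at hst
      rcases hst with h0 | h0
      · exact hne h0 rfl
      · exact hu0 h0
    have hs : s ≠ 0 := by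
      rintro rfl
      rw [zero_smul, zero_add, smul_eq_zero] at hst
      rcases hst with h0 | h0
      · exact ht h0
      · exact hv0 h0
    have hvu : (-(t⁻¹ * s)) • u = v := by
      have h3 : t • v = - (s • u) := by
        rw [eq_neg_iff_add_eq_zero, add_comm]; exact hst
      rw [neg_smul, mul_smul, ← smul_neg, ← h3, smul_smul, inv_mul_cancel₀ ht, one_smul]
    have hc : (-(t⁻¹ * s)) ≠ 0 := neg_ne_zero.2 (mul_ne_zero (inv_ne_zero ht) hs)
    subst hvu
    rw [refl_smul Q u hu _ hc hv, reflIso_mul_self]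
    exact Subgroup.one_mem _

/-- In characteristic two, over a finite field, the commutator subgroup of the isometry group of a
quadratic form with non-degenerate polar form has index two, if `n ≥ 1` and (`|F| ≠ 2` or
`n ≠ 4`). -/
theorem index_commutator_two [Finite F] (h2 : (2 : F) = 0) (hQ : (polarBilin Q).Nondegenerate)
    (h : (∃ θ : F, θ ≠ 0 ∧ θ ≠ 1) ∨ Fintype.card ι ≠ 4) [Nonempty ι] :
    (commutator (Cfsg.isometryGroup F (⇑Q))).index = 2 := by
  -- a non-singular vector
  obtain ⟨u, hu⟩ : ∃ u, Q u ≠ 0 := by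
    by_contra hcon
    push Not at hcon
    obtain ⟨i⟩ := ‹Nonempty ι›
    have h1 : (Pi.single i (1 : F) : ι → F) = 0 := by
      apply nondeg_left Q hQ
      intro y
      rw [polar, hcon, hcon, hcon]
      ring
    have h3 := congrFun h1 i
    simp at h3
  rw [Subgroup.index_eq_two_iff_exists_notMem_and]
  refine ⟨reflIso Q u hu, refl_notMem_commutator Q hQ h u hu, ?_⟩
  set K := commutator (Cfsg.isometryGroup F (⇑Q)) with hK
  refine isometry_induction Q hQ h
    (fun g => g * reflIso Q u hu ∈ K ∨ g ∈ K) (Or.inr (Subgroup.one_mem _)) ?_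
  intro v hv g hg
  have hvu : reflIso Q v hv * reflIso Q u hu ∈ K := refl_mul_refl_mem_two Q h2 hQ h v u hv hu
  rcases hg with hg | hg
  · right
    -- r_v g = (r_v r_u) (r_u g), and r_u g r_u⁻¹... use commutativity modulo K
    have h1 : reflIso Q u hu * g ∈ K := by
      have h3 : reflIso Q u hu * (g * reflIso Q u hu) * (reflIso Q u hu)⁻¹ ∈ K :=
        Subgroup.Normal.conj_mem (hK ▸ inferInstance) _ hg _
      rwa [← mul_assoc, mul_inv_cancel_right] at h3
    have h4 := Subgroup.mul_mem _ hvu h1
    rwa [mul_assoc, ← mul_assoc (reflIso Q u hu), reflIso_mul_self, one_mul] at h4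
  · left
    have h3 : reflIso Q v hv * g * (reflIso Q v hv)⁻¹ ∈ K :=
      Subgroup.Normal.conj_mem (hK ▸ inferInstance) _ hg _
    rw [reflIso_inv] at h3
    have h4 := Subgroup.mul_mem _ h3 hvu
    rwa [mul_assoc, ← mul_assoc (reflIso Q v hv) (reflIso Q v hv), reflIso_mul_self, one_mul] at h4

/-- A finite field with more than two elements has an element other than `0` and `1`. -/
theorem exists_ne_zero_ne_one [Fintype F] (h : Fintype.card F ≠ 2) : ∃ θ : F, θ ≠ 0 ∧ θ ≠ 1 := by
  classical
  by_contra hcon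
  push Not at hcon
  apply h
  have h1 : (Finset.univ : Finset F) = {0, 1} := by
    ext x
    simp only [Finset.mem_univ, Finset.mem_insert, Finset.mem_singleton, true_iff]
    by_cases hx : x = 0
    · exact Or.inl hx
    · exact Or.inr (hcon x hx)
  rw [← Finset.card_univ, h1, Finset.card_pair zero_ne_one]

end Cfsg.Agent.ClassicalGeometry.OrthDickson
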