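import Mathlib
import Cfsg.Prelude.Def_ClassicalGeometry
import Cfsg.Agent.ClassicalGeometry.SympBasic
set_option linter.all false

/-!
Involutions of `PSp_{2m}(q)`, `q` odd: at most `m / 2 + 1` conjugacy classes.
-/

set_option autoImplicit false

namespace Cfsg.Agent.ClassicalGeometry.SympInvolutions

open Cfsg Matrix
open Cfsg.Agent.ClassicalGeometry.SympBasic
open scoped Matrix

variable {F : Type*} [Field F] {m : ℕ}

/-- A family of `k` mutually orthogonal hyperbolic pairs. -/
def HypFam (m : ℕ) (F : Type*) [Field F] (k : ℕ) (e f : Fin k → (Fin m ⊕ Fin m → F)) : Prop :=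
  (∀ i j, sympForm m F (e i) (e j) = 0) ∧ (∀ i j, sympForm m F (f i) (f j) = 0) ∧
  (∀ i j, sympForm m F (f i) (e j) = if i = j then 1 else 0)

theorem sympForm_sum_left {κ : Type*} (s : Finset κ) (u : κ → (Fin m ⊕ Fin m → F))
    (v : Fin m ⊕ Fin m → F) :
    sympForm m F (∑ i ∈ s, u i) v = ∑ i ∈ s, sympForm m F (u i) v := by
  exact map_sum ((sympBilin m F).flip v) u s

theorem sympForm_sum_right {κ : Type*} (s : Finset κ) (u : κ → (Fin m ⊕ Fin m → F))
    (v : Fin m ⊕ Fin m → F) :
    sympForm m F v (∑ i ∈ s, u i) = ∑ i ∈ s, sympForm m F v (u i) := by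
  exact map_sum (sympBilin m F v) u s

/-- Projection to the orthogonal complement of the family. -/
theorem exists_proj {k : ℕ} {e f : Fin k → (Fin m ⊕ Fin m → F)} (h : HypFam m F k e f)
    (x : Fin m ⊕ Fin m → F) :
    ∃ y : Fin m ⊕ Fin m → F, (∀ i, sympForm m F y (e i) = 0 ∧ sympForm m F y (f i) = 0) ∧
      x - y ∈ Submodule.span F (Set.range (Sum.elim e f)) := by
  obtain ⟨h1, h2, h3⟩ := h
  have h3' : ∀ i j, sympForm m F (e i) (f j) = if i = j then -1 else 0 := by
    intro i j
    rw [sympForm_swap, h3]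
    by_cases hij : i = j
    · subst hij; simp
    · rw [if_neg hij, if_neg (Ne.symm hij), neg_zero]
  refine ⟨x + ∑ i, sympForm m F x (f i) • e i - ∑ i, sympForm m F x (e i) • f i, ?_, ?_⟩
  · intro j
    constructor
    · rw [sympForm_sub_left, sympForm_add_left, sympForm_sum_left, sympForm_sum_left]
      simp only [sympForm_smul_left, h1, h3, mul_zero, Finset.sum_const_zero, add_zero, mul_ite,
        mul_one, Finset.sum_ite_eq', Finset.mem_univ, if_true, sub_self]
    · rw [sympForm_sub_left, sympForm_add_left, sympForm_sum_left, sympForm_sum_left]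
      simp only [sympForm_smul_left, h2, h3', mul_zero, Finset.sum_const_zero, mul_ite,
        Finset.sum_ite_eq', Finset.mem_univ, if_true, sub_zero]
      ring
  · have : x - (x + ∑ i, sympForm m F x (f i) • e i - ∑ i, sympForm m F x (e i) • f i) =
        ∑ i, sympForm m F x (e i) • f i - ∑ i, sympForm m F x (f i) • e i := by abel
    rw [this]
    refine Submodule.sub_mem _ (Submodule.sum_mem _ fun i _ => Submodule.smul_mem _ _ ?_)
      (Submodule.sum_mem _ fun i _ => Submodule.smul_mem _ _ ?_)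
    · exact Submodule.subset_span ⟨Sum.inr i, rfl⟩
    · exact Submodule.subset_span ⟨Sum.inl i, rfl⟩

/-- Extending an adapted family. -/
theorem extend {k : ℕ} (hk : k < m) {e f : Fin k → (Fin m ⊕ Fin m → F)} (h : HypFam m F k e f)
    (g : Matrix (Fin m ⊕ Fin m) (Fin m ⊕ Fin m) F)
    (R : (Fin m ⊕ Fin m → F) → (Fin m ⊕ Fin m → F) → Prop)
    (hR : ∀ i, R (e i) (f i))
    (hinv : ∀ u v w, R u v → sympForm m F w u = 0 → sympForm m F w v = 0 →
      sympForm m F (g *ᵥ w) u = 0 ∧ sympForm m F (g *ᵥ w) v = 0)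
    (step : ∀ W : Submodule F (Fin m ⊕ Fin m → F), (∃ w ∈ W, w ≠ 0) →
      (∀ w ∈ W, w ≠ 0 → ∃ x ∈ W, sympForm m F w x ≠ 0) → (∀ w ∈ W, g *ᵥ w ∈ W) →
      ∃ u ∈ W, ∃ v ∈ W, sympForm m F v u = 1 ∧ R u v) :
    ∃ e' f' : Fin (k + 1) → (Fin m ⊕ Fin m → F), HypFam m F (k + 1) e' f' ∧
      ∀ i, R (e' i) (f' i) := by
  let W : Submodule F (Fin m ⊕ Fin m → F) :=
    { carrier := {y | ∀ i, sympForm m F y (e i) = 0 ∧ sympForm m F y (f i) = 0}
      zero_mem' := by intro i; simp
      add_mem' := by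
        intro a b ha hb i
        rw [sympForm_add_left, sympForm_add_left, (ha i).1, (hb i).1, (ha i).2, (hb i).2]
        simp
      smul_mem' := by
        intro c a ha i
        rw [sympForm_smul_left, sympForm_smul_left, (ha i).1, (ha i).2]
        simp }
  have hW : ∀ y, y ∈ W ↔ ∀ i, sympForm m F y (e i) = 0 ∧ sympForm m F y (f i) = 0 := fun y => Iff.rfl
  have hne : ∃ w ∈ W, w ≠ 0 := by
    by_contra hcon
    push Not at hcon
    have htop : (⊤ : Submodule F (Fin m ⊕ Fin m → F)) ≤
        Submodule.span F (Set.range (Sum.elim e f)) := by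
      intro x _
      obtain ⟨y, hy, hxy⟩ := exists_proj h x
      rw [hcon y ((hW y).2 hy), sub_zero] at hxy
      exact hxy
    have h1 := Submodule.finrank_mono htop
    have h2 := finrank_range_le_card (R := F) (Sum.elim e f)
    rw [finrank_top, Module.finrank_fintype_fun_eq_card] at h1
    rw [Set.finrank] at h2
    simp only [Fintype.card_sum, Fintype.card_fin] at h1 h2
    omega
  have hnd : ∀ w ∈ W, w ≠ 0 → ∃ x ∈ W, sympForm m F w x ≠ 0 := by
    intro w hw hw0
    by_contra hcon
    push Not at hcon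
    apply hw0
    apply eq_zero_of_forall_sympForm_right
    intro x
    obtain ⟨y, hy, hxy⟩ := exists_proj h x
    have h1 : sympForm m F w (x - y) = 0 := by
      have hle : Submodule.span F (Set.range (Sum.elim e f)) ≤
          LinearMap.ker (sympBilin m F w) := by
        rw [Submodule.span_le]
        rintro _ ⟨j, rfl⟩
        rcases j with j | j
        · exact (hw j).1
        · exact (hw j).2
      exact hle hxy
    rw [sympForm_sub_right, hcon y ((hW y).2 hy), sub_zero] at h1
    exact h1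
  have hgW : ∀ w ∈ W, g *ᵥ w ∈ W := fun w hw i => hinv _ _ _ (hR i) (hw i).1 (hw i).2
  obtain ⟨u, hu, v, hv, huv, hRuv⟩ := step W hne hnd hgW
  have huv' : sympForm m F u v = -1 := by rw [sympForm_swap, huv]
  refine ⟨Fin.snoc e u, Fin.snoc f v, ⟨?_, ?_, ?_⟩, ?_⟩
  · intro i j
    induction i using Fin.lastCases with
    | last =>
      induction j using Fin.lastCases with
      | last => simp
      | cast j => simpa using (hu j).1
    | cast i =>
      induction j using Fin.lastCases with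
      | last => simpa [sympForm_swap (e i)] using (hu i).1
      | cast j => simpa using h.1 i j
  · intro i j
    induction i using Fin.lastCases with
    | last =>
      induction j using Fin.lastCases with
      | last => simp
      | cast j => simpa using (hv j).2
    | cast i =>
      induction j using Fin.lastCases with
      | last => simpa [sympForm_swap (f i)] using (hv i).2
      | cast j => simpa using h.2.1 i j
  · intro i j
    induction i using Fin.lastCases with
    | last =>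
      induction j using Fin.lastCases with
      | last => simpa using huv
      | cast j =>
        have : Fin.last k ≠ Fin.castSucc j := (Fin.castSucc_lt_last j).ne'
        simpa [this] using (hv j).1
    | cast i =>
      induction j using Fin.lastCases with
      | last =>
        have : Fin.castSucc i ≠ Fin.last k := (Fin.castSucc_lt_last i).ne
        simpa [this, sympForm_swap (f i)] using (hu i).2
      | cast j => simpa using h.2.2 i j
  · intro i
    induction i using Fin.lastCases with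
    | last => simpa using hRuv
    | cast i => simpa using hR i

/-- Existence of a full adapted family. -/
theorem exists_full (g : Matrix (Fin m ⊕ Fin m) (Fin m ⊕ Fin m) F)
    (R : (Fin m ⊕ Fin m → F) → (Fin m ⊕ Fin m → F) → Prop)
    (hinv : ∀ u v w, R u v → sympForm m F w u = 0 → sympForm m F w v = 0 →
      sympForm m F (g *ᵥ w) u = 0 ∧ sympForm m F (g *ᵥ w) v = 0)
    (step : ∀ W : Submodule F (Fin m ⊕ Fin m → F), (∃ w ∈ W, w ≠ 0) →
      (∀ w ∈ W, w ≠ 0 → ∃ x ∈ W, sympForm m F w x ≠ 0) → (∀ w ∈ W, g *ᵥ w ∈ W) →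
      ∃ u ∈ W, ∃ v ∈ W, sympForm m F v u = 1 ∧ R u v) :
    ∃ e f : Fin m → (Fin m ⊕ Fin m → F), HypFam m F m e f ∧ ∀ i, R (e i) (f i) := by
  have key : ∀ k ≤ m, ∃ e f : Fin k → (Fin m ⊕ Fin m → F), HypFam m F k e f ∧
      ∀ i, R (e i) (f i) := by
    intro k
    induction k with
    | zero =>
      intro _
      exact ⟨Fin.elim0, Fin.elim0, ⟨fun i => i.elim0, fun i => i.elim0, fun i => i.elim0⟩,
        fun i => i.elim0⟩
    | succ k ih =>
      intro hk
      obtain ⟨e, f, h, hR⟩ := ih (by omega)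
      exact extend (by omega) h g R hR hinv step
  exact key m le_rfl

/-- The matrix with columns `e i`, `f i`. -/
def colMat (e f : Fin m → (Fin m ⊕ Fin m → F)) : Matrix (Fin m ⊕ Fin m) (Fin m ⊕ Fin m) F :=
  Matrix.of fun a b => Sum.elim e f b a

theorem colMat_single_inl (e f : Fin m → (Fin m ⊕ Fin m → F)) (i : Fin m) :
    colMat e f *ᵥ Pi.single (Sum.inl i) 1 = e i := by
  rw [Matrix.mulVec_single_one]; rfl

theorem colMat_single_inr (e f : Fin m → (Fin m ⊕ Fin m → F)) (i : Fin m) :
    colMat e f *ᵥ Pi.single (Sum.inr i) 1 = f i := by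
  rw [Matrix.mulVec_single_one]; rfl

theorem colMat_mem {e f : Fin m → (Fin m ⊕ Fin m → F)} (h : HypFam m F m e f) :
    colMat e f ∈ Matrix.symplecticGroup (Fin m) F := by
  have h3' : ∀ i j, sympForm m F (e i) (f j) = if i = j then -1 else 0 := by
    intro i j
    rw [sympForm_swap, h.2.2]
    by_cases hij : i = j
    · subst hij; simp
    · rw [if_neg hij, if_neg (Ne.symm hij), neg_zero]
  rw [mem_symplecticGroup_iff]
  intro u v
  -- bilinear extension
  have hext : ((sympBilin m F).compl₁₂ (colMat e f).mulVecLin (colMat e f).mulVecLin) =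
      sympBilin m F := by
    apply LinearMap.ext_basis (Pi.basisFun F (Fin m ⊕ Fin m)) (Pi.basisFun F (Fin m ⊕ Fin m))
    intro i j
    rw [LinearMap.compl₁₂_apply, Matrix.mulVecLin_apply, Matrix.mulVecLin_apply,
      Pi.basisFun_apply, Pi.basisFun_apply, sympBilin_apply, sympBilin_apply]
    rcases i with i | i <;> rcases j with j | j
    · rw [colMat_single_inl, colMat_single_inl, sympForm_single_inl_left, h.1]
      simp
    · rw [colMat_single_inl, colMat_single_inr, sympForm_single_inl_left, h3']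
      by_cases hij : i = j
      · subst hij; simp
      · rw [if_neg hij, Pi.single_eq_of_ne (by simpa using hij), neg_zero]
    · rw [colMat_single_inl, colMat_single_inr, sympForm_single_inr_left, h.2.2]
      by_cases hij : i = j
      · subst hij; simp
      · rw [if_neg hij, Pi.single_eq_of_ne (by simpa using hij)]
    · rw [colMat_single_inr, colMat_single_inr, sympForm_single_inr_left, h.2.1]
      simp
  exact congrArg (fun B => B u v) hext

/-- Two square matrices agreeing on the standard basis vectors are equal. -/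
theorem matrix_ext_single {A B : Matrix (Fin m ⊕ Fin m) (Fin m ⊕ Fin m) F}
    (h1 : ∀ i, A *ᵥ Pi.single (Sum.inl i) 1 = B *ᵥ Pi.single (Sum.inl i) 1)
    (h2 : ∀ i, A *ᵥ Pi.single (Sum.inr i) 1 = B *ᵥ Pi.single (Sum.inr i) 1) : A = B := by
  ext a b
  rcases b with b | b
  · have := congrFun (h1 b) a
    simpa using this
  · have := congrFun (h2 b) a
    simpa using this

/-- The sign of a Boolean. -/
def sgn (F : Type*) [Field F] (b : Bool) : F := if b then -1 else 1

theorem sgn_mul_self (b : Bool) : sgn F b * sgn F b = 1 := by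
  cases b <;> simp [sgn]

/-- Relation used for involutions: `u`, `v` are eigenvectors with the same eigenvalue. -/
def RelInv (g : Matrix (Fin m ⊕ Fin m) (Fin m ⊕ Fin m) F) (u v : Fin m ⊕ Fin m → F) : Prop :=
  ∃ b : Bool, g *ᵥ u = sgn F b • u ∧ g *ᵥ v = sgn F b • v

/-- An element of `Sp` of square `1` has an adapted symplectic basis of eigenvectors. -/
theorem exists_full_inv (h2 : (2 : F) ≠ 0) {g : Matrix (Fin m ⊕ Fin m) (Fin m ⊕ Fin m) F}
    (hg : g ∈ Matrix.symplecticGroup (Fin m) F) (hgg : g * g = 1) :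
    ∃ e f : Fin m → (Fin m ⊕ Fin m → F), HypFam m F m e f ∧ ∀ i, RelInv g (e i) (f i) := by
  have hgg' : ∀ x : Fin m ⊕ Fin m → F, g *ᵥ (g *ᵥ x) = x := by
    intro x; rw [Matrix.mulVec_mulVec, hgg, Matrix.one_mulVec]
  have hadj : ∀ x y, sympForm m F (g *ᵥ x) y = sympForm m F x (g *ᵥ y) := by
    intro x y
    rw [← sympForm_mulVec hg (g *ᵥ x) y, hgg']
  apply exists_full g (RelInv g)
  · rintro u v w ⟨b, hu, hv⟩ hwu hwv
    rw [hadj, hadj, hu, hv, sympForm_smul_right, sympForm_smul_right, hwu, hwv]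
    simp
  · intro W hne hnd hgW
    obtain ⟨w, hw, hw0⟩ := hne
    -- an eigenvector in W
    have : ∃ b : Bool, ∃ u ∈ W, u ≠ 0 ∧ g *ᵥ u = sgn F b • u := by
      by_cases h : w + g *ᵥ w = 0
      · refine ⟨true, w, hw, hw0, ?_⟩
        have : g *ᵥ w = -w := by
          rw [add_comm] at h
          exact eq_neg_of_add_eq_zero_left h
        simp [sgn, this]
      · refine ⟨false, w + g *ᵥ w, W.add_mem hw (hgW w hw), h, ?_⟩
        rw [Matrix.mulVec_add, hgg', sgn, if_neg (by simp), one_smul, add_comm]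
    obtain ⟨b, u, hu, hu0, hgu⟩ := this
    obtain ⟨x, hx, hux⟩ := hnd u hu hu0
    have hxu : sympForm m F x u ≠ 0 := by
      rw [sympForm_swap]; exact neg_ne_zero.2 hux
    have hy : sympForm m F (x + sgn F b • g *ᵥ x) u = 2 * sympForm m F x u := by
      rw [sympForm_add_left, sympForm_smul_left, hadj, hgu, sympForm_smul_right, ← mul_assoc,
        sgn_mul_self]
      ring
    refine ⟨u, hu, (2 * sympForm m F x u)⁻¹ • (x + sgn F b • g *ᵥ x), ?_, ?_, b, hgu, ?_⟩
    · exact W.smul_mem _ (W.add_mem hx (W.smul_mem _ (hgW x hx)))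
    · rw [sympForm_smul_left, hy, inv_mul_cancel₀ (mul_ne_zero h2 hxu)]
    · rw [Matrix.mulVec_smul, Matrix.mulVec_add, Matrix.mulVec_smul, hgg', smul_comm (sgn F b)]
      congr 1
      rw [smul_add, smul_smul, sgn_mul_self, one_smul, add_comm]

/-- Relation used for elements of square `-1`. -/
def RelNeg (g : Matrix (Fin m ⊕ Fin m) (Fin m ⊕ Fin m) F) (u v : Fin m ⊕ Fin m → F) : Prop :=
  g *ᵥ u = v ∧ g *ᵥ v = -u

/-- In a finite field of odd order `2` is not zero. -/
theorem two_ne_zero_of_odd [Fintype F] (hodd : Fintype.card F % 2 = 1) : (2 : F) ≠ 0 := by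
  intro h2
  have h1 : ((Fintype.card F : ℕ) : F) = 0 := Nat.cast_card_eq_zero F
  rw [← Nat.div_add_mod (Fintype.card F) 2, hodd] at h1
  push_cast at h1
  rw [h2, zero_mul, zero_add] at h1
  exact one_ne_zero h1

/-- In a finite field of odd characteristic every element is a sum of two squares. -/
theorem exists_sq_add_sq [Fintype F] (hodd : Fintype.card F % 2 = 1) (c : F) :
    ∃ a b : F, a ^ 2 + b ^ 2 = c := by
  have hg : (Polynomial.X ^ 2 - Polynomial.C c : Polynomial F).degree = 2 :=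
    Polynomial.degree_X_pow_sub_C (by norm_num) c
  obtain ⟨a, b, hab⟩ := FiniteField.exists_root_sum_quadratic
    (f := (Polynomial.X ^ 2 : Polynomial F)) (Polynomial.degree_X_pow 2) hg hodd
  refine ⟨a, b, ?_⟩
  rw [Polynomial.eval_sub, Polynomial.eval_pow, Polynomial.eval_pow, Polynomial.eval_X,
    Polynomial.eval_X, Polynomial.eval_C] at hab
  linear_combination hab

/-- An element of `Sp` of square `-1` over a finite field of odd order has an adapted symplectic
basis. -/
theorem exists_full_neg [Fintype F] (hodd : Fintype.card F % 2 = 1)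
    {g : Matrix (Fin m ⊕ Fin m) (Fin m ⊕ Fin m) F}
    (hg : g ∈ Matrix.symplecticGroup (Fin m) F) (hgg : g * g = -1) :
    ∃ e f : Fin m → (Fin m ⊕ Fin m → F), HypFam m F m e f ∧ ∀ i, RelNeg g (e i) (f i) := by
  have h2 := two_ne_zero_of_odd hodd
  have hgg' : ∀ x : Fin m ⊕ Fin m → F, g *ᵥ (g *ᵥ x) = -x := by
    intro x; rw [Matrix.mulVec_mulVec, hgg, Matrix.neg_mulVec, Matrix.one_mulVec]
  have hadj : ∀ x y, sympForm m F (g *ᵥ x) y = -sympForm m F x (g *ᵥ y) := by
    intro x y
    rw [← sympForm_mulVec hg (g *ᵥ x) y, hgg', sympForm_neg_left]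
  apply exists_full g (RelNeg g)
  · rintro u v w ⟨hu, hv⟩ hwu hwv
    rw [hadj, hadj, hu, hv, sympForm_neg_right, hwu, hwv]
    simp
  · intro W hne hnd hgW
    obtain ⟨w, hw, hw0⟩ := hne
    have : ∃ u ∈ W, sympForm m F (g *ᵥ u) u ≠ 0 := by
      by_contra hcon
      push Not at hcon
      obtain ⟨x, hx, hwx⟩ := hnd w hw hw0
      have h1 := hcon (g *ᵥ w + x) (W.add_mem (hgW w hw) hx)
      rw [Matrix.mulVec_add, sympForm_add_left, sympForm_add_right, sympForm_add_right,
        hcon _ (hgW w hw), hcon x hx, hadj x (g *ᵥ w), hgg', sympForm_neg_left, sympForm_neg_right,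
        neg_neg, sympForm_swap x w] at h1
      have : (2 : F) * sympForm m F w x = 0 := by linear_combination -h1
      rcases mul_eq_zero.mp this with h | h
      · exact h2 h
      · exact hwx h
    obtain ⟨u, hu, hgu⟩ := this
    obtain ⟨a, b, hab⟩ := exists_sq_add_sq hodd (sympForm m F (g *ᵥ u) u)⁻¹
    refine ⟨a • u + b • g *ᵥ u, W.add_mem (W.smul_mem _ hu) (W.smul_mem _ (hgW u hu)),
      g *ᵥ (a • u + b • g *ᵥ u), hgW _ (W.add_mem (W.smul_mem _ hu) (W.smul_mem _ (hgW u hu))),
      ?_, rfl, hgg' _⟩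
    rw [Matrix.mulVec_add, Matrix.mulVec_smul, Matrix.mulVec_smul, hgg']
    simp only [sympForm_add_left, sympForm_add_right, sympForm_smul_left, sympForm_smul_right,
      sympForm_neg_left, sympForm_self]
    rw [sympForm_swap u (g *ᵥ u)]
    have : (a ^ 2 + b ^ 2) * sympForm m F (g *ᵥ u) u = 1 := by
      rw [hab, inv_mul_cancel₀ hgu]
    linear_combination this

theorem mulVec_colMat_of_relNeg {g : Matrix (Fin m ⊕ Fin m) (Fin m ⊕ Fin m) F}
    {e f : Fin m → (Fin m ⊕ Fin m → F)} (h : ∀ i, RelNeg g (e i) (f i)) :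
    g * colMat e f = colMat e f * Matrix.J (Fin m) F := by
  apply matrix_ext_single
  · intro i
    rw [← Matrix.mulVec_mulVec, ← Matrix.mulVec_mulVec, colMat_single_inl, (h i).1]
    have : Matrix.J (Fin m) F *ᵥ Pi.single (Sum.inl i) 1 = Pi.single (Sum.inr i) 1 := by
      ext j
      rcases j with j | j
      · rw [J_mulVec_inl]; simp
      · rw [J_mulVec_inr]; simp [Pi.single_apply]
    rw [this, colMat_single_inr]
  · intro i
    rw [← Matrix.mulVec_mulVec, ← Matrix.mulVec_mulVec, colMat_single_inr, (h i).2]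
    have : Matrix.J (Fin m) F *ᵥ Pi.single (Sum.inr i) 1 = -Pi.single (Sum.inl i) 1 := by
      ext j
      rcases j with j | j
      · rw [J_mulVec_inl]; simp [Pi.single_apply]
      · rw [J_mulVec_inr]; simp
    rw [this, Matrix.mulVec_neg, colMat_single_inl]

/-- Two elements of square `-1` in `Sp_{2m}(q)`, `q` odd, are conjugate. -/
theorem isConj_of_sq_neg_one [Fintype F] (hodd : Fintype.card F % 2 = 1)
    {g g' : Matrix.symplecticGroup (Fin m) F}
    (hg : (g : Matrix (Fin m ⊕ Fin m) (Fin m ⊕ Fin m) F) * g = -1)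
    (hg' : (g' : Matrix (Fin m ⊕ Fin m) (Fin m ⊕ Fin m) F) * g' = -1) : IsConj g g' := by
  suffices key : ∀ g : Matrix.symplecticGroup (Fin m) F,
      (g : Matrix (Fin m ⊕ Fin m) (Fin m ⊕ Fin m) F) * g = -1 →
      IsConj (SymplecticGroup.symJ (l := Fin m) (R := F)) g from (key g hg).symm.trans (key g' hg')
  intro g hg
  obtain ⟨e, f, hef, hR⟩ := exists_full_neg hodd g.2 hg
  rw [isConj_iff]
  refine ⟨⟨colMat e f, colMat_mem hef⟩, ?_⟩
  rw [mul_inv_eq_iff_eq_mul]
  apply Subtype.ext
  exact (mulVec_colMat_of_relNeg hR).symm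

/-- The involution with eigenvalue pattern `δ`. -/
def dMat (m : ℕ) (F : Type*) [Field F] (δ : Fin m → Bool) :
    Matrix (Fin m ⊕ Fin m) (Fin m ⊕ Fin m) F :=
  Matrix.diagonal (Sum.elim (fun i => sgn F (δ i)) (fun i => sgn F (δ i)))

/-- `g` has an adapted basis with eigenvalue pattern `δ`. -/
def HasPattern (g : Matrix (Fin m ⊕ Fin m) (Fin m ⊕ Fin m) F) (δ : Fin m → Bool) : Prop :=
  ∃ e f : Fin m → (Fin m ⊕ Fin m → F), HypFam m F m e f ∧
    ∀ i, g *ᵥ (e i) = sgn F (δ i) • (e i) ∧ g *ᵥ (f i) = sgn F (δ i) • (f i)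

theorem exists_hasPattern (h2 : (2 : F) ≠ 0) {g : Matrix (Fin m ⊕ Fin m) (Fin m ⊕ Fin m) F}
    (hg : g ∈ Matrix.symplecticGroup (Fin m) F) (hgg : g * g = 1) :
    ∃ δ : Fin m → Bool, HasPattern g δ := by
  obtain ⟨e, f, hef, hR⟩ := exists_full_inv h2 hg hgg
  choose δ hδ using hR
  exact ⟨δ, e, f, hef, hδ⟩

theorem HasPattern.neg {g : Matrix (Fin m ⊕ Fin m) (Fin m ⊕ Fin m) F} {δ : Fin m → Bool}
    (h : HasPattern g δ) : HasPattern (-g) (fun i => !(δ i)) := by
  obtain ⟨e, f, hef, hR⟩ := h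
  refine ⟨e, f, hef, fun i => ?_⟩
  have : sgn F (!(δ i)) = - sgn F (δ i) := by
    cases δ i <;> simp [sgn]
  rw [this, Matrix.neg_mulVec, Matrix.neg_mulVec, (hR i).1, (hR i).2, neg_smul, neg_smul]
  exact ⟨rfl, rfl⟩

theorem HasPattern.perm {g : Matrix (Fin m ⊕ Fin m) (Fin m ⊕ Fin m) F} {δ : Fin m → Bool}
    (h : HasPattern g δ) (σ : Equiv.Perm (Fin m)) : HasPattern g (δ ∘ σ) := by
  obtain ⟨e, f, hef, hR⟩ := h
  refine ⟨e ∘ σ, f ∘ σ, ⟨fun i j => hef.1 _ _, fun i j => hef.2.1 _ _, fun i j => ?_⟩,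
    fun i => hR _⟩
  rw [Function.comp_apply, Function.comp_apply, hef.2.2]
  simp

theorem HasPattern.mul_eq {g : Matrix (Fin m ⊕ Fin m) (Fin m ⊕ Fin m) F} {δ : Fin m → Bool}
    {e f : Fin m → (Fin m ⊕ Fin m → F)}
    (hR : ∀ i, g *ᵥ (e i) = sgn F (δ i) • (e i) ∧ g *ᵥ (f i) = sgn F (δ i) • (f i)) :
    g * colMat e f = colMat e f * dMat m F δ := by
  apply matrix_ext_single
  · intro i
    rw [← Matrix.mulVec_mulVec, ← Matrix.mulVec_mulVec, colMat_single_inl, (hR i).1]
    have : dMat m F δ *ᵥ Pi.single (Sum.inl i) 1 = sgn F (δ i) • Pi.single (Sum.inl i) 1 := by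
      rw [dMat, Matrix.diagonal_mulVec_single, Sum.elim_inl, mul_one, ← Pi.single_smul', smul_eq_mul,
        mul_one]
    rw [this, Matrix.mulVec_smul, colMat_single_inl]
  · intro i
    rw [← Matrix.mulVec_mulVec, ← Matrix.mulVec_mulVec, colMat_single_inr, (hR i).2]
    have : dMat m F δ *ᵥ Pi.single (Sum.inr i) 1 = sgn F (δ i) • Pi.single (Sum.inr i) 1 := by
      rw [dMat, Matrix.diagonal_mulVec_single, Sum.elim_inr, mul_one, ← Pi.single_smul', smul_eq_mul,
        mul_one]
    rw [this, Matrix.mulVec_smul, colMat_single_inr]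

/-- Elements with the same pattern are conjugate. -/
theorem isConj_of_hasPattern {g g' : Matrix.symplecticGroup (Fin m) F} {δ : Fin m → Bool}
    (h : HasPattern (g : Matrix (Fin m ⊕ Fin m) (Fin m ⊕ Fin m) F) δ)
    (h' : HasPattern (g' : Matrix (Fin m ⊕ Fin m) (Fin m ⊕ Fin m) F) δ) : IsConj g g' := by
  obtain ⟨e, f, hef, hR⟩ := h
  obtain ⟨e', f', hef', hR'⟩ := h'
  set P : Matrix.symplecticGroup (Fin m) F := ⟨colMat e f, colMat_mem hef⟩ with hP
  set P' : Matrix.symplecticGroup (Fin m) F := ⟨colMat e' f', colMat_mem hef'⟩ with hP'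
  have h1 : (g : Matrix (Fin m ⊕ Fin m) (Fin m ⊕ Fin m) F) * P = P * dMat m F δ :=
    HasPattern.mul_eq hR
  have h2 : (g' : Matrix (Fin m ⊕ Fin m) (Fin m ⊕ Fin m) F) * P' = P' * dMat m F δ :=
    HasPattern.mul_eq hR'
  have h3 : ((P⁻¹ * (g * P) : Matrix.symplecticGroup (Fin m) F) :
      Matrix (Fin m ⊕ Fin m) (Fin m ⊕ Fin m) F) = dMat m F δ := by
    rw [Submonoid.coe_mul, Submonoid.coe_mul, h1, ← mul_assoc, ← Submonoid.coe_mul,
      inv_mul_cancel, Submonoid.coe_one, one_mul]
  have h4 : g' * P' = P' * (P⁻¹ * (g * P)) := by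
    apply Subtype.ext
    rw [Submonoid.coe_mul, Submonoid.coe_mul, h2, h3]
  rw [isConj_iff]
  refine ⟨P' * P⁻¹, ?_⟩
  rw [_root_.mul_inv_rev, inv_inv]
  have h5 : P' * P⁻¹ * g * (P * P'⁻¹) = P' * (P⁻¹ * (g * P)) * P'⁻¹ := by group
  rw [h5, ← h4, mul_inv_cancel_right]

/-- The number of `-1`s in a pattern. -/
def cnt (δ : Fin m → Bool) : ℕ := Fintype.card {i // δ i = true}

theorem exists_perm_of_cnt_eq {δ δ' : Fin m → Bool} (h : cnt δ = cnt δ') :
    ∃ σ : Equiv.Perm (Fin m), δ' ∘ σ = δ := by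
  obtain ⟨E⟩ : Nonempty ({i // δ i = true} ≃ {i // δ' i = true}) := Fintype.card_eq.mp h
  refine ⟨E.extendSubtype, ?_⟩
  funext i
  by_cases hi : δ i = true
  · rw [hi]
    exact Equiv.extendSubtype_mem E i hi
  · have h1 := Equiv.extendSubtype_not_mem E i hi
    rw [Function.comp_apply]
    rw [Bool.not_eq_true] at hi h1
    rw [hi, h1]

theorem isConj_of_cnt_eq {g g' : Matrix.symplecticGroup (Fin m) F} {δ δ' : Fin m → Bool}
    (h : HasPattern (g : Matrix (Fin m ⊕ Fin m) (Fin m ⊕ Fin m) F) δ)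
    (h' : HasPattern (g' : Matrix (Fin m ⊕ Fin m) (Fin m ⊕ Fin m) F) δ')
    (hc : cnt δ = cnt δ') : IsConj g g' := by
  obtain ⟨σ, hσ⟩ := exists_perm_of_cnt_eq hc
  have := h'.perm σ
  rw [hσ] at this
  exact isConj_of_hasPattern h this

theorem cnt_le (δ : Fin m → Bool) : cnt δ ≤ m := by
  have := Fintype.card_subtype_le (fun i => δ i = true)
  rwa [Fintype.card_fin] at this

theorem cnt_not (δ : Fin m → Bool) : cnt (fun i => !(δ i)) = m - cnt δ := by
  have h := Fintype.card_subtype_compl (fun i => δ i = true)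
  rw [Fintype.card_fin] at h
  rw [cnt, cnt, ← h]
  apply Fintype.card_congr
  exact Equiv.subtypeEquivRight (fun i => by simp)

/-- A pattern without `-1` belongs to the identity. -/
theorem eq_one_of_cnt_eq_zero {g : Matrix.symplecticGroup (Fin m) F} {δ : Fin m → Bool}
    (h : HasPattern (g : Matrix (Fin m ⊕ Fin m) (Fin m ⊕ Fin m) F) δ) (hc : cnt δ = 0) :
    g = 1 := by
  have hδ : δ = fun _ => false := by
    funext i
    have := Fintype.card_eq_zero_iff.mp hc
    by_contra hi
    rw [Bool.not_eq_false] at hi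
    exact this.elim ⟨i, hi⟩
  obtain ⟨e, f, hef, hR⟩ := h
  have h1 := HasPattern.mul_eq hR
  have h2 : dMat m F δ = 1 := by
    rw [hδ, dMat]
    have : (Sum.elim (fun _ => sgn F false) (fun _ => sgn F false) : Fin m ⊕ Fin m → F) = 1 := by
      funext j
      rcases j with j | j <;> simp [sgn]
    rw [this]
    exact Matrix.diagonal_one
  rw [h2, mul_one] at h1
  set P : Matrix.symplecticGroup (Fin m) F := ⟨colMat e f, colMat_mem hef⟩ with hP
  have h3 : g * P = P := Subtype.ext h1
  simpa using h3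

/-- The centre of the symplectic group consists of `1` and `-1`. -/
theorem center_eq {z : Matrix.symplecticGroup (Fin m) F}
    (hz : z ∈ Subgroup.center (Matrix.symplecticGroup (Fin m) F)) :
    (z : Matrix (Fin m ⊕ Fin m) (Fin m ⊕ Fin m) F) = 1 ∨
      (z : Matrix (Fin m ⊕ Fin m) (Fin m ⊕ Fin m) F) = -1 := by
  have h1 : ∀ v x : Fin m ⊕ Fin m → F,
      sympForm m F ((z : Matrix (Fin m ⊕ Fin m) (Fin m ⊕ Fin m) F) *ᵥ x) v • v =
        sympForm m F x v • ((z : Matrix (Fin m ⊕ Fin m) (Fin m ⊕ Fin m) F) *ᵥ v) := by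
    intro v x
    have h := Subgroup.mem_center_iff.mp hz (transv v 1)
    have h' := congrArg (fun A : Matrix.symplecticGroup (Fin m) F =>
      (A : Matrix (Fin m ⊕ Fin m) (Fin m ⊕ Fin m) F) *ᵥ x) h
    simp only [coe_mul_mulVec, coe_transv, sympTransvection_mulVec, Matrix.mulVec_add,
      Matrix.mulVec_smul, one_mul] at h'
    exact add_left_cancel h'
  have h2 : ∀ v, ¬ LinearIndependent F
      ![v, (z : Matrix (Fin m ⊕ Fin m) (Fin m ⊕ Fin m) F).mulVecLin v] := by
    intro v
    by_cases hv : v = 0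
    · intro h
      exact h.ne_zero 0 (by simpa using hv)
    · rw [LinearIndependent.pair_iff' hv]
      push Not
      obtain ⟨x, hx⟩ : ∃ x, sympForm m F x v ≠ 0 := by
        by_contra hcon
        push Not at hcon
        exact hv (eq_zero_of_forall_sympForm_left hcon)
      refine ⟨(sympForm m F x v)⁻¹ *
        sympForm m F ((z : Matrix (Fin m ⊕ Fin m) (Fin m ⊕ Fin m) F) *ᵥ x) v, ?_⟩
      rw [mul_smul, h1 v x, smul_smul, inv_mul_cancel₀ hx, one_smul, Matrix.mulVecLin_apply]
  obtain ⟨a, ha⟩ := LinearMap.exists_eq_smul_id_of_forall_notLinearIndependent h2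
  have h3 : ∀ v, (z : Matrix (Fin m ⊕ Fin m) (Fin m ⊕ Fin m) F) *ᵥ v = a • v := by
    intro v
    have := LinearMap.congr_fun ha v
    simpa using this
  have h4 : (z : Matrix (Fin m ⊕ Fin m) (Fin m ⊕ Fin m) F) = a • 1 := by
    apply Matrix.mulVec_injective
    funext x
    rw [h3, Matrix.smul_mulVec, Matrix.one_mulVec]
  rcases Nat.eq_zero_or_pos m with hm | hm
  · subst hm
    left
    ext i
    exact i.elim (fun i => i.elim0) (fun i => i.elim0)
  · have h5 := sympForm_mulVec z.2 (Pi.single (Sum.inr ⟨0, hm⟩) 1) (Pi.single (Sum.inl ⟨0, hm⟩) 1)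
    rw [h3, h3, sympForm_smul_left, sympForm_smul_right, sympForm_single_inr_left,
      Pi.single_eq_same, mul_one] at h5
    have h6 : (a - 1) * (a + 1) = 0 := by linear_combination h5
    rcases mul_eq_zero.mp h6 with h | h
    · left
      rw [h4, sub_eq_zero.mp h, one_smul]
    · right
      rw [h4, eq_neg_of_add_eq_zero_left h, neg_smul, one_smul]

/-- `-1` as an element of the symplectic group. -/
def negOne (m : ℕ) (F : Type*) [Field F] : Matrix.symplecticGroup (Fin m) F :=
  ⟨-1, SymplecticGroup.neg_mem (Submonoid.one_mem _)⟩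

theorem negOne_mem_center : negOne m F ∈ Subgroup.center (Matrix.symplecticGroup (Fin m) F) := by
  rw [Subgroup.mem_center_iff]
  intro g
  apply Subtype.ext
  rw [Submonoid.coe_mul, Submonoid.coe_mul]
  show (g : Matrix (Fin m ⊕ Fin m) (Fin m ⊕ Fin m) F) * (-1 : Matrix (Fin m ⊕ Fin m) (Fin m ⊕ Fin m) F) =
    (-1 : Matrix (Fin m ⊕ Fin m) (Fin m ⊕ Fin m) F) * (g : Matrix (Fin m ⊕ Fin m) (Fin m ⊕ Fin m) F)
  rw [mul_neg, neg_mul, mul_one, one_mul]

theorem isConj_mk {g g' : Matrix.symplecticGroup (Fin m) F} (h : IsConj g g') :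
    IsConj (QuotientGroup.mk g : PSp m F) (QuotientGroup.mk g') := by
  rw [isConj_iff] at h ⊢
  obtain ⟨c, rfl⟩ := h
  exact ⟨QuotientGroup.mk c, rfl⟩

/-- **At most `m / 2 + 1` classes of involutions in `PSp_{2m}(q)`, `q` odd**: `n` pairwise
non-conjugate involutions satisfy `n ≤ m / 2 + 1`. -/
theorem card_le_of_nonconj [Fintype F] (hodd : Fintype.card F % 2 = 1) (n : ℕ)
    (s : Fin n → PSp m F) (hs : ∀ i, orderOf (s i) = 2)
    (hnc : ∀ i j, IsConj (s i) (s j) → i = j) : n ≤ m / 2 + 1 := by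
  have h2 := two_ne_zero_of_odd hodd
  -- type of an involution
  let T : ℕ → PSp m F → Prop := fun t x =>
    (t = 0 ∧ ∃ g : Matrix.symplecticGroup (Fin m) F, QuotientGroup.mk g = x ∧
      (g : Matrix (Fin m ⊕ Fin m) (Fin m ⊕ Fin m) F) * g = -1) ∨
    (t ≠ 0 ∧ ∃ (g : Matrix.symplecticGroup (Fin m) F) (δ : Fin m → Bool), QuotientGroup.mk g = x ∧
      HasPattern (g : Matrix (Fin m ⊕ Fin m) (Fin m ⊕ Fin m) F) δ ∧ cnt δ = t)
  have hex : ∀ x : PSp m F, orderOf x = 2 → ∃ t, t < m / 2 + 1 ∧ T t x := by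
    intro x hx
    induction x using QuotientGroup.induction_on with
    | H g =>
      have hsq : (g * g : Matrix.symplecticGroup (Fin m) F) ∈
          Subgroup.center (Matrix.symplecticGroup (Fin m) F) := by
        rw [← QuotientGroup.eq_one_iff]
        have := pow_orderOf_eq_one (QuotientGroup.mk g : PSp m F)
        rw [hx, pow_two] at this
        exact this
      have hne : (QuotientGroup.mk g : PSp m F) ≠ 1 := by
        intro h
        rw [h, orderOf_one] at hx
        omega
      rcases center_eq hsq with h | h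
      · rw [Submonoid.coe_mul] at h
        obtain ⟨δ, hδ⟩ := exists_hasPattern h2 g.2 h
        have h0 : cnt δ ≠ 0 := by
          intro h0
          apply hne
          rw [eq_one_of_cnt_eq_zero hδ h0]
          rfl
        have hm1 : (negOne m F * g : Matrix.symplecticGroup (Fin m) F).1 = -g.1 := by
          show (-1 : Matrix _ _ F) * g.1 = -g.1
          rw [neg_mul, one_mul]
        have hmk : (QuotientGroup.mk (negOne m F * g) : PSp m F) = QuotientGroup.mk g := by
          rw [QuotientGroup.mk_mul, (QuotientGroup.eq_one_iff _).mpr negOne_mem_center, one_mul]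
        have hδ' : HasPattern (negOne m F * g : Matrix.symplecticGroup (Fin m) F).1
            (fun i => !(δ i)) := by
          rw [hm1]; exact hδ.neg
        have hcn := cnt_not δ
        have hle := cnt_le δ
        have h0' : cnt (fun i => !(δ i)) ≠ 0 := by
          intro h0
          apply hne
          rw [← hmk, eq_one_of_cnt_eq_zero hδ' h0]
          rfl
        rcases Nat.lt_or_ge (cnt δ) (m / 2 + 1) with hlt | hge
        · exact ⟨cnt δ, hlt, Or.inr ⟨h0, g, δ, rfl, hδ, rfl⟩⟩
        · exact ⟨cnt (fun i => !(δ i)), by omega, Or.inr ⟨h0', _, _, hmk, hδ', rfl⟩⟩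
      · rw [Submonoid.coe_mul] at h
        exact ⟨0, Nat.succ_pos _, Or.inl ⟨rfl, g, rfl, h⟩⟩
  have hconj : ∀ (t : ℕ) (x y : PSp m F), T t x → T t y → IsConj x y := by
    rintro t x y (⟨ht, g, rfl, hg⟩ | ⟨ht, g, δ, rfl, hg, hc⟩) (⟨ht', g', rfl, hg'⟩ | ⟨ht', g', δ', rfl, hg', hc'⟩)
    · exact isConj_mk (isConj_of_sq_neg_one hodd hg hg')
    · exact absurd ht ht'
    · exact absurd ht' ht
    · exact isConj_mk (isConj_of_cnt_eq hg hg' (hc.trans hc'.symm))
  choose t ht hT using fun i => hex (s i) (hs i)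
  have hinj : Function.Injective (fun i => (⟨t i, ht i⟩ : Fin (m / 2 + 1))) := by
    intro i j hij
    have : t i = t j := by simpa using hij
    apply hnc
    apply hconj (t i) _ _ (hT i)
    rw [this]
    exact hT j
  have := Fintype.card_le_of_injective _ hinj
  simpa using this

end Cfsg.Agent.ClassicalGeometry.SympInvolutions
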