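import Mathlib
set_option linter.all false

/-!
# The normaliser of the split torus in `SL₂(q)`

* `monomial F`: the subgroup of monomial matrices of `SL₂(F)`.
* `eq_top_of_monomial_lt`: over a finite field with `q ∉ {3, 5, 7, 9, 11}` elements it is a maximal
  subgroup. The proof is elementary and does not use Dickson's list.
-/

set_option autoImplicit false

open Matrix Matrix.SpecialLinearGroup

namespace Cfsg.Agent.ClassicalGeometry.SplitTorus

variable {F : Type*} [Field F]

/-! ### Entries -/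

theorem mul00 (A B : SpecialLinearGroup (Fin 2) F) :
    (A * B) 0 0 = A 0 0 * B 0 0 + A 0 1 * B 1 0 := by
  rw [coe_mul, Matrix.mul_apply, Fin.sum_univ_two]

theorem mul01 (A B : SpecialLinearGroup (Fin 2) F) :
    (A * B) 0 1 = A 0 0 * B 0 1 + A 0 1 * B 1 1 := by
  rw [coe_mul, Matrix.mul_apply, Fin.sum_univ_two]

theorem mul10 (A B : SpecialLinearGroup (Fin 2) F) :
    (A * B) 1 0 = A 1 0 * B 0 0 + A 1 1 * B 1 0 := by
  rw [coe_mul, Matrix.mul_apply, Fin.sum_univ_two]

theorem mul11 (A B : SpecialLinearGroup (Fin 2) F) :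
    (A * B) 1 1 = A 1 0 * B 0 1 + A 1 1 * B 1 1 := by
  rw [coe_mul, Matrix.mul_apply, Fin.sum_univ_two]

theorem inv00 (A : SpecialLinearGroup (Fin 2) F) : (A⁻¹) 0 0 = A 1 1 := by
  rw [coe_inv, adjugate_fin_two]; rfl

theorem inv01 (A : SpecialLinearGroup (Fin 2) F) : (A⁻¹) 0 1 = - A 0 1 := by
  rw [coe_inv, adjugate_fin_two]; rfl

theorem inv10 (A : SpecialLinearGroup (Fin 2) F) : (A⁻¹) 1 0 = - A 1 0 := by
  rw [coe_inv, adjugate_fin_two]; rfl

theorem inv11 (A : SpecialLinearGroup (Fin 2) F) : (A⁻¹) 1 1 = A 0 0 := by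
  rw [coe_inv, adjugate_fin_two]; rfl

theorem det_eq (A : SpecialLinearGroup (Fin 2) F) : A 0 0 * A 1 1 - A 0 1 * A 1 0 = 1 := by
  have h := det_coe A
  rwa [det_fin_two] at h

theorem ext2 {A B : SpecialLinearGroup (Fin 2) F} (h00 : A 0 0 = B 0 0) (h01 : A 0 1 = B 0 1)
    (h10 : A 1 0 = B 1 0) (h11 : A 1 1 = B 1 1) : A = B := by
  apply Matrix.SpecialLinearGroup.ext
  intro i j
  fin_cases i <;> fin_cases j
  · exact h00
  · exact h01
  · exact h10
  · exact h11

/-! ### Special elements -/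

/-- The diagonal matrix `diag(t, t⁻¹)`. -/
def dg (t : Fˣ) : SpecialLinearGroup (Fin 2) F :=
  ⟨!![(t : F), 0; 0, ((t⁻¹ : Fˣ) : F)], by
    rw [det_fin_two_of, mul_zero, sub_zero, Units.mul_inv]⟩

/-- The Weyl element `[[0, 1], [-1, 0]]`. -/
def wl (F : Type*) [Field F] : SpecialLinearGroup (Fin 2) F :=
  ⟨!![0, 1; -1, 0], by rw [det_fin_two_of]; ring⟩

/-- The upper transvection `[[1, b], [0, 1]]`. -/
def up (b : F) : SpecialLinearGroup (Fin 2) F :=
  ⟨!![1, b; 0, 1], by rw [det_fin_two_of]; ring⟩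

/-- The lower transvection `[[1, 0], [c, 1]]`. -/
def lo (c : F) : SpecialLinearGroup (Fin 2) F :=
  ⟨!![1, 0; c, 1], by rw [det_fin_two_of]; ring⟩

@[simp] theorem dg00 (t : Fˣ) : (dg t) 0 0 = (t : F) := rfl
@[simp] theorem dg01 (t : Fˣ) : (dg t) 0 1 = (0 : F) := rfl
@[simp] theorem dg10 (t : Fˣ) : (dg t) 1 0 = (0 : F) := rfl
@[simp] theorem dg11 (t : Fˣ) : (dg t) 1 1 = ((t⁻¹ : Fˣ) : F) := rfl
@[simp] theorem wl00 : (wl F) 0 0 = (0 : F) := rfl
@[simp] theorem wl01 : (wl F) 0 1 = (1 : F) := rfl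
@[simp] theorem wl10 : (wl F) 1 0 = (-1 : F) := rfl
@[simp] theorem wl11 : (wl F) 1 1 = (0 : F) := rfl
@[simp] theorem up00 (b : F) : (up b) 0 0 = (1 : F) := rfl
@[simp] theorem up01 (b : F) : (up b) 0 1 = b := rfl
@[simp] theorem up10 (b : F) : (up b) 1 0 = (0 : F) := rfl
@[simp] theorem up11 (b : F) : (up b) 1 1 = (1 : F) := rfl
@[simp] theorem lo00 (c : F) : (lo c) 0 0 = (1 : F) := rfl
@[simp] theorem lo01 (c : F) : (lo c) 0 1 = (0 : F) := rfl
@[simp] theorem lo10 (c : F) : (lo c) 1 0 = c := rfl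
@[simp] theorem lo11 (c : F) : (lo c) 1 1 = (1 : F) := rfl

theorem dg_mul (s t : Fˣ) : dg (s * t) = dg s * dg t := by
  apply ext2
  · rw [mul00]; simp
  · rw [mul01]; simp
  · rw [mul10]; simp
  · rw [mul11]; simp [mul_comm]

theorem dg_one : dg (1 : Fˣ) = 1 := by
  apply ext2 <;> simp

theorem dg_inv (t : Fˣ) : dg t⁻¹ = (dg t)⁻¹ := by
  rw [eq_inv_iff_mul_eq_one, ← dg_mul, inv_mul_cancel, dg_one]

/-- `dg` as a homomorphism. -/
def dgHom (F : Type*) [Field F] : Fˣ →* SpecialLinearGroup (Fin 2) F where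
  toFun := dg
  map_one' := dg_one
  map_mul' := dg_mul

theorem up_add (b c : F) : up (b + c) = up b * up c := by
  apply ext2
  · rw [mul00]; simp
  · rw [mul01]; simp [add_comm]
  · rw [mul10]; simp
  · rw [mul11]; simp

theorem up_zero : up (0 : F) = 1 := by
  apply ext2 <;> simp

theorem up_neg (b : F) : up (-b) = (up b)⁻¹ := by
  rw [eq_inv_iff_mul_eq_one, ← up_add, neg_add_cancel, up_zero]

theorem dg_conj_up (t : Fˣ) (b : F) : dg t * up b * (dg t)⁻¹ = up ((t : F) ^ 2 * b) := by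
  rw [mul_inv_eq_iff_eq_mul]
  have ht : (t : F) ≠ 0 := t.ne_zero
  apply ext2
  · rw [mul00, mul00]; simp
  · rw [mul01, mul01]; simp; field_simp
  · rw [mul10, mul10]; simp
  · rw [mul11, mul11]; simp

theorem wl_mul_up (b : F) : wl F * up (-b) * (wl F)⁻¹ = lo b := by
  rw [mul_inv_eq_iff_eq_mul]
  apply ext2
  · rw [mul00, mul00]; simp
  · rw [mul01, mul01]; simp
  · rw [mul10, mul10]; simp
  · rw [mul11, mul11]; simp

/-- Every element of `SL₂(F)` is a product of upper and lower transvections. -/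
theorem mem_of_up_lo (H : Subgroup (SpecialLinearGroup (Fin 2) F)) (hu : ∀ b : F, up b ∈ H)
    (hl : ∀ c : F, lo c ∈ H) (A : SpecialLinearGroup (Fin 2) F) : A ∈ H := by
  -- first the case where the lower left entry is not zero
  have key : ∀ A : SpecialLinearGroup (Fin 2) F, A 1 0 ≠ 0 → A ∈ H := by
    intro A hA
    have hdet := det_eq A
    have h1 : A = up ((A 0 0 - 1) / A 1 0) * lo (A 1 0) * up ((A 1 1 - 1) / A 1 0) := by
      apply ext2
      · rw [mul00, mul00, mul01]; simp; field_simp; ring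
      · rw [mul01, mul00, mul01]; simp; field_simp; linear_combination (-1 : F) * hdet
      · rw [mul10, mul10, mul11]; simp
      · rw [mul11, mul10, mul11]; simp; field_simp; ring
    rw [h1]
    exact mul_mem (mul_mem (hu _) (hl _)) (hu _)
  by_cases hA : A 1 0 = 0
  · have hdet := det_eq A
    have h00 : A 0 0 ≠ 0 := by
      intro h
      rw [h, hA] at hdet
      simp at hdet
    have h3 := key (lo (1 : F) * A) (by rw [mul10]; simp [hA, h00])
    have h4 : A = (lo (1 : F))⁻¹ * (lo (1 : F) * A) := by rw [inv_mul_cancel_left]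
    rw [h4]
    exact mul_mem (inv_mem (hl 1)) h3
  · exact key A hA

/-! ### The monomial subgroup -/

/-- The subgroup of monomial matrices of determinant one. -/
def monomial (F : Type*) [Field F] : Subgroup (SpecialLinearGroup (Fin 2) F) where
  carrier := {A | (A 0 1 = 0 ∧ A 1 0 = 0) ∨ (A 0 0 = 0 ∧ A 1 1 = 0)}
  one_mem' := by
    left
    constructor <;> simp
  mul_mem' := by
    rintro A B (⟨h1, h2⟩ | ⟨h1, h2⟩) (⟨h3, h4⟩ | ⟨h3, h4⟩)
    · left
      rw [mul01, mul10, h1, h2, h3, h4]; simp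
    · right
      rw [mul00, mul11, h1, h2, h3, h4]; simp
    · right
      rw [mul00, mul11, h1, h2, h3, h4]; simp
    · left
      rw [mul01, mul10, h1, h2, h3, h4]; simp
  inv_mem' := by
    rintro A (⟨h1, h2⟩ | ⟨h1, h2⟩)
    · left
      rw [inv01, inv10, h1, h2]; simp
    · right
      rw [inv00, inv11, h1, h2]; simp

theorem mem_monomial {A : SpecialLinearGroup (Fin 2) F} :
    A ∈ monomial F ↔ (A 0 1 = 0 ∧ A 1 0 = 0) ∨ (A 0 0 = 0 ∧ A 1 1 = 0) := Iff.rfl

theorem dg_mem_monomial (t : Fˣ) : dg t ∈ monomial F := Or.inl ⟨rfl, rfl⟩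

theorem wl_mem_monomial : wl F ∈ monomial F := Or.inr ⟨rfl, rfl⟩

theorem up_one_not_mem_monomial : up (1 : F) ∉ monomial F := by
  rintro (⟨h1, -⟩ | ⟨h1, -⟩)
  · rw [up01] at h1; exact one_ne_zero h1
  · rw [up00] at h1; exact one_ne_zero h1

/-- The elements of the monomial subgroup. -/
theorem eq_of_mem_monomial {A : SpecialLinearGroup (Fin 2) F} (hA : A ∈ monomial F) :
    (∃ t : Fˣ, A = dg t) ∨ (∃ t : Fˣ, A = wl F * dg t) := by
  have hdet := det_eq A
  rcases hA with ⟨h1, h2⟩ | ⟨h1, h2⟩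
  · left
    rw [h1, zero_mul, sub_zero] at hdet
    refine ⟨⟨A 0 0, A 1 1, hdet, by rw [mul_comm]; exact hdet⟩, ?_⟩
    apply ext2
    · rfl
    · exact h1
    · exact h2
    · rfl
  · right
    rw [h1, zero_mul, zero_sub] at hdet
    refine ⟨⟨- A 1 0, A 0 1, by linear_combination hdet, by linear_combination hdet⟩, ?_⟩
    apply ext2
    · rw [mul00, h1]; simp
    · rw [mul01]; simp
    · rw [mul10]; simp
    · rw [mul11, h2]; simp

/-! ### Maximality -/

section max

variable {H : Subgroup (SpecialLinearGroup (Fin 2) F)}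

/-- If `H` contains the monomial subgroup and one nontrivial upper transvection then it is the whole
group (`F` is a perfect field of characteristic two, or any field of other characteristic). -/
theorem eq_top_of_up (hF : (2 : F) ≠ 0 ∨ ∀ x : F, ∃ y, y ^ 2 = x) (hN : monomial F ≤ H) {b : F}
    (hb : b ≠ 0) (hbH : up b ∈ H) : H = ⊤ := by
  have hsq : ∀ t : F, up (t ^ 2 * b) ∈ H := by
    intro t
    by_cases ht : t = 0
    · rw [ht]
      have h0 : (0 : F) ^ 2 * b = 0 := by ring
      rw [h0, up_zero]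
      exact one_mem H
    · have h1 := dg_conj_up (Units.mk0 t ht) b
      rw [Units.val_mk0] at h1
      rw [← h1]
      exact mul_mem (mul_mem (hN (dg_mem_monomial _)) hbH) (inv_mem (hN (dg_mem_monomial _)))
  have hall : ∀ x : F, up x ∈ H := by
    intro x
    rcases hF with h2 | hsurj
    · have h4 : (2 : F) ^ 2 ≠ 0 := pow_ne_zero _ h2
      have h1 : x = ((x / b + 1) / 2) ^ 2 * b + -(((x / b - 1) / 2) ^ 2 * b) := by
        field_simp
        ring
      rw [h1, up_add, up_neg]
      exact mul_mem (hsq _) (inv_mem (hsq _))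
    · obtain ⟨y, hy⟩ := hsurj (x / b)
      have h1 : x = y ^ 2 * b := by
        rw [hy, div_mul_cancel₀ _ hb]
      rw [h1]
      exact hsq y
  rw [eq_top_iff]
  intro A _
  refine mem_of_up_lo H hall (fun c => ?_) A
  rw [← wl_mul_up]
  exact mul_mem (mul_mem (hN wl_mem_monomial) (hall _)) (inv_mem (hN wl_mem_monomial))

/-- If `H` contains the monomial subgroup and an upper triangular matrix which is not diagonal,
then it is the whole group. -/
theorem eq_top_of_upper (hF : (2 : F) ≠ 0 ∨ ∀ x : F, ∃ y, y ^ 2 = x) (hN : monomial F ≤ H)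
    {A : SpecialLinearGroup (Fin 2) F} (hA : A ∈ H) (h10 : A 1 0 = 0) (h01 : A 0 1 ≠ 0) :
    H = ⊤ := by
  have hdet := det_eq A
  rw [h10, mul_zero, sub_zero] at hdet
  have h11 : A 1 1 ≠ 0 := by
    intro h
    rw [h, mul_zero] at hdet
    exact zero_ne_one hdet
  have h1 : up (A 1 1 * A 0 1) =
      dg ⟨A 1 1, A 0 0, by rw [mul_comm]; exact hdet, hdet⟩ * A := by
    apply ext2
    · rw [mul00]; simp [← hdet, mul_comm]
    · rw [mul01]; simp
    · rw [mul10]; simp [h10]
    · rw [mul11]; simp [← hdet]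
  refine eq_top_of_up hF hN (mul_ne_zero h11 h01) ?_
  rw [h1]
  exact mul_mem (hN (dg_mem_monomial _)) hA

/-- If `H` contains the monomial subgroup and a non-monomial matrix with a zero entry,
then it is the whole group. -/
theorem mem_monomial_of_zero (hF : (2 : F) ≠ 0 ∨ ∀ x : F, ∃ y, y ^ 2 = x) (hN : monomial F ≤ H)
    (hH : H ≠ ⊤) {A : SpecialLinearGroup (Fin 2) F} (hA : A ∈ H)
    (h0 : A 0 0 = 0 ∨ A 0 1 = 0 ∨ A 1 0 = 0 ∨ A 1 1 = 0) : A ∈ monomial F := by
  have hw : wl F ∈ H := hN wl_mem_monomial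
  rcases h0 with h | h | h | h
  · right
    refine ⟨h, ?_⟩
    by_contra h11
    refine hH (eq_top_of_upper hF hN (mul_mem hw hA) ?_ ?_)
    · rw [mul10]; simp [h]
    · rw [mul01]; simp [h11]
  · left
    refine ⟨h, ?_⟩
    by_contra h10
    refine hH (eq_top_of_upper hF hN (mul_mem (mul_mem hw hA) hw) ?_ ?_)
    · rw [mul10, mul10, mul11]; simp [h]
    · rw [mul01, mul00, mul01]; simp [h10]
  · left
    refine ⟨?_, h⟩
    by_contra h01
    exact hH (eq_top_of_upper hF hN hA h h01)
  · right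
    refine ⟨?_, h⟩
    by_contra h00
    refine hH (eq_top_of_upper hF hN (mul_mem hA hw) ?_ ?_)
    · rw [mul10]; simp [h]
    · rw [mul01]; simp [h00]

/-- The comparison of two non-monomial elements of `H` whose images of `∞` differ by a square. -/
theorem cross_eq (hF : (2 : F) ≠ 0 ∨ ∀ x : F, ∃ y, y ^ 2 = x) (hN : monomial F ≤ H)
    (hH : H ≠ ⊤) {A B : SpecialLinearGroup (Fin 2) F} (hA : A ∈ H) (hB : B ∈ H)
    (hB' : B ∉ monomial F)
    (s : F) (hs : s ≠ 0) (h : s ^ 2 * (A 0 0 * B 1 0) = B 0 0 * A 1 0) :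
    B 0 0 * B 1 1 = A 0 0 * A 1 1 := by
  have hBA : B⁻¹ * (dg (Units.mk0 s hs) * A) ∈ H :=
    mul_mem (inv_mem hB) (mul_mem (hN (dg_mem_monomial _)) hA)
  have h10 : (B⁻¹ * (dg (Units.mk0 s hs) * A)) 1 0 = 0 := by
    rw [mul10, inv10, inv11, mul00, mul10]
    simp
    field_simp
    linear_combination (-1 : F) * h
  have hmem := mem_monomial_of_zero hF hN hH hBA (Or.inr (Or.inr (Or.inl h10)))
  have hdA := det_eq A
  have hdB := det_eq B
  have hB00 : B 0 0 ≠ 0 := fun h0 => hB' (mem_monomial_of_zero hF hN hH hB (Or.inl h0))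
  have hB01 : B 0 1 ≠ 0 := fun h0 => hB' (mem_monomial_of_zero hF hN hH hB (Or.inr (Or.inl h0)))
  have hB10 : B 1 0 ≠ 0 := fun h0 =>
    hB' (mem_monomial_of_zero hF hN hH hB (Or.inr (Or.inr (Or.inl h0))))
  have hB11 : B 1 1 ≠ 0 := fun h0 =>
    hB' (mem_monomial_of_zero hF hN hH hB (Or.inr (Or.inr (Or.inr h0))))
  rcases hmem with ⟨h01, -⟩ | ⟨h00, h11⟩
  · rw [mul01, inv00, inv01, mul01, mul11] at h01
    simp at h01
    field_simp at h01
    -- s² A01 B11 = B01 A11
    have h2 : s ^ 2 * (A 0 1 * B 1 1) = B 0 1 * A 1 1 := by linear_combination h01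
    have hA10 : s ^ 2 * A 0 0 = B 0 0 * A 1 0 / B 1 0 := by
      field_simp
      linear_combination h
    have key : (B 0 0 * B 1 1) * (A 0 1 * A 1 0) = (A 0 0 * A 1 1) * (B 0 1 * B 1 0) := by
      have hs2 : s ^ 2 ≠ 0 := pow_ne_zero _ hs
      apply mul_left_cancel₀ hs2
      calc s ^ 2 * (B 0 0 * B 1 1 * (A 0 1 * A 1 0))
          = (B 0 0 * A 1 0) * (s ^ 2 * (A 0 1 * B 1 1)) := by ring
        _ = (s ^ 2 * (A 0 0 * B 1 0)) * (B 0 1 * A 1 1) := by rw [h2, h]
        _ = s ^ 2 * (A 0 0 * A 1 1 * (B 0 1 * B 1 0)) := by ring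
    linear_combination (-1 : F) * key + (A 0 0 * A 1 1) * hdB - (B 0 0 * B 1 1) * hdA
  · exfalso
    -- determinant of the product would vanish
    have hd := det_eq (B⁻¹ * (dg (Units.mk0 s hs) * A))
    rw [h00, h10] at hd
    simp at hd

end max

/-- In a finite field with `y` and `-y` non-squares, `-1` is a square. -/
theorem isSquare_neg_one_of_not [Fintype F] {y : F} (h1 : ¬ IsSquare y) (h2 : ¬ IsSquare (-y)) :
    IsSquare (-1 : F) := by
  classical
  rw [← quadraticChar_neg_one_iff_not_isSquare] at h1 h2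
  have h3 : quadraticChar F (-1) = 1 := by
    have h4 : quadraticChar F (-y) = quadraticChar F (-1) * quadraticChar F y := by
      rw [← map_mul, neg_one_mul]
    rw [h1, h2] at h4
    linarith
  exact (quadraticChar_one_iff_isSquare (neg_ne_zero.mpr one_ne_zero)).mp h3

theorem char_dichotomy (F : Type*) [Field F] [Fintype F] :
    (2 : F) ≠ 0 ∨ ∀ x : F, ∃ y, y ^ 2 = x := by
  by_cases h : (2 : F) = 0
  · right
    intro x
    have h2 : ringChar F = 2 := by
      have h3 : ringChar F ∣ 2 := (ringChar.spec F 2).mp (by exact_mod_cast h)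
      rcases (Nat.dvd_prime Nat.prime_two).mp h3 with h4 | h4
      · exact absurd h4 (CharP.ringChar_ne_one)
      · exact h4
    obtain ⟨y, hy⟩ := FiniteField.isSquare_of_char_two h2 x
    exact ⟨y, by rw [hy, sq]⟩
  · left
    exact h

section max2

variable [Fintype F] {H : Subgroup (SpecialLinearGroup (Fin 2) F)}

/-- If `-1` is a square then every non-monomial element of `H` has `2 a d = 1`. -/
theorem two_mul_eq_one (hN : monomial F ≤ H) (hH : H ≠ ⊤)
    {A : SpecialLinearGroup (Fin 2) F} (hA : A ∈ H) (hA' : A ∉ monomial F)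
    (hsq : IsSquare (-1 : F)) : 2 * (A 0 0 * A 1 1) = 1 := by
  have hF := char_dichotomy F
  obtain ⟨i, hi⟩ := hsq
  have hA00 : A 0 0 ≠ 0 := fun h0 => hA' (mem_monomial_of_zero hF hN hH hA (Or.inl h0))
  have hA10 : A 1 0 ≠ 0 := fun h0 =>
    hA' (mem_monomial_of_zero hF hN hH hA (Or.inr (Or.inr (Or.inl h0))))
  have hi0 : i ≠ 0 := by
    rintro rfl
    rw [mul_zero] at hi
    exact (neg_ne_zero.mpr one_ne_zero) hi
  have hw : wl F * A ∈ H := mul_mem (hN wl_mem_monomial) hA
  have hw' : wl F * A ∉ monomial F := by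
    intro h
    apply hA'
    have := mul_mem (inv_mem (wl_mem_monomial (F := F))) h
    rwa [inv_mul_cancel_left] at this
  have h1 := cross_eq hF hN hH hA hw hw' (i * A 1 0 / A 0 0)
    (div_ne_zero (mul_ne_zero hi0 hA10) hA00) (by
      rw [mul00, mul10]
      simp only [wl00, wl01, wl10, wl11]
      field_simp
      linear_combination (A 1 0 * A 0 0) * hi)
  rw [mul00, mul11] at h1
  simp only [wl00, wl01, wl10, wl11] at h1
  have hdet := det_eq A
  linear_combination (-1 : F) * h1 + hdet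

/-- Any two non-monomial elements of `H` have the same `a d` up to `x ↦ 1 - x`. -/
theorem cross_dichotomy (hN : monomial F ≤ H) (hH : H ≠ ⊤)
    {A B : SpecialLinearGroup (Fin 2) F} (hA : A ∈ H) (hA' : A ∉ monomial F) (hB : B ∈ H)
    (hB' : B ∉ monomial F) :
    B 0 0 * B 1 1 = A 0 0 * A 1 1 ∨ B 0 0 * B 1 1 = 1 - A 0 0 * A 1 1 := by
  have hF := char_dichotomy F
  have hA00 : A 0 0 ≠ 0 := fun h0 => hA' (mem_monomial_of_zero hF hN hH hA (Or.inl h0))
  have hA10 : A 1 0 ≠ 0 := fun h0 =>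
    hA' (mem_monomial_of_zero hF hN hH hA (Or.inr (Or.inr (Or.inl h0))))
  have hB00 : B 0 0 ≠ 0 := fun h0 => hB' (mem_monomial_of_zero hF hN hH hB (Or.inl h0))
  have hB10 : B 1 0 ≠ 0 := fun h0 =>
    hB' (mem_monomial_of_zero hF hN hH hB (Or.inr (Or.inr (Or.inl h0))))
  set y : F := (B 0 0 * A 1 0) / (A 0 0 * B 1 0) with hy
  have hy0 : y ≠ 0 := div_ne_zero (mul_ne_zero hB00 hA10) (mul_ne_zero hA00 hB10)
  by_cases h1 : IsSquare y
  · left
    obtain ⟨s, hs⟩ := h1
    have hs0 : s ≠ 0 := by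
      rintro rfl
      rw [mul_zero] at hs
      exact hy0 hs
    refine cross_eq hF hN hH hA hB hB' s hs0 ?_
    rw [sq, ← hs, hy]
    field_simp
  · by_cases h2 : IsSquare (-y)
    · right
      obtain ⟨s, hs⟩ := h2
      have hs0 : s ≠ 0 := by
        rintro rfl
        rw [mul_zero] at hs
        exact (neg_ne_zero.mpr hy0) hs
      have hw : wl F * A ∈ H := mul_mem (hN wl_mem_monomial) hA
      have h3 := cross_eq hF hN hH hw hB hB' (s * A 0 0 / A 1 0)
        (div_ne_zero (mul_ne_zero hs0 hA00) hA10) (by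
          rw [mul00, mul10]
          simp only [wl00, wl01, wl10, wl11]
          have h4 : (s * A 0 0 / A 1 0) ^ 2 = - (B 0 0 * A 0 0 / (A 1 0 * B 1 0)) := by
            have h5 : (s * A 0 0 / A 1 0) ^ 2 = (s * s) * (A 0 0) ^ 2 / (A 1 0) ^ 2 := by
              field_simp
            rw [h5, ← hs, hy]
            field_simp
          rw [h4]
          field_simp
          ring)
      rw [h3, mul00, mul11]
      simp only [wl00, wl01, wl10, wl11]
      have hdet := det_eq A
      linear_combination hdet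
    · have h3 := isSquare_neg_one_of_not h1 h2
      have h4 := two_mul_eq_one hN hH hA hA' h3
      have h5 := two_mul_eq_one hN hH hB hB' h3
      left
      have h2 : (2 : F) ≠ 0 := by
        intro h
        rw [h, zero_mul] at h4
        exact zero_ne_one h4
      exact mul_left_cancel₀ h2 (h5.trans h4.symm)

/-- The main computation: four polynomials one of which vanishes at each non-zero `t`. -/
theorem poly_cases (hN : monomial F ≤ H) (hH : H ≠ ⊤)
    {A : SpecialLinearGroup (Fin 2) F} (hA : A ∈ H) (hA' : A ∉ monomial F) (t : F) (ht : t ≠ 0) :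
    A 0 0 * t ^ 2 + A 1 1 = 0 ∨ (A 0 0) ^ 2 * t ^ 2 + A 0 1 * A 1 0 = 0 ∨
    ((A 0 0) ^ 2 * t ^ 2 + A 0 1 * A 1 0) * (A 0 1 * A 1 0 * t ^ 2 + (A 1 1) ^ 2) -
      (A 0 0 * A 1 1) * t ^ 2 = 0 ∨
    ((A 0 0) ^ 2 * t ^ 2 + A 0 1 * A 1 0) * (A 0 1 * A 1 0 * t ^ 2 + (A 1 1) ^ 2) -
      (1 - A 0 0 * A 1 1) * t ^ 2 = 0 := by
  have hF := char_dichotomy F
  have hA01 : A 0 1 ≠ 0 := fun h0 =>
    hA' (mem_monomial_of_zero hF hN hH hA (Or.inr (Or.inl h0)))
  have hC : A * dg (Units.mk0 t ht) * A ∈ H := mul_mem (mul_mem hA (hN (dg_mem_monomial _))) hA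
  have c00 : (A * dg (Units.mk0 t ht) * A) 0 0 = ((A 0 0) ^ 2 * t ^ 2 + A 0 1 * A 1 0) / t := by
    rw [mul00, mul00, mul01]
    simp
    field_simp
  have c01 : (A * dg (Units.mk0 t ht) * A) 0 1 = A 0 1 * (A 0 0 * t ^ 2 + A 1 1) / t := by
    rw [mul01, mul00, mul01]
    simp
    field_simp
  have c11 : (A * dg (Units.mk0 t ht) * A) 1 1 = (A 0 1 * A 1 0 * t ^ 2 + (A 1 1) ^ 2) / t := by
    rw [mul11, mul10, mul11]
    simp
    field_simp
  by_cases hmem : A * dg (Units.mk0 t ht) * A ∈ monomial F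
  · rcases hmem with ⟨h01, -⟩ | ⟨h00, -⟩
    · left
      rw [c01, div_eq_zero_iff] at h01
      rcases h01 with h01 | h01
      · exact (mul_eq_zero.mp h01).resolve_left hA01
      · exact absurd h01 ht
    · right; left
      rw [c00, div_eq_zero_iff] at h00
      exact h00.resolve_right ht
  · have h1 := cross_dichotomy hN hH hA hA' hC hmem
    rw [c00, c11] at h1
    rcases h1 with h1 | h1
    · right; right; left
      field_simp at h1
      linear_combination h1
    · right; right; right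
      field_simp at h1
      linear_combination h1

open Polynomial in
/-- The order of the field is bounded. -/
theorem card_le (hN : monomial F ≤ H) (hH : H ≠ ⊤)
    {A : SpecialLinearGroup (Fin 2) F} (hA : A ∈ H) (hA' : A ∉ monomial F) :
    Fintype.card F ≤ 13 ∧ (2 * (A 0 0 * A 1 1) = 1 → Fintype.card F ≤ 9) := by
  classical
  have hF := char_dichotomy F
  have hA00 : A 0 0 ≠ 0 := fun h0 => hA' (mem_monomial_of_zero hF hN hH hA (Or.inl h0))
  have hA01 : A 0 1 ≠ 0 := fun h0 =>
    hA' (mem_monomial_of_zero hF hN hH hA (Or.inr (Or.inl h0)))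
  have hA10 : A 1 0 ≠ 0 := fun h0 =>
    hA' (mem_monomial_of_zero hF hN hH hA (Or.inr (Or.inr (Or.inl h0))))
  have hA11 : A 1 1 ≠ 0 := fun h0 =>
    hA' (mem_monomial_of_zero hF hN hH hA (Or.inr (Or.inr (Or.inr h0))))
  have hcases := poly_cases hN hH hA hA'
  set P1 : F[X] := C (A 0 0) * X ^ 2 + C (A 1 1) with hP1
  set P2 : F[X] := C ((A 0 0) ^ 2) * X ^ 2 + C (A 0 1 * A 1 0) with hP2
  set P3 : F[X] := (C ((A 0 0) ^ 2) * X ^ 2 + C (A 0 1 * A 1 0)) *
    (C (A 0 1 * A 1 0) * X ^ 2 + C ((A 1 1) ^ 2)) - C (A 0 0 * A 1 1) * X ^ 2 with hP3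
  set P4 : F[X] := (C ((A 0 0) ^ 2) * X ^ 2 + C (A 0 1 * A 1 0)) *
    (C (A 0 1 * A 1 0) * X ^ 2 + C ((A 1 1) ^ 2)) - C (1 - A 0 0 * A 1 1) * X ^ 2 with hP4
  have hd1 : P1.natDegree ≤ 2 := by rw [hP1]; compute_degree
  have hd2 : P2.natDegree ≤ 2 := by rw [hP2]; compute_degree
  have hd3 : P3.natDegree ≤ 4 := by rw [hP3]; compute_degree
  have hd4 : P4.natDegree ≤ 4 := by rw [hP4]; compute_degree
  have hn1 : P1 ≠ 0 := by
    intro h
    have := congrArg (fun p => Polynomial.eval 0 p) h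
    rw [hP1] at this
    simp [hA11] at this
  have hn2 : P2 ≠ 0 := by
    intro h
    have := congrArg (fun p => Polynomial.eval 0 p) h
    rw [hP2] at this
    simp [hA01, hA10] at this
  have hn3 : P3 ≠ 0 := by
    intro h
    have := congrArg (fun p => Polynomial.eval 0 p) h
    rw [hP3] at this
    simp [hA01, hA10, hA11] at this
  have hn4 : P4 ≠ 0 := by
    intro h
    have := congrArg (fun p => Polynomial.eval 0 p) h
    rw [hP4] at this
    simp [hA01, hA10, hA11] at this
  have hcard : (Finset.univ.erase (0 : F)).card = Fintype.card F - 1 := by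
    rw [Finset.card_erase_of_mem (Finset.mem_univ _), Finset.card_univ]
  constructor
  · by_contra hlt
    have hP : P1 * P2 * P3 * P4 = 0 := by
      refine eq_zero_of_natDegree_lt_card_of_eval_eq_zero' _ (Finset.univ.erase (0 : F)) ?_ ?_
      · intro t ht
        have ht0 : t ≠ 0 := Finset.ne_of_mem_erase ht
        rw [eval_mul, eval_mul, eval_mul, hP1, hP2, hP3, hP4]
        simp only [eval_add, eval_sub, eval_mul, eval_C, eval_pow, eval_X]
        rcases hcases t ht0 with h | h | h | h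
        · rw [h]; ring
        · rw [h]; ring
        · rw [h]; ring
        · rw [h]; ring
      · have hle : (P1 * P2 * P3 * P4).natDegree ≤ 12 := by
          refine natDegree_mul_le.trans ?_
          have h1 := (natDegree_mul_le (p := P1 * P2) (q := P3))
          have h2 := (natDegree_mul_le (p := P1) (q := P2))
          omega
        rw [hcard]
        omega
    rcases mul_eq_zero.mp hP with h | h
    · rcases mul_eq_zero.mp h with h | h
      · rcases mul_eq_zero.mp h with h | h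
        · exact hn1 h
        · exact hn2 h
      · exact hn3 h
    · exact hn4 h
  · intro h2
    have h34 : 1 - A 0 0 * A 1 1 = A 0 0 * A 1 1 := by linear_combination (-1 : F) * h2
    rw [h34] at hcases
    by_contra hlt
    have hP : P1 * P2 * P3 = 0 := by
      refine eq_zero_of_natDegree_lt_card_of_eval_eq_zero' _ (Finset.univ.erase (0 : F)) ?_ ?_
      · intro t ht
        have ht0 : t ≠ 0 := Finset.ne_of_mem_erase ht
        rw [eval_mul, eval_mul, hP1, hP2, hP3]
        simp only [eval_add, eval_sub, eval_mul, eval_C, eval_pow, eval_X]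
        rcases hcases t ht0 with h | h | h | h
        · rw [h]; ring
        · rw [h]; ring
        · rw [h]; ring
        · rw [h]; ring
      · have hle : (P1 * P2 * P3).natDegree ≤ 8 := by
          refine natDegree_mul_le.trans ?_
          have h2 := (natDegree_mul_le (p := P1) (q := P2))
          omega
        rw [hcard]
        omega
    rcases mul_eq_zero.mp hP with h | h
    · rcases mul_eq_zero.mp h with h | h
      · exact hn1 h
      · exact hn2 h
    · exact hn3 h

/-- The monomial subgroup of `SL₂(q)` is maximal for `q ∉ {3, 5, 7, 9, 11}`. -/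
theorem eq_top_of_monomial_lt (hq : Fintype.card F ∉ ({3, 5, 7, 9, 11} : Finset ℕ))
    (hN : monomial F < H) : H = ⊤ := by
  by_contra hH
  obtain ⟨A, hA, hA'⟩ := SetLike.exists_of_lt hN
  obtain ⟨h13, h9⟩ := card_le hN.le hH hA hA'
  have h1 : 1 < Fintype.card F := Fintype.one_lt_card
  by_cases hsq : IsSquare (-1 : F)
  · have h2 := two_mul_eq_one hN.le hH hA hA' hsq
    have h3 := h9 h2
    have hchar : ringChar F ≠ 2 := by
      intro h
      have h4 : (2 : F) = 0 := by
        have := (ringChar.spec F 2).mpr (by rw [h])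
        exact_mod_cast this
      rw [h4, zero_mul] at h2
      exact zero_ne_one h2
    have h5 := FiniteField.odd_card_of_char_ne_two hchar
    generalize Fintype.card F = q at *
    interval_cases q <;> simp_all
  · rw [FiniteField.isSquare_neg_one_iff, not_not] at hsq
    generalize Fintype.card F = q at *
    interval_cases q <;> simp_all

end max2

end Cfsg.Agent.ClassicalGeometry.SplitTorus
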