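import Mathlib
import Cfsg.Agent.ClassicalGeometry.PSUAutBasic
import Cfsg.Agent.ClassicalGeometry.UnitTransv
set_option linter.all false

/-!
# Torus elements of `SU n F q`

* `exists_torus_unit`: the torus element attached to a frame `e, f` and a unit vector `z ⟂ e, f`.
* `exists_torus_hyp`: the torus element attached to a frame `e, f` and a hyperbolic pair
  `x, y ⟂ e, f`.
-/

set_option autoImplicit false
set_option linter.unusedSimpArgs false

namespace Cfsg.Agent.ClassicalGeometry.PSUAutTorus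

open Cfsg Cfsg.Agent.LieClassical.HermBasic Cfsg.Agent.LieClassical.HermSiegel
  Cfsg.Agent.LieClassical.HermGen Cfsg.Agent.ClassicalGeometry.PSUAutBasic Matrix

open Cfsg.Agent.ClassicalGeometry.UnitTransv (rankOne rankOne_mulVec det_rankOne)

section Hyp

variable {F : Type*} [Field F] {q n : ℕ}

/-- The matrix of `v ↦ v + (b - 1) h(v,f) e + (b⁻ᵠ - 1) h(v,e) f`, for `h(f,f) = 0`. -/
def hypMat (q : ℕ) (e f : Fin n → F) (b : F) : Matrix (Fin n) (Fin n) F :=
  rankOne q ((b - 1) • e) f * rankOne q (((b ^ q)⁻¹ - 1) • f) e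

theorem hypMat_mulVec {e f : Fin n → F} (hff : hermForm n F q f f = 0) (b : F) (v : Fin n → F) :
    hypMat q e f b *ᵥ v = v + (((b ^ q)⁻¹ - 1) * hermForm n F q v e) • f +
      ((b - 1) * hermForm n F q v f) • e := by
  rw [hypMat, ← Matrix.mulVec_mulVec, rankOne_mulVec, rankOne_mulVec, herm_add_left,
    herm_smul_left, herm_smul_left, hff, mul_zero, mul_zero, add_zero, smul_smul, smul_smul,
    mul_comm (hermForm n F q v f), mul_comm (hermForm n F q v e)]

theorem det_hypMat {e f : Fin n → F} (hef : hermForm n F q e f = 1)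
    (hfe : hermForm n F q f e = 1) (b : F) : (hypMat q e f b).det = b * (b ^ q)⁻¹ := by
  rw [hypMat, Matrix.det_mul, det_rankOne, det_rankOne, herm_smul_left, herm_smul_left, hef, hfe]
  ring

variable [Fintype F]

theorem hypMat_herm (hF : Fintype.card F = q ^ 2) {e f : Fin n → F}
    (hee : hermForm n F q e e = 0) (hff : hermForm n F q f f = 0)
    (hef : hermForm n F q e f = 1) {b : F} (hb : b ≠ 0) (v w : Fin n → F) :
    hermForm n F q (hypMat q e f b *ᵥ v) (hypMat q e f b *ᵥ w) = hermForm n F q v w := by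
  have hfe : hermForm n F q f e = 1 := by rw [herm_swap hF e f, hef, one_pow]
  have hbq : b ^ q ≠ 0 := pow_ne_zero _ hb
  rw [hypMat_mulVec hff, hypMat_mulVec hff]
  simp only [herm_add_left, herm_add_right hF, herm_smul_left, herm_smul_right, hee, hff, hef,
    hfe, mul_pow, sub_pow_q hF, inv_pow, pow_q_pow_q hF, one_pow, ← herm_swap hF w e,
    ← herm_swap hF w f]
  field_simp
  ring

end Hyp

section Unit

variable {F : Type*} [Field F] {q n : ℕ}

/-- The form of two images under `v ↦ v + c h(v,z) z`. -/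
theorem rankOne_herm [Fintype F] (hF : Fintype.card F = q ^ 2) {z : Fin n → F}
    (hzz : hermForm n F q z z = 1) {c : F} (hc : c + c ^ q + c * c ^ q = 0) (v w : Fin n → F) :
    hermForm n F q (rankOne q (c • z) z *ᵥ v) (rankOne q (c • z) z *ᵥ w) =
      hermForm n F q v w := by
  rw [rankOne_mulVec, rankOne_mulVec]
  simp only [herm_add_left, herm_add_right hF, herm_smul_left, herm_smul_right, hzz,
    mul_pow, ← herm_swap hF w z]
  linear_combination (hermForm n F q v z * hermForm n F q z w) * hc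

end Unit

variable {F : Type*} [Field F] [Fintype F] {q n : ℕ}

/-- The torus element at a unit vector. -/
theorem exists_torus_unit (hF : Fintype.card F = q ^ 2) {e f : Fin n → F} (H : IsFrame q e f)
    {z : Fin n → F} (hz : z ∈ coordSub F n (n - 2)) (hzz : hermForm n F q z z = 1) {a : F}
    (ha : a ≠ 0) : ∃ l : SU n F q, act l e = a • e ∧ act l f = (a ^ q)⁻¹ • f ∧
      act l z = (a ^ q * a⁻¹) • z ∧
      ∀ w ∈ coordSub F n (n - 2), hermForm n F q w z = 0 → act l w = w := by
  obtain ⟨hee, hff, hef, hmem⟩ := H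
  have hfe : hermForm n F q f e = 1 := by rw [herm_swap hF e f, hef, one_pow]
  obtain ⟨hze, hzf⟩ := (hmem z).1 hz
  have hez : hermForm n F q e z = 0 := herm_eq_zero_swap hF hze
  have hfz : hermForm n F q f z = 0 := herm_eq_zero_swap hF hzf
  have haq : a ^ q ≠ 0 := pow_ne_zero _ ha
  set c : F := a ^ q * a⁻¹ - 1 with hc
  have hc2 : c + c ^ q + c * c ^ q = 0 := by
    rw [hc, sub_pow_q hF, mul_pow, pow_q_pow_q hF, inv_pow, one_pow]
    field_simp
    ring
  set M : Matrix (Fin n) (Fin n) F := rankOne q (c • z) z * hypMat q e f a with hM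
  have hdet : M.det = 1 := by
    rw [hM, Matrix.det_mul, det_rankOne, det_hypMat hef hfe, herm_smul_left, hzz, hc]
    field_simp
    ring
  have hiso : ∀ u v : Fin n → F,
      hermForm n F q (M *ᵥ u) (M *ᵥ v) = hermForm n F q u v := by
    intro u v
    rw [hM, ← Matrix.mulVec_mulVec, ← Matrix.mulVec_mulVec, rankOne_herm hF hzz hc2,
      hypMat_herm hF hee hff hef ha]
  have hact : ∀ v, act (mkSU M hdet hiso) v = M *ᵥ v := fun v => by
    rw [act_def, mat_mkSU]
  refine ⟨mkSU M hdet hiso, ?_, ?_, ?_, ?_⟩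
  · rw [hact, hM, ← Matrix.mulVec_mulVec, hypMat_mulVec hff, hee, hef, rankOne_mulVec,
      herm_add_left, herm_add_left, herm_smul_left, herm_smul_left, hez, hfz]
    simp only [mul_zero, add_zero, zero_smul, mul_one]
    rw [sub_smul, one_smul]; abel
  · rw [hact, hM, ← Matrix.mulVec_mulVec, hypMat_mulVec hff, hff, hfe, rankOne_mulVec,
      herm_add_left, herm_add_left, herm_smul_left, herm_smul_left, hez, hfz]
    simp only [mul_zero, add_zero, zero_smul, mul_one]
    rw [sub_smul, one_smul]; abel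
  · rw [hact, hM, ← Matrix.mulVec_mulVec, hypMat_mulVec hff, hze, hzf, rankOne_mulVec,
      herm_add_left, herm_add_left, herm_smul_left, herm_smul_left, hez, hfz, hzz, hc]
    simp only [mul_zero, add_zero, zero_smul, one_smul, sub_smul]
    abel
  · intro w hw hwz
    obtain ⟨hwe, hwf⟩ := (hmem w).1 hw
    rw [hact, hM, ← Matrix.mulVec_mulVec, hypMat_mulVec hff, hwe, hwf, rankOne_mulVec,
      herm_add_left, herm_add_left, herm_smul_left, herm_smul_left, hez, hfz, hwz]
    simp only [mul_zero, add_zero, zero_smul]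

/-- The torus element at a hyperbolic pair. -/
theorem exists_torus_hyp (hF : Fintype.card F = q ^ 2) {e f : Fin n → F} (H : IsFrame q e f)
    {x y : Fin n → F} (hx : x ∈ coordSub F n (n - 2)) (hy : y ∈ coordSub F n (n - 2))
    (hxx : hermForm n F q x x = 0) (hyy : hermForm n F q y y = 0)
    (hxy : hermForm n F q x y = 1) {a : F} (ha : a ≠ 0) :
    ∃ l : SU n F q, act l e = a⁻¹ • e ∧ act l f = a ^ q • f ∧ act l x = a • x ∧
      act l y = (a ^ q)⁻¹ • y := by
  obtain ⟨hee, hff, hef, hmem⟩ := H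
  have hfe : hermForm n F q f e = 1 := by rw [herm_swap hF e f, hef, one_pow]
  have hyx : hermForm n F q y x = 1 := by rw [herm_swap hF x y, hxy, one_pow]
  obtain ⟨hxe, hxf⟩ := (hmem x).1 hx
  obtain ⟨hye, hyf⟩ := (hmem y).1 hy
  have hex : hermForm n F q e x = 0 := herm_eq_zero_swap hF hxe
  have hfx : hermForm n F q f x = 0 := herm_eq_zero_swap hF hxf
  have hey : hermForm n F q e y = 0 := herm_eq_zero_swap hF hye
  have hfy : hermForm n F q f y = 0 := herm_eq_zero_swap hF hyf
  have haq : a ^ q ≠ 0 := pow_ne_zero _ ha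
  have hai : a⁻¹ ≠ 0 := inv_ne_zero ha
  set M : Matrix (Fin n) (Fin n) F := hypMat q x y a * hypMat q e f a⁻¹ with hM
  have hdet : M.det = 1 := by
    rw [hM, Matrix.det_mul, det_hypMat hxy hyx, det_hypMat hef hfe, inv_pow]
    field_simp
  have hiso : ∀ u v : Fin n → F,
      hermForm n F q (M *ᵥ u) (M *ᵥ v) = hermForm n F q u v := by
    intro u v
    rw [hM, ← Matrix.mulVec_mulVec, ← Matrix.mulVec_mulVec, hypMat_herm hF hxx hyy hxy ha,
      hypMat_herm hF hee hff hef hai]
  have hact : ∀ v, act (mkSU M hdet hiso) v = M *ᵥ v := fun v => by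
    rw [act_def, mat_mkSU]
  refine ⟨mkSU M hdet hiso, ?_, ?_, ?_, ?_⟩
  · rw [hact, hM, ← Matrix.mulVec_mulVec, hypMat_mulVec hff, hee, hef, hypMat_mulVec hyy]
    simp only [herm_add_left, herm_smul_left, hex, hfx, hey, hfy, mul_zero, add_zero, zero_smul,
      mul_one]
    rw [sub_smul, one_smul]; abel
  · rw [hact, hM, ← Matrix.mulVec_mulVec, hypMat_mulVec hff, hff, hfe, hypMat_mulVec hyy]
    simp only [herm_add_left, herm_smul_left, hex, hfx, hey, hfy, mul_zero, add_zero, zero_smul,
      mul_one, inv_pow, inv_inv]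
    rw [sub_smul, one_smul]; abel
  · rw [hact, hM, ← Matrix.mulVec_mulVec, hypMat_mulVec hff, hxe, hxf, hypMat_mulVec hyy]
    simp only [herm_add_left, herm_smul_left, hex, hfx, hey, hfy, hxx, hxy, mul_zero, add_zero,
      zero_smul, mul_one]
    rw [sub_smul, one_smul]; abel
  · rw [hact, hM, ← Matrix.mulVec_mulVec, hypMat_mulVec hff, hye, hyf, hypMat_mulVec hyy]
    simp only [herm_add_left, herm_smul_left, hex, hfx, hey, hfy, hyy, hyx, mul_zero, add_zero,
      zero_smul, mul_one]
    rw [sub_smul, one_smul]; abel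

end Cfsg.Agent.ClassicalGeometry.PSUAutTorus
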