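import Mathlib
import Cfsg.Agent.ClassicalGeometry.PSUAutSylow
set_option linter.all false

/-!
# Automorphisms of `PSU n F q`: the unipotent radical of a point stabiliser

`QQ e`, the image in `PSU` of the Siegel group of `e`, contains every `p`-subgroup of the stabiliser of
the point `e` which is normalised by that stabiliser. So an automorphism fixing `RR e` fixes `QQ e`.
-/

set_option autoImplicit false

namespace Cfsg.Agent.ClassicalGeometry.PSUAutUnip

open Cfsg Cfsg.Agent.LieClassical.HermBasic Cfsg.Agent.LieClassical.HermSiegel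
  Cfsg.Agent.LieClassical.HermGen Cfsg.Agent.LieClassical.SUBasic Matrix
  Cfsg.Agent.ClassicalGeometry.PSUAutBasic Cfsg.Agent.ClassicalGeometry.PSUAutSylow

variable {F : Type*} [Field F] [Fintype F] {q n : ℕ}

/-! ### The coordinate subspace -/

/-- For `n ≥ 4`, a submodule containing the isotropic vectors of the coordinate subspace contains
the whole coordinate subspace. -/
theorem coordSub_le_of_iso (hF : Fintype.card F = q ^ 2) (hn : 4 ≤ n)
    (W : Submodule F (Fin n → F))
    (hW : ∀ x ∈ coordSub F n (n - 2), x ≠ 0 → hermForm n F q x x = 0 → x ∈ W) :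
    coordSub F n (n - 2) ≤ W := by
  have hbasis : ∀ i : Fin n, i.val < n - 2 → (Pi.single i 1 : Fin n → F) ∈ W := by
    intro i hi
    obtain ⟨j, hj, hij⟩ : ∃ j : Fin n, j.val < n - 2 ∧ i ≠ j := by
      by_cases h0 : i.val = 0
      · exact ⟨⟨1, by omega⟩, by simp; omega, by intro h; rw [h] at h0; simp at h0⟩
      · exact ⟨⟨0, by omega⟩, by simp; omega, by intro h; rw [h] at h0; simp at h0⟩
    obtain ⟨p, p', a, b, ha, hp, hp', hpp, hp'p', hpp'⟩ := exists_hyp_pair (q := q) hF hij
    have ei : (Pi.single i 1 : Fin n → F) ∈ coordSub F n (n - 2) := single_mem_coordSub hi 1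
    have ej : (Pi.single j 1 : Fin n → F) ∈ coordSub F n (n - 2) := single_mem_coordSub hj 1
    have hpV : p ∈ coordSub F n (n - 2) := by
      rw [hp]; exact Submodule.add_mem _ ei (Submodule.smul_mem _ _ ej)
    have hp'V : p' ∈ coordSub F n (n - 2) := by
      rw [hp']; exact Submodule.add_mem _ ei (Submodule.smul_mem _ _ hpV)
    have hp0 : p ≠ 0 := by
      intro h; rw [h, herm_zero_left] at hpp'; exact zero_ne_one hpp'
    have hp'0 : p' ≠ 0 := by
      intro h; rw [h, herm_zero_right hF] at hpp'; exact zero_ne_one hpp'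
    have h1 : (Pi.single i 1 : Fin n → F) = p' - b • p := by rw [hp', add_sub_cancel_right]
    rw [h1]
    exact Submodule.sub_mem _ (hW p' hp'V hp'0 hp'p') (Submodule.smul_mem _ _ (hW p hpV hp0 hpp))
  intro v hv
  rw [pi_eq_sum_univ' v]
  refine Submodule.sum_mem _ fun i _ => ?_
  by_cases hi : i.val < n - 2
  · exact Submodule.smul_mem _ _ (hbasis i hi)
  · rw [hv i (by omega), zero_smul]
    exact Submodule.zero_mem _

/-- For `n ≥ 4`, every nonzero vector of the coordinate subspace has an isotropic vector not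
orthogonal to it. -/
theorem exists_iso_not_perp (hF : Fintype.card F = q ^ 2) (hn : 4 ≤ n) {w : Fin n → F}
    (hw : w ∈ coordSub F n (n - 2)) (hw0 : w ≠ 0) :
    ∃ x ∈ coordSub F n (n - 2), x ≠ 0 ∧ hermForm n F q x x = 0 ∧ hermForm n F q w x ≠ 0 := by
  by_contra hcon
  push Not at hcon
  let W : Submodule F (Fin n → F) :=
    { carrier := {v | hermForm n F q v w = 0}
      zero_mem' := herm_zero_left _
      add_mem' := fun {a b} (ha : hermForm n F q a w = 0) (hb : hermForm n F q b w = 0) =>
        show hermForm n F q (a + b) w = 0 by rw [herm_add_left, ha, hb, add_zero]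
      smul_mem' := fun c a (ha : hermForm n F q a w = 0) =>
        show hermForm n F q (c • a) w = 0 by rw [herm_smul_left, ha, mul_zero] }
  have h1 := coordSub_le_of_iso hF hn W (fun x hx hx0 hxx =>
    herm_eq_zero_swap hF (hcon x hx hx0 hxx))
  apply hw0
  funext i
  by_cases hi : i.val < n - 2
  · have h2 : hermForm n F q (Pi.single i 1) w = 0 := h1 (single_mem_coordSub hi 1)
    rw [herm_single_left, one_mul] at h2
    exact (pow_q_eq_zero hF).1 h2
  · exact hw i (by omega)

/-- A submodule of the coordinate subspace which is invariant under all transvections of the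
coordinate subspace and nonzero is the whole coordinate subspace. -/
theorem coordSub_le_of_invariant (hF : Fintype.card F = q ^ 2) (hn : 3 ≤ n)
    (W : Submodule F (Fin n → F))
    (hW : ∀ x ∈ coordSub F n (n - 2), hermForm n F q x x = 0 → ∀ w ∈ W,
      hermForm n F q w x ≠ 0 → x ∈ W)
    {w : Fin n → F} (hw : w ∈ W) (hwV : w ∈ coordSub F n (n - 2)) (hw0 : w ≠ 0) :
    coordSub F n (n - 2) ≤ W := by
  rcases Nat.lt_or_ge n 4 with h4 | h4
  · -- dimension three
    have hn3 : n = 3 := by omega
    subst hn3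
    have hw00 : w 0 ≠ 0 := by
      intro h
      apply hw0
      funext i
      by_cases hi : i = 0
      · rw [hi]; exact h
      · exact hwV i (by
          have : i.val ≠ 0 := fun h => hi (Fin.ext h)
          omega)
    intro v hv
    have h1 : v = (v 0 * (w 0)⁻¹) • w := by
      funext i
      by_cases hi : i = 0
      · rw [hi, Pi.smul_apply, smul_eq_mul, mul_assoc, inv_mul_cancel₀ hw00, mul_one]
      · have h2 : 3 - 2 ≤ i.val := by
          have : i.val ≠ 0 := fun h => hi (Fin.ext h)
          omega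
        rw [Pi.smul_apply, hv i h2, hwV i h2, smul_zero]
    rw [h1]
    exact Submodule.smul_mem _ _ hw
  · apply coordSub_le_of_iso hF h4
    intro x hx hx0 hxx
    obtain ⟨y, hy, hy0, hyy, hwy⟩ := exists_iso_not_perp hF h4 hwV hw0
    have hyW : y ∈ W := hW y hy hyy w hw hwy
    by_cases hyx : hermForm n F q y x = 0
    · obtain ⟨z, hz, hzz, hyz, hxz⟩ := exists_iso_common hF hy hx hy0 hx0 hyy hyx
      have hzW : z ∈ W := hW z hz hzz y hyW hyz
      exact hW x hx hxx z hzW (fun h => hxz (herm_eq_zero_swap hF h))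
    · exact hW x hx hxx y hyW hyx

/-! ### The unipotent radical -/

/-- The image in `PSU` of the Siegel group of `u`. -/
def QQ (hF : Fintype.card F = q ^ 2) (u : Fin n → F) (hu : hermForm n F q u u = 0) :
    Subgroup (PSU n F q) :=
  (siegG hF u hu).map (pr n F q)

theorem mem_QQ {hF : Fintype.card F = q ^ 2} {u : Fin n → F} {hu : hermForm n F q u u = 0}
    {x : PSU n F q} : x ∈ QQ hF u hu ↔
      ∃ (w : Fin n → F) (μ : F) (h : IsSiegel q u w μ), x = pr n F q (siegel hF u w μ h) := by
  constructor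
  · rintro ⟨_, ⟨w, μ, h, rfl⟩, rfl⟩
    exact ⟨w, μ, h, rfl⟩
  · rintro ⟨w, μ, h, rfl⟩
    exact ⟨_, ⟨w, μ, h, rfl⟩, rfl⟩

/-- `x` normalises `RR u`. -/
def NormRR (hF : Fintype.card F = q ^ 2) (u : Fin n → F) (hu : hermForm n F q u u = 0)
    (x : PSU n F q) : Prop :=
  ∀ y, y ∈ RR hF u hu ↔ x⁻¹ * y * x ∈ RR hF u hu

theorem normRR_iff (hF : Fintype.card F = q ^ 2) (hn : 3 ≤ n) {u : Fin n → F} (hu0 : u ≠ 0)
    (hu : hermForm n F q u u = 0) (g : SU n F q) :
    NormRR hF u hu (pr n F q g) ↔ ∃ c : F, c ≠ 0 ∧ act g u = c • u := by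
  have hgu : hermForm n F q (act g u) (act g u) = 0 := by rw [herm_act]; exact hu
  have hgu0 : act g u ≠ 0 := fun h => hu0 ((act_eq_zero g).1 h)
  rw [← RR_eq_iff hF hn hu0 hgu0 hu hgu]
  constructor
  · intro H
    ext y
    rw [RR_conj hF hu g hgu, H y]
  · intro H y
    rw [← RR_conj hF hu g hgu, ← H]

/-- The group of `p`-elements lying over a `p`-subgroup of the stabiliser of a point. -/
def liftG (hF : Fintype.card F = q ^ 2) (hn : 3 ≤ n) (p : ℕ) [Fact p.Prime] [CharP F p]
    {e : Fin n → F} (he0 : e ≠ 0) (N : Subgroup (PSU n F q)) (hN : IsPGroup p N)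
    (hfix : ∀ g : SU n F q, pr n F q g ∈ N → ∃ c : F, c ≠ 0 ∧ act g e = c • e) :
    Subgroup (SU n F q) where
  carrier := {g | pr n F q g ∈ N ∧ ∃ l : ℕ, g ^ p ^ l = 1}
  one_mem' := ⟨by rw [map_one]; exact N.one_mem, 0, one_pow _⟩
  inv_mem' := by
    rintro g ⟨hg, l, hl⟩
    exact ⟨by rw [map_inv]; exact N.inv_mem hg, l, by rw [inv_pow, hl, inv_one]⟩
  mul_mem' := by
    -- `p`-elements fix `e`
    have hfix' : ∀ g : SU n F q, pr n F q g ∈ N → ∀ l : ℕ, g ^ p ^ l = 1 → act g e = e := by
      intro g hg l hl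
      obtain ⟨c, hc0, hc⟩ := hfix g hg
      have hpow : ∀ m : ℕ, act (g ^ m) e = c ^ m • e := by
        intro m
        induction m with
        | zero => rw [pow_zero, act_one, pow_zero, one_smul]
        | succ m ih => rw [pow_succ, act_mul, hc, act_smul, ih, smul_smul, pow_succ, mul_comm]
      have h1 := hpow (p ^ l)
      rw [hl, act_one] at h1
      have h2 : (c ^ p ^ l - 1) • e = 0 := by rw [sub_smul, one_smul, ← h1, sub_self]
      have h3 : c ^ p ^ l = 1 := by
        rcases smul_eq_zero.1 h2 with h | h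
        · exact sub_eq_zero.1 h
        · exact absurd h he0
      have h4 : (c - 1) ^ p ^ l = 0 := by rw [sub_pow_char_pow, h3, one_pow, sub_self]
      have h5 : c = 1 := sub_eq_zero.1 (eq_zero_of_pow_eq_zero h4)
      rw [hc, h5, one_smul]
    rintro a b ⟨ha, k, hk⟩ ⟨hb, l, hl⟩
    have hab : pr n F q (a * b) ∈ N := by rw [map_mul]; exact N.mul_mem ha hb
    refine ⟨hab, ?_⟩
    obtain ⟨j, hj⟩ := hN ⟨_, hab⟩
    obtain ⟨c, hc, m, hm⟩ := exists_lift hF hn (p := p) (k := j) (congrArg Subtype.val hj)
    obtain ⟨z, hz, hz2⟩ := exists_center_mul hc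
    obtain ⟨t, ht0, -, ht⟩ := exists_scalar_of_mem_center hF hn hz
    have h1 : act (a * b) e = e := by
      rw [act_mul, hfix' b hb l hl, hfix' a ha k hk]
    have h2 : act c e = e := hfix' c (by rw [hc]; exact hab) m hm
    rw [hz2, act_mul, ht, act_smul, h2] at h1
    have h3 : (t - 1) • e = 0 := by rw [sub_smul, one_smul, h1, sub_self]
    have h4 : t = 1 := by
      rcases smul_eq_zero.1 h3 with h | h
      · exact sub_eq_zero.1 h
      · exact absurd h he0
    have h5 : z = 1 := by
      apply ext_act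
      intro v
      rw [ht, h4, one_smul, act_one]
    rw [hz2, h5, mul_one]
    exact ⟨m, hm⟩

omit [Fintype F] in
/-- A `p`-element lying over the stabiliser of the point `e` fixes `e`. -/
theorem fix_of_pow (p : ℕ) [Fact p.Prime] [CharP F p] {e : Fin n → F} (he0 : e ≠ 0)
    {g : SU n F q} {c : F} (hc : act g e = c • e) {l : ℕ} (hl : g ^ p ^ l = 1) :
    act g e = e := by
  have hpow : ∀ m : ℕ, act (g ^ m) e = c ^ m • e := by
    intro m
    induction m with
    | zero => rw [pow_zero, act_one, pow_zero, one_smul]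
    | succ m ih => rw [pow_succ, act_mul, hc, act_smul, ih, smul_smul, pow_succ, mul_comm]
  have h1 := hpow (p ^ l)
  rw [hl, act_one] at h1
  have h2 : (c ^ p ^ l - 1) • e = 0 := by rw [sub_smul, one_smul, ← h1, sub_self]
  have h3 : c ^ p ^ l = 1 := by
    rcases smul_eq_zero.1 h2 with h | h
    · exact sub_eq_zero.1 h
    · exact absurd h he0
  have h4 : (c - 1) ^ p ^ l = 0 := by rw [sub_pow_char_pow, h3, one_pow, sub_self]
  have h5 : c = 1 := sub_eq_zero.1 (eq_zero_of_pow_eq_zero h4)
  rw [hc, h5, one_smul]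

/-- The unipotent radical contains all normal `p`-subgroups of the stabiliser of a point. -/
theorem le_QQ (hF : Fintype.card F = q ^ 2) (hn : 3 ≤ n) (p : ℕ) [Fact p.Prime] [CharP F p]
    {e f : Fin n → F} (H : IsFrame q e f) (N : Subgroup (PSU n F q)) (hN : IsPGroup p N)
    (hfix : ∀ g : SU n F q, pr n F q g ∈ N → ∃ c : F, c ≠ 0 ∧ act g e = c • e)
    (hnorm : ∀ g : SU n F q, act g e = e → ∀ x ∈ N,
      pr n F q g * x * (pr n F q g)⁻¹ ∈ N) :
    N ≤ QQ hF e H.ee := by
  have he0 : e ≠ 0 := by
    intro h; have := H.ef; rw [h, herm_zero_left] at this; exact zero_ne_one this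
  have hfe : hermForm n F q f e = 1 := by rw [herm_swap hF e f, H.ef, one_pow]
  set P := liftG hF hn p he0 N hN hfix with hP
  have hPmem : ∀ g : SU n F q, g ∈ P ↔ (pr n F q g ∈ N ∧ ∃ l : ℕ, g ^ p ^ l = 1) :=
    fun g => Iff.rfl
  have hPe : ∀ g ∈ P, act g e = e := by
    intro g hg
    obtain ⟨h1, l, hl⟩ := (hPmem g).1 hg
    obtain ⟨c, -, hc⟩ := hfix g h1
    exact fix_of_pow p he0 hc hl
  have hPp : IsPGroup p P := by
    rintro ⟨g, hg⟩
    obtain ⟨-, l, hl⟩ := (hPmem g).1 hg
    exact ⟨l, Subtype.ext hl⟩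
  -- the projected action on the coordinate subspace
  have hproj : ∀ g ∈ P, ∀ w ∈ coordSub F n (n - 2),
      act g w - hermForm n F q (act g w) f • e ∈ coordSub F n (n - 2) := by
    intro g hg w hw
    rw [H.mem] at hw ⊢
    constructor
    · rw [herm_sub_left, herm_smul_left, H.ee, mul_zero, sub_zero]
      conv_lhs => rw [← hPe g hg]
      rw [herm_act, hw.1]
    · rw [herm_sub_left, herm_smul_left, H.ef]; ring
  let _ : MulAction P (coordSub F n (n - 2)) :=
    { smul := fun g w => ⟨act (g : SU n F q) (w : Fin n → F) -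
        hermForm n F q (act (g : SU n F q) (w : Fin n → F)) f • e, hproj g.1 g.2 w.1 w.2⟩
      one_smul := fun w => Subtype.ext (by
        change act (1 : SU n F q) (w : Fin n → F) -
          hermForm n F q (act (1 : SU n F q) (w : Fin n → F)) f • e = w
        rw [act_one, ((H.mem _).1 w.2).2, zero_smul, sub_zero])
      mul_smul := fun g h w => Subtype.ext (by
        change act ((g : SU n F q) * (h : SU n F q)) (w : Fin n → F) -
            hermForm n F q (act ((g : SU n F q) * (h : SU n F q)) (w : Fin n → F)) f • e =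
          act (g : SU n F q) (act (h : SU n F q) (w : Fin n → F) -
              hermForm n F q (act (h : SU n F q) (w : Fin n → F)) f • e) -
            hermForm n F q (act (g : SU n F q) (act (h : SU n F q) (w : Fin n → F) -
              hermForm n F q (act (h : SU n F q) (w : Fin n → F)) f • e)) f • e
        rw [act_mul, act_sub, act_smul, hPe g.1 g.2, herm_sub_left, herm_smul_left, H.ef,
          mul_one, sub_smul]
        abel) }
  have hsmul : ∀ (g : P) (w : coordSub F n (n - 2)), ((g • w : coordSub F n (n - 2)) : Fin n → F) =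
      act (g : SU n F q) (w : Fin n → F) -
        hermForm n F q (act (g : SU n F q) (w : Fin n → F)) f • e := fun _ _ => rfl
  have hcard : p ∣ Nat.card (coordSub F n (n - 2)) := by
    have h1 : (⟨Pi.single ⟨0, by omega⟩ 1, single_mem_coordSub (by simp; omega) 1⟩ :
        coordSub F n (n - 2)) ≠ 0 := by
      intro h
      have h2 := congrArg Subtype.val h
      have h3 := congrFun h2 ⟨0, by omega⟩
      simp at h3
    have : Nontrivial (coordSub F n (n - 2)) := ⟨_, _, h1⟩
    rw [Module.natCard_eq_pow_finrank (K := F) (V := coordSub F n (n - 2)),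
      Nat.card_eq_fintype_card]
    obtain ⟨k, hk⟩ := exists_card_eq (F := F) p
    have hk0 : k ≠ 0 := by
      rintro rfl
      have := Fintype.one_lt_card (α := F)
      rw [hk, pow_zero] at this
      omega
    rw [hk, ← pow_mul]
    exact dvd_pow_self p (Nat.mul_ne_zero hk0 Module.finrank_pos.ne')
  have h0fix : (0 : coordSub F n (n - 2)) ∈ MulAction.fixedPoints P (coordSub F n (n - 2)) := by
    intro g
    apply Subtype.ext
    rw [hsmul]
    change act (g : SU n F q) 0 - hermForm n F q (act (g : SU n F q) 0) f • e = 0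
    rw [act_zero, herm_zero_left, zero_smul, sub_zero]
  obtain ⟨w0, hw0, hw00⟩ := hPp.exists_fixed_point_of_prime_dvd_card_of_fixed_point _ hcard h0fix
  -- the submodule
  let W : Submodule F (Fin n → F) :=
    { carrier := {w | ∀ g ∈ P, ∃ c : F, act g w = w + c • e}
      zero_mem' := fun g _ => ⟨0, by rw [act_zero, zero_smul, add_zero]⟩
      add_mem' := fun {a b} ha hb g hg => by
        obtain ⟨c, hc⟩ := ha g hg
        obtain ⟨d, hd⟩ := hb g hg
        exact ⟨c + d, by rw [act_add, hc, hd, add_smul]; abel⟩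
      smul_mem' := fun t a ha g hg => by
        obtain ⟨c, hc⟩ := ha g hg
        exact ⟨t * c, by rw [act_smul, hc, smul_add, smul_smul]⟩ }
  have hWV : coordSub F n (n - 2) ≤ W := by
    apply coordSub_le_of_invariant hF hn W ?_ (w := w0) ?_ w0.2
    · intro h
      exact hw00 (Subtype.ext h.symm)
    · intro x hx hxx w hw hwx
      obtain ⟨μ, hμ0, hμ⟩ := exists_trace_zero_ne hF
      have hxe := ((H.mem x).1 hx).1
      have hte : act (transv hF x hxx μ hμ) e = e := by
        rw [act_transv, herm_eq_zero_swap hF hxe, mul_zero, zero_smul, add_zero]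
      set t := transv hF x hxx μ hμ with ht
      -- `t w ∈ W`
      have htw : act t w ∈ W := by
        intro g hg
        have hg' : t⁻¹ * g * t ∈ P := by
          obtain ⟨h1, l, hl⟩ := (hPmem g).1 hg
          refine (hPmem _).2 ⟨?_, l, ?_⟩
          · have hte' : act t⁻¹ e = e := ((act_eq_iff t).1 hte).symm
            have h2 := hnorm t⁻¹ hte' _ h1
            rw [map_inv, inv_inv] at h2
            rw [map_mul, map_mul, map_inv]
            exact h2
          · have h2 : t⁻¹ * g * t = t⁻¹ * g * t⁻¹⁻¹ := by rw [inv_inv]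
            rw [h2, conj_pow, hl, mul_one, mul_inv_cancel]
        obtain ⟨c, hc⟩ := hw _ hg'
        refine ⟨c, ?_⟩
        have h3 : act g (act t w) = act t (act (t⁻¹ * g * t) w) := by
          rw [← act_mul, ← act_mul]
          congr 1
          group
        rw [h3, hc, act_add, act_smul, hte]
      have h4 : act t w - w ∈ W := Submodule.sub_mem _ htw hw
      rw [ht, act_transv, add_sub_cancel_left] at h4
      have h5 := Submodule.smul_mem W (μ * hermForm n F q w x)⁻¹ h4
      rwa [smul_smul, inv_mul_cancel₀ (mul_ne_zero hμ0 hwx), one_smul] at h5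
    · intro g hg
      have h1 := congrArg Subtype.val (hw0 ⟨g, hg⟩)
      rw [hsmul] at h1
      refine ⟨hermForm n F q (act g (w0 : Fin n → F)) f, ?_⟩
      rw [← sub_eq_iff_eq_add]
      exact h1
  intro x hx
  obtain ⟨j, hj⟩ := hN ⟨x, hx⟩
  obtain ⟨g, rfl, l, hl⟩ := exists_lift hF hn (p := p) (k := j) (congrArg Subtype.val hj)
  refine ⟨g, ?_, rfl⟩
  have hgP : g ∈ P := (hPmem g).2 ⟨hx, l, hl⟩
  apply mem_siegG_of_act hF H.ee H.ff H.ef (hPe g hgP)
  intro w hw
  have h1 : w - hermForm n F q w f • e ∈ coordSub F n (n - 2) := by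
    rw [H.mem]
    constructor
    · rw [herm_sub_left, herm_smul_left, H.ee, hw]; ring
    · rw [herm_sub_left, herm_smul_left, H.ef]; ring
  obtain ⟨c, hc⟩ := hWV h1 g hgP
  refine ⟨c, ?_⟩
  rw [act_sub, act_smul, hPe g hgP] at hc
  have h2 : act g w = (w - hermForm n F q w f • e + c • e) + hermForm n F q w f • e := by
    rw [← hc]; abel
  rw [h2]; abel

/-- An automorphism fixing `RR e` fixes `QQ e`. -/
theorem map_QQ_le (hF : Fintype.card F = q ^ 2) (hn : 3 ≤ n)
    {e f : Fin n → F} (H : IsFrame q e f) (α : MulAut (PSU n F q))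
    (hα : ∀ x, x ∈ RR hF e H.ee ↔ α x ∈ RR hF e H.ee) :
    ∀ x ∈ QQ hF e H.ee, α x ∈ QQ hF e H.ee := by
  obtain ⟨p, hp⟩ := CharP.exists F
  have : Fact p.Prime := ⟨CharP.char_is_prime F p⟩
  have he0 : e ≠ 0 := by
    intro h; have := H.ef; rw [h, herm_zero_left] at this; exact zero_ne_one this
  -- normalising
  have hnorm : ∀ x, NormRR hF e H.ee x ↔ NormRR hF e H.ee (α x) := by
    intro x
    constructor
    · intro h y
      obtain ⟨z, rfl⟩ := α.surjective y
      rw [← hα, h z, hα, map_mul, map_mul, map_inv]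
    · intro h y
      rw [hα, h, hα (x⁻¹ * y * x), map_mul, map_mul, map_inv]
  have hle : (QQ hF e H.ee).map (α : PSU n F q →* PSU n F q) ≤ QQ hF e H.ee := by
    apply le_QQ hF hn p H
    · exact ((isPGroup_siegG hF p H.ee).map _).map _
    · rintro g ⟨x, hx, hxg⟩
      rw [← normRR_iff hF hn he0 H.ee, ← hxg]
      have h1 : NormRR hF e H.ee x := by
        obtain ⟨w, μ, h, rfl⟩ := mem_QQ.1 hx
        rw [normRR_iff hF hn he0 H.ee]
        exact ⟨1, one_ne_zero, by rw [act_siegel_self, one_smul]⟩
      exact (hnorm x).1 h1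
    · rintro g hg _ ⟨x, hx, rfl⟩
      obtain ⟨y, hy⟩ := α.surjective (pr n F q g)
      obtain ⟨g', rfl⟩ := pr_surjective y
      have h1 : NormRR hF e H.ee (pr n F q g') := by
        rw [hnorm, hy, normRR_iff hF hn he0 H.ee]
        exact ⟨1, one_ne_zero, by rw [hg, one_smul]⟩
      obtain ⟨c, hc0, hc⟩ := (normRR_iff hF hn he0 H.ee g').1 h1
      refine ⟨pr n F q g' * x * (pr n F q g')⁻¹, ?_, ?_⟩
      · obtain ⟨w, μ, h, rfl⟩ := mem_QQ.1 hx
        have h2 : IsSiegel q (c • e) (act g' w) μ := by rw [← hc]; exact h.map g'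
        refine mem_QQ.2 ⟨c ^ q • act g' w, c * c ^ q * μ, ?_, ?_⟩
        · refine ⟨H.ee, ?_, ?_⟩
          · have h3 := h2.orth
            rw [herm_smul_right] at h3
            rcases mul_eq_zero.1 h3 with h4 | h4
            · exact absurd h4 (pow_ne_zero _ hc0)
            · rw [herm_smul_left, h4, mul_zero]
          · have h3 := h2.tr
            rw [herm_smul_left, herm_smul_right, mul_pow, norm_pow_q hF, pow_q_pow_q hF]
            linear_combination (c * c ^ q) * h3
        · rw [← map_inv, ← map_mul, ← map_mul, conj_siegel]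
          congr 1
          apply ext_act
          intro v
          rw [act_siegel, act_siegel, hc]
          simp only [herm_smul_right, smul_smul, pow_q_pow_q hF]
          funext i
          simp only [Pi.add_apply, Pi.smul_apply, smul_eq_mul]
          ring
      · change α (pr n F q g' * x * (pr n F q g')⁻¹) = pr n F q g * α x * (pr n F q g)⁻¹
        rw [map_mul, map_mul, map_inv, hy]
  intro x hx
  exact hle ⟨x, hx, rfl⟩

end Cfsg.Agent.ClassicalGeometry.PSUAutUnip
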