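import Mathlib
import Cfsg.Agent.ClassicalGeometry.PSUAutUnip
set_option linter.all false

-- part: ClassicalGeometry/PSUAutPhi
section
/-!
# Automorphisms of `PSU n F q`: the induced map on `e^⊥ / e`

For an automorphism `α` fixing `RR e` (and `RR f`), the induced additive bijection `φ` of the coordinate
subspace `V₁ = {e, f}^⊥`, and its equivariance under the stabiliser of the two points.
-/

set_option autoImplicit false

namespace Cfsg.Agent.ClassicalGeometry.PSUAutPhi

open Cfsg Cfsg.Agent.LieClassical.HermBasic Cfsg.Agent.LieClassical.HermSiegel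
  Cfsg.Agent.LieClassical.HermGen Cfsg.Agent.LieClassical.SUBasic Matrix
  Cfsg.Agent.ClassicalGeometry.PSUAutBasic Cfsg.Agent.ClassicalGeometry.PSUAutSylow
  Cfsg.Agent.ClassicalGeometry.PSUAutUnip

variable {F : Type*} [Field F] [Fintype F] {q n : ℕ}

/-! ### Normal form of Siegel transformations -/

omit [Fintype F] in
theorem frame_ne_zero {e f : Fin n → F} (H : IsFrame q e f) : e ≠ 0 := by
  intro h; have := H.ef; rw [h, herm_zero_left] at this; exact zero_ne_one this

theorem frame_ne_zero' (hF : Fintype.card F = q ^ 2) {e f : Fin n → F} (H : IsFrame q e f) :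
    f ≠ 0 := by
  intro h; have := H.ef; rw [h, herm_zero_right hF] at this; exact zero_ne_one this

theorem frame_fe (hF : Fintype.card F = q ^ 2) {e f : Fin n → F} (H : IsFrame q e f) :
    hermForm n F q f e = 1 := by
  rw [herm_swap hF e f, H.ef, one_pow]

theorem sub_mem_V (hF : Fintype.card F = q ^ 2) {e f : Fin n → F} (H : IsFrame q e f)
    (w : Fin n → F) :
    w - hermForm n F q w f • e - hermForm n F q w e • f ∈ coordSub F n (n - 2) := by
  rw [H.mem]
  constructor
  · rw [herm_sub_left, herm_sub_left, herm_smul_left, herm_smul_left, H.ee, frame_fe hF H]; ring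
  · rw [herm_sub_left, herm_sub_left, herm_smul_left, herm_smul_left, H.ff, H.ef]; ring

/-- Every Siegel transformation for `e` has its parameter in the coordinate subspace. -/
theorem exists_normal (hF : Fintype.card F = q ^ 2) {e f : Fin n → F} (H : IsFrame q e f)
    {w : Fin n → F} {μ : F} (h : IsSiegel q e w μ) :
    ∃ w' ∈ coordSub F n (n - 2), ∃ (μ' : F) (h' : IsSiegel q e w' μ'),
      siegel hF e w μ h = siegel hF e w' μ' h' := by
  set t := hermForm n F q w f with ht
  have hmem : w - t • e ∈ coordSub F n (n - 2) := by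
    have := sub_mem_V hF H w
    rwa [h.orth, zero_smul, sub_zero] at this
  have h' : IsSiegel q e (w - t • e) (μ + t - t ^ q) := by
    refine ⟨h.iso, ?_, ?_⟩
    · rw [herm_sub_left, herm_smul_left, h.iso, h.orth]; ring
    · have htr := h.tr
      rw [sub_pow_q hF, add_pow_q hF, pow_q_pow_q hF, herm_sub_left, herm_sub_right hF,
        herm_sub_right hF, herm_smul_left, herm_smul_right, herm_smul_left, herm_smul_right, h.iso,
        h.orth, h.orth' hF]
      linear_combination htr
  refine ⟨_, hmem, _, h', ?_⟩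
  apply ext_act
  intro v
  rw [act_siegel, act_siegel, herm_sub_right hF, herm_smul_right]
  funext i
  simp only [Pi.add_apply, Pi.sub_apply, Pi.smul_apply, smul_eq_mul]
  ring

/-- The parameters are unique. -/
theorem siegel_inj (hF : Fintype.card F = q ^ 2) {e f : Fin n → F} (H : IsFrame q e f)
    {w w' : Fin n → F} {μ μ' : F} (hw : w ∈ coordSub F n (n - 2)) (hw' : w' ∈ coordSub F n (n - 2))
    (h : IsSiegel q e w μ) (h' : IsSiegel q e w' μ')
    (heq : siegel hF e w μ h = siegel hF e w' μ' h') : w = w' ∧ μ = μ' := by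
  have h1 := congrArg (fun g => act g f) heq
  simp only [act_siegel, frame_fe hF H, one_smul, mul_one] at h1
  have hfw : hermForm n F q f w = 0 := herm_eq_zero_swap hF ((H.mem w).1 hw).2
  have hfw' : hermForm n F q f w' = 0 := herm_eq_zero_swap hF ((H.mem w').1 hw').2
  rw [hfw, hfw', sub_zero, sub_zero, add_assoc, add_assoc, add_right_inj] at h1
  have h2 := congrArg (fun v => hermForm n F q v f) h1
  simp only [herm_add_left, herm_smul_left, H.ef, ((H.mem w).1 hw).2, ((H.mem w').1 hw').2,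
    zero_add, mul_one] at h2
  refine ⟨?_, h2⟩
  rw [h2] at h1
  exact add_right_cancel h1

theorem pr_siegel_inj (hF : Fintype.card F = q ^ 2) (hn : 3 ≤ n) {e f : Fin n → F}
    (H : IsFrame q e f)
    {w w' : Fin n → F} {μ μ' : F} (hw : w ∈ coordSub F n (n - 2)) (hw' : w' ∈ coordSub F n (n - 2))
    (h : IsSiegel q e w μ) (h' : IsSiegel q e w' μ')
    (heq : pr n F q (siegel hF e w μ h) = pr n F q (siegel hF e w' μ' h')) :
    w = w' ∧ μ = μ' :=
  siegel_inj hF H hw hw' h h' (siegel_pr_inj hF hn h h' heq)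

theorem exists_isSiegel (hF : Fintype.card F = q ^ 2) {e f : Fin n → F} (H : IsFrame q e f)
    {w : Fin n → F} (hw : w ∈ coordSub F n (n - 2)) : ∃ μ, IsSiegel q e w μ := by
  obtain ⟨μ, hμ⟩ := exists_trace_eq hF (c := -hermForm n F q w w)
    (by rw [neg_pow_q hF, herm_self_pow hF])
  exact ⟨μ, H.ee, ((H.mem w).1 hw).1, by rw [hμ]; ring⟩

/-! ### The induced map -/

/-- `α` induces `φ` on `V₁`. -/
def Ind (hF : Fintype.card F = q ^ 2) (e : Fin n → F) (α : MulAut (PSU n F q))
    (φ : coordSub F n (n - 2) → coordSub F n (n - 2)) : Prop :=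
  ∀ (w : coordSub F n (n - 2)) (μ : F) (h : IsSiegel q e (w : Fin n → F) μ),
    ∃ (μ' : F) (h' : IsSiegel q e (φ w : Fin n → F) μ'),
      α (pr n F q (siegel hF e w μ h)) = pr n F q (siegel hF e (φ w) μ' h')

theorem Ind.one (hF : Fintype.card F = q ^ 2) (e : Fin n → F) :
    Ind hF e (1 : MulAut (PSU n F q)) id :=
  fun _ μ h => ⟨μ, h, rfl⟩

theorem Ind.mul {hF : Fintype.card F = q ^ 2} {e : Fin n → F} {α β : MulAut (PSU n F q)}
    {φ ψ : coordSub F n (n - 2) → coordSub F n (n - 2)} (hα : Ind hF e α φ) (hβ : Ind hF e β ψ) :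
    Ind hF e (α * β) (φ ∘ ψ) := by
  intro w μ h
  obtain ⟨μ1, h1, e1⟩ := hβ w μ h
  obtain ⟨μ2, h2, e2⟩ := hα (ψ w) μ1 h1
  exact ⟨μ2, h2, by rw [MulAut.mul_apply, e1, e2]; rfl⟩

theorem Ind.unique {hF : Fintype.card F = q ^ 2} (hn : 3 ≤ n) {e f : Fin n → F}
    (H : IsFrame q e f) {α : MulAut (PSU n F q)}
    {φ ψ : coordSub F n (n - 2) → coordSub F n (n - 2)} (hφ : Ind hF e α φ) (hψ : Ind hF e α ψ) :
    φ = ψ := by
  funext w
  obtain ⟨μ, h⟩ := exists_isSiegel hF H w.2
  obtain ⟨μ1, h1, e1⟩ := hφ w μ h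
  obtain ⟨μ2, h2, e2⟩ := hψ w μ h
  rw [e1] at e2
  exact Subtype.ext (pr_siegel_inj hF hn H (φ w).2 (ψ w).2 h1 h2 e2).1

theorem Ind.add {hF : Fintype.card F = q ^ 2} (hn : 3 ≤ n) {e f : Fin n → F}
    (H : IsFrame q e f) {α : MulAut (PSU n F q)}
    {φ : coordSub F n (n - 2) → coordSub F n (n - 2)} (hφ : Ind hF e α φ)
    (w w' : coordSub F n (n - 2)) : φ (w + w') = φ w + φ w' := by
  obtain ⟨μ, h⟩ := exists_isSiegel hF H w.2
  obtain ⟨μ', h'⟩ := exists_isSiegel hF H w'.2
  obtain ⟨μ1, h1, e1⟩ := hφ w μ h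
  obtain ⟨μ2, h2, e2⟩ := hφ w' μ' h'
  obtain ⟨μ3, h3, e3⟩ := hφ (w + w') _ (h.mul hF h')
  have e4 : pr n F q (siegel hF e _ μ3 h3) = pr n F q (siegel hF e _ _ (h1.mul hF h2)) := by
    rw [← e3, ← siegel_mul hF h1 h2, map_mul, ← e1, ← e2, ← map_mul, ← map_mul,
      siegel_mul hF h h']
    rfl
  exact Subtype.ext (pr_siegel_inj hF hn H (φ (w + w')).2 (φ w + φ w').2 h3 _ e4).1

/-- Existence of the induced map. -/
theorem exists_ind (hF : Fintype.card F = q ^ 2) (hn : 3 ≤ n) {e f : Fin n → F}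
    (H : IsFrame q e f) (α : MulAut (PSU n F q))
    (hα : ∀ x, x ∈ RR hF e H.ee ↔ α x ∈ RR hF e H.ee) :
    ∃ φ : coordSub F n (n - 2) → coordSub F n (n - 2), Ind hF e α φ := by
  have hQ := map_QQ_le hF hn H α hα
  have h1 : ∀ w : coordSub F n (n - 2), ∃ w' : coordSub F n (n - 2),
      ∃ (μ : F) (h : IsSiegel q e (w : Fin n → F) μ) (μ' : F)
        (h' : IsSiegel q e (w' : Fin n → F) μ'),
        α (pr n F q (siegel hF e w μ h)) = pr n F q (siegel hF e w' μ' h') := by
    intro w
    obtain ⟨μ, h⟩ := exists_isSiegel hF H w.2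
    obtain ⟨w1, μ1, h1, e1⟩ := mem_QQ.1 (hQ _ (mem_QQ.2 ⟨w, μ, h, rfl⟩))
    obtain ⟨w2, hw2, μ2, h2, e2⟩ := exists_normal hF H h1
    exact ⟨⟨w2, hw2⟩, μ, h, μ2, h2, by rw [e1, e2]⟩
  choose φ hφ using h1
  refine ⟨φ, fun w μ h => ?_⟩
  obtain ⟨μ0, h0, μ1, h1, e1⟩ := hφ w
  -- `siegel w μ = siegel w μ0 * transv (μ - μ0)`
  have htr : (μ - μ0) + (μ - μ0) ^ q = 0 := by
    have t1 := h.tr
    have t0 := h0.tr
    rw [sub_pow_q hF]
    linear_combination t1 - t0
  have e2 : siegel hF e w μ h = siegel hF e w μ0 h0 * transv hF e H.ee (μ - μ0) htr := by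
    rw [transv, siegel_mul]
    apply siegel_congr hF _ _ rfl
    · rw [add_zero]
    · rw [herm_zero_left]; ring
  have h2 : α (pr n F q (transv hF e H.ee (μ - μ0) htr)) ∈ RR hF e H.ee :=
    (hα _).1 (mem_RR.2 ⟨_, htr, rfl⟩)
  obtain ⟨ν, hν, e3⟩ := mem_RR.1 h2
  have h4 : IsSiegel q e (φ w : Fin n → F) (μ1 + ν) := by
    refine ⟨h1.iso, h1.orth, ?_⟩
    have t1 := h1.tr
    rw [add_pow_q hF]
    linear_combination t1 + hν
  refine ⟨μ1 + ν, h4, ?_⟩
  rw [e2, map_mul, map_mul, e1, e3, ← map_mul, transv, siegel_mul]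
  congr 1
  apply siegel_congr hF _ _ rfl
  · rw [add_zero]
  · rw [herm_zero_left]; ring

/-- The induced map as an additive bijection. -/
theorem exists_ind_equiv (hF : Fintype.card F = q ^ 2) (hn : 3 ≤ n) {e f : Fin n → F}
    (H : IsFrame q e f) (α : MulAut (PSU n F q))
    (hα : ∀ x, x ∈ RR hF e H.ee ↔ α x ∈ RR hF e H.ee) :
    ∃ φ : coordSub F n (n - 2) ≃+ coordSub F n (n - 2),
      Ind hF e α φ ∧ Ind hF e α⁻¹ φ.symm := by
  have hα' : ∀ x, x ∈ RR hF e H.ee ↔ α⁻¹ x ∈ RR hF e H.ee := by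
    intro x
    rw [hα (α⁻¹ x), MulAut.apply_inv_self]
  obtain ⟨φ, hφ⟩ := exists_ind hF hn H α hα
  obtain ⟨ψ, hψ⟩ := exists_ind hF hn H α⁻¹ hα'
  have h1 : φ ∘ ψ = id := by
    have := hφ.mul hψ
    rw [mul_inv_cancel] at this
    exact Ind.unique hn H this (Ind.one hF e)
  have h2 : ψ ∘ φ = id := by
    have := hψ.mul hφ
    rw [inv_mul_cancel] at this
    exact Ind.unique hn H this (Ind.one hF e)
  exact ⟨{ toFun := φ
           invFun := ψ
           left_inv := congrFun h2
           right_inv := congrFun h1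
           map_add' := Ind.add hn H hφ }, hφ, hψ⟩

/-! ### The stabiliser of the two points -/

/-- Conjugation of a Siegel transformation by an element of the stabiliser of the point `e`. -/
theorem conj_siegel_stab (hF : Fintype.card F = q ^ 2) {e : Fin n → F} {l : SU n F q} {a : F}
    (hl : act l e = a • e) (ha : a ≠ 0) {w : Fin n → F} {μ : F} (h : IsSiegel q e w μ) :
    ∃ h' : IsSiegel q e (a ^ q • act l w) (a * a ^ q * μ),
      l * siegel hF e w μ h * l⁻¹ = siegel hF e (a ^ q • act l w) (a * a ^ q * μ) h' := by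
  have h2 : IsSiegel q (a • e) (act l w) μ := by rw [← hl]; exact h.map l
  have h' : IsSiegel q e (a ^ q • act l w) (a * a ^ q * μ) := by
    refine ⟨h.iso, ?_, ?_⟩
    · have h3 := h2.orth
      rw [herm_smul_right] at h3
      rcases mul_eq_zero.1 h3 with h4 | h4
      · exact absurd h4 (pow_ne_zero _ ha)
      · rw [herm_smul_left, h4, mul_zero]
    · have h3 := h2.tr
      rw [herm_smul_left, herm_smul_right, mul_pow, norm_pow_q hF, pow_q_pow_q hF]
      linear_combination (a * a ^ q) * h3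
  refine ⟨h', ?_⟩
  rw [conj_siegel]
  apply ext_act
  intro v
  rw [act_siegel, act_siegel, hl]
  simp only [herm_smul_right, smul_smul, pow_q_pow_q hF]
  funext i
  simp only [Pi.add_apply, Pi.smul_apply, smul_eq_mul]
  ring

omit [Fintype F] in
theorem eigen_ne_zero {e : Fin n → F} (he : e ≠ 0) {l : SU n F q} {a : F}
    (hl : act l e = a • e) : a ≠ 0 := by
  rintro rfl
  rw [zero_smul, act_eq_zero] at hl
  exact he hl

/-- The twisted action of the stabiliser of the two points preserves `V₁`. -/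
theorem stab_mem (hF : Fintype.card F = q ^ 2) {e f : Fin n → F} (H : IsFrame q e f)
    {l : SU n F q} {a b : F} (he : act l e = a • e) (hf : act l f = b • f)
    {w : Fin n → F} (hw : w ∈ coordSub F n (n - 2)) : act l w ∈ coordSub F n (n - 2) := by
  have ha := eigen_ne_zero (frame_ne_zero H) he
  have hb := eigen_ne_zero (frame_ne_zero' hF H) hf
  rw [H.mem] at hw ⊢
  constructor
  · have h1 : hermForm n F q (act l w) (act l e) = 0 := by rw [herm_act, hw.1]
    rw [he, herm_smul_right] at h1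
    exact (mul_eq_zero.1 h1).resolve_left (pow_ne_zero _ ha)
  · have h1 : hermForm n F q (act l w) (act l f) = 0 := by rw [herm_act, hw.2]
    rw [hf, herm_smul_right] at h1
    exact (mul_eq_zero.1 h1).resolve_left (pow_ne_zero _ hb)

/-- Equivariance of the induced map. -/
theorem Ind.equivariant {hF : Fintype.card F = q ^ 2} (hn : 3 ≤ n) {e f : Fin n → F}
    (H : IsFrame q e f) {α : MulAut (PSU n F q)}
    {φ : coordSub F n (n - 2) → coordSub F n (n - 2)} (hφ : Ind hF e α φ)
    {l l' : SU n F q} {a a' b' : F} (hle : act l e = a • e)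
    (hle' : act l' e = a' • e) (hlf' : act l' f = b' • f)
    (hll : α (pr n F q l) = pr n F q l')
    {w w2 : coordSub F n (n - 2)} (hw : (w2 : Fin n → F) = a ^ q • act l (w : Fin n → F)) :
    (φ w2 : Fin n → F) = a' ^ q • act l' (φ w : Fin n → F) := by
  have ha := eigen_ne_zero (frame_ne_zero H) hle
  have ha' := eigen_ne_zero (frame_ne_zero H) hle'
  obtain ⟨μ, h⟩ := exists_isSiegel hF H w.2
  obtain ⟨μ1, h1, e1⟩ := hφ w μ h
  obtain ⟨h2, e2⟩ := conj_siegel_stab hF hle ha h
  obtain ⟨h3, e3⟩ := conj_siegel_stab hF hle' ha' h1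
  have h2' : IsSiegel q e (w2 : Fin n → F) (a * a ^ q * μ) := by rw [hw]; exact h2
  obtain ⟨μ4, h4, e4⟩ := hφ w2 _ h2'
  have e5 : pr n F q (siegel hF e _ μ4 h4) = pr n F q (siegel hF e _ _ h3) := by
    rw [← e4, ← e3, siegel_congr hF h2' h2 rfl hw rfl, ← e2]
    rw [map_mul, map_mul, map_mul, map_mul, map_mul, map_mul, map_inv, map_inv, map_inv, hll, e1]
  exact (pr_siegel_inj hF hn H (φ w2).2
    (Submodule.smul_mem _ _ (stab_mem hF H hle' hlf' (φ w).2)) h4 h3 e5).1

/-- Lifting of the stabiliser of the two points along `α`. -/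
theorem exists_stab_map (hF : Fintype.card F = q ^ 2) (hn : 3 ≤ n) {e f : Fin n → F}
    (H : IsFrame q e f) (α : MulAut (PSU n F q))
    (hα : ∀ x, x ∈ RR hF e H.ee ↔ α x ∈ RR hF e H.ee)
    (hα' : ∀ x, x ∈ RR hF f H.ff ↔ α x ∈ RR hF f H.ff)
    {l : SU n F q} {a b : F} (hle : act l e = a • e) (hlf : act l f = b • f) :
    ∃ (l' : SU n F q) (a' b' : F), act l' e = a' • e ∧ act l' f = b' • f ∧
      α (pr n F q l) = pr n F q l' := by
  have ha := eigen_ne_zero (frame_ne_zero H) hle
  have hb := eigen_ne_zero (frame_ne_zero' hF H) hlf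
  obtain ⟨l', hl'⟩ := pr_surjective (α (pr n F q l))
  have h1 : NormRR hF e H.ee (pr n F q l) :=
    (normRR_iff hF hn (frame_ne_zero H) H.ee l).2 ⟨a, ha, hle⟩
  have h2 : NormRR hF f H.ff (pr n F q l) :=
    (normRR_iff hF hn (frame_ne_zero' hF H) H.ff l).2 ⟨b, hb, hlf⟩
  have h3 : NormRR hF e H.ee (pr n F q l') := by
    rw [hl']
    intro y
    obtain ⟨z, rfl⟩ := α.surjective y
    rw [← hα, h1 z, hα, map_mul, map_mul, map_inv]
  have h4 : NormRR hF f H.ff (pr n F q l') := by
    rw [hl']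
    intro y
    obtain ⟨z, rfl⟩ := α.surjective y
    rw [← hα', h2 z, hα', map_mul, map_mul, map_inv]
  obtain ⟨a', -, ha'⟩ := (normRR_iff hF hn (frame_ne_zero H) H.ee l').1 h3
  obtain ⟨b', -, hb'⟩ := (normRR_iff hF hn (frame_ne_zero' hF H) H.ff l').1 h4
  exact ⟨l', a', b', ha', hb', hl'.symm⟩

end Cfsg.Agent.ClassicalGeometry.PSUAutPhi
end

-- part: ClassicalGeometry/PSUAutSemi
section
/-!
# Automorphisms of `PSU n F q`: the induced map is a semisimilarity of `V₁`
-/

set_option autoImplicit false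

namespace Cfsg.Agent.ClassicalGeometry.PSUAutSemi

open Cfsg Cfsg.Agent.LieClassical.HermBasic Cfsg.Agent.LieClassical.HermSiegel
  Cfsg.Agent.LieClassical.HermGen Cfsg.Agent.LieClassical.SUBasic Matrix
  Cfsg.Agent.ClassicalGeometry.PSUAutBasic Cfsg.Agent.ClassicalGeometry.PSUAutSylow
  Cfsg.Agent.ClassicalGeometry.PSUAutUnip Cfsg.Agent.ClassicalGeometry.PSUAutPhi

variable {F : Type*} [Field F] [Fintype F] {q n : ℕ}

/-- The basis vectors of `V₁` (and zero for the last two coordinates). -/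
def bas (F : Type*) [Field F] (n : ℕ) (i : Fin n) : coordSub F n (n - 2) :=
  if h : i.val < n - 2 then ⟨Pi.single i 1, single_mem_coordSub h 1⟩ else 0

omit [Fintype F] in
theorem bas_pos {i : Fin n} (h : i.val < n - 2) :
    (bas F n i : Fin n → F) = Pi.single i 1 := by
  rw [bas, dif_pos h]

omit [Fintype F] in
theorem bas_neg {i : Fin n} (h : ¬ i.val < n - 2) : bas F n i = 0 := by
  rw [bas, dif_neg h]

omit [Fintype F] in
theorem bas_ne_zero {i : Fin n} (h : i.val < n - 2) : bas F n i ≠ 0 := by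
  intro h0
  have h1 := congrArg (fun v : coordSub F n (n - 2) => (v : Fin n → F) i) h0
  simp only [bas_pos h, Pi.single_eq_same] at h1
  exact one_ne_zero h1

omit [Fintype F] in
theorem eq_sum_bas (w : coordSub F n (n - 2)) : w = ∑ i, (w : Fin n → F) i • bas F n i := by
  apply Subtype.ext
  rw [Submodule.coe_sum]
  funext j
  rw [Finset.sum_apply, Finset.sum_eq_single j]
  · by_cases h : j.val < n - 2
    · rw [Submodule.coe_smul, bas_pos h, Pi.smul_apply, Pi.single_eq_same, smul_eq_mul, mul_one]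
    · rw [w.2 j (by omega), zero_smul]; rfl
  · intro i _ hij
    by_cases h : i.val < n - 2
    · rw [Submodule.coe_smul, bas_pos h, Pi.smul_apply, Pi.single_eq_of_ne (Ne.symm hij), smul_zero]
    · rw [bas_neg h, smul_zero]; rfl
  · intro h; exact absurd (Finset.mem_univ j) h

theorem herm_bas (hF : Fintype.card F = q ^ 2) {i : Fin n} (h : i.val < n - 2) :
    hermForm n F q (bas F n i : Fin n → F) (bas F n i : Fin n → F) = 1 := by
  rw [bas_pos h, herm_single_right hF, Pi.single_eq_same, one_pow, one_mul]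

theorem herm_bas_ne (hF : Fintype.card F = q ^ 2) {i j : Fin n} (hij : i ≠ j) :
    hermForm n F q (bas F n i : Fin n → F) (bas F n j : Fin n → F) = 0 := by
  by_cases hi : i.val < n - 2
  · by_cases hj : j.val < n - 2
    · rw [bas_pos hi, bas_pos hj, herm_single_right hF, Pi.single_eq_of_ne (Ne.symm hij), zero_mul]
    · rw [bas_neg hj]; exact herm_zero_right hF _
  · rw [bas_neg hi]; exact herm_zero_left _

/-- The induced map is semilinear. -/
theorem exists_semilinear (hF : Fintype.card F = q ^ 2) (hn : 3 ≤ n)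
    {e f : Fin n → F} (H : IsFrame q e f)
    (schur : ∀ (T : (coordSub F n (n - 2)) →+ (coordSub F n (n - 2)))
      (_ : ∀ (l : SU n F q) (a b : F), act l e = a • e → act l f = b • f →
        ∀ w w2 : coordSub F n (n - 2), (w2 : Fin n → F) = a ^ q • act l (w : Fin n → F) →
          (T w2 : Fin n → F) = a ^ q • act l (T w : Fin n → F)), ∃ c : F, ∀ w, T w = c • w)
    (α : MulAut (PSU n F q))
    (hα : ∀ x, x ∈ RR hF e H.ee ↔ α x ∈ RR hF e H.ee)
    (hα' : ∀ x, x ∈ RR hF f H.ff ↔ α x ∈ RR hF f H.ff)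
    {φ : coordSub F n (n - 2) ≃+ coordSub F n (n - 2)} (hφ : Ind hF e α φ)
    (hφ' : Ind hF e α⁻¹ φ.symm) :
    ∃ ρ : F ≃+* F, ∀ (c : F) (w : coordSub F n (n - 2)), φ (c • w) = ρ c • φ w := by
  have hβ : ∀ x, x ∈ RR hF e H.ee ↔ α⁻¹ x ∈ RR hF e H.ee := by
    intro x; rw [hα (α⁻¹ x), MulAut.apply_inv_self]
  have hβ' : ∀ x, x ∈ RR hF f H.ff ↔ α⁻¹ x ∈ RR hF f H.ff := by
    intro x; rw [hα' (α⁻¹ x), MulAut.apply_inv_self]
  have key : ∀ c : F, ∃ c' : F, ∀ w : coordSub F n (n - 2), φ (c • w) = c' • φ w := by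
    intro c
    let T : (coordSub F n (n - 2)) →+ (coordSub F n (n - 2)) :=
      { toFun := fun w => φ (c • φ.symm w)
        map_zero' := by rw [map_zero, smul_zero, map_zero]
        map_add' := fun w w' => by rw [map_add, smul_add, map_add] }
    obtain ⟨c', hc'⟩ := schur T (by
      intro l a b hle hlf w w2 hw
      obtain ⟨l', a', b', hle', hlf', hll⟩ := exists_stab_map hF hn H α⁻¹ hβ hβ' hle hlf
      have h1 := Ind.equivariant hn H hφ' hle hle' hlf' hll hw
      have h2 : ((c • φ.symm w2 : coordSub F n (n - 2)) : Fin n → F) =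
          a' ^ q • act l' ((c • φ.symm w : coordSub F n (n - 2)) : Fin n → F) := by
        rw [Submodule.coe_smul, Submodule.coe_smul, h1, act_smul, smul_comm]
      have hll' : α (pr n F q l') = pr n F q l := by
        rw [← hll, MulAut.apply_inv_self]
      exact Ind.equivariant hn H hφ hle' hle hlf hll' h2)
    refine ⟨c', fun w => ?_⟩
    have h3 := hc' (φ w)
    change φ (c • φ.symm (φ w)) = c' • φ w at h3
    rwa [AddEquiv.symm_apply_apply] at h3
  choose ρ hρ using key
  let i0 : Fin n := ⟨0, by omega⟩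
  have hi0 : i0.val < n - 2 := by simp [i0]; omega
  have hw0 : φ (bas F n i0) ≠ 0 := by
    intro h
    exact bas_ne_zero (F := F) hi0 ((map_eq_zero_iff φ φ.injective).1 h)
  have hinj : ∀ c d : F, c • φ (bas F n i0) = d • φ (bas F n i0) → c = d := by
    intro c d h
    exact smul_left_injective F hw0 h
  let R : F →+* F :=
    { toFun := ρ
      map_one' := hinj _ _ (by rw [← hρ, one_smul, one_smul])
      map_mul' := fun c d => hinj _ _ (by rw [← hρ, mul_smul, hρ, hρ, mul_smul])
      map_zero' := hinj _ _ (by rw [← hρ, zero_smul, zero_smul, map_zero])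
      map_add' := fun c d => hinj _ _ (by rw [← hρ, add_smul, add_smul, map_add, hρ, hρ]) }
  exact ⟨RingEquiv.ofBijective R ⟨R.injective, Finite.surjective_of_injective R.injective⟩,
    fun c w => hρ c w⟩

/-- Commuting Siegel transformations. -/
theorem herm_symm_of_symm {hF : Fintype.card F = q ^ 2} (hn : 3 ≤ n)
    {e f : Fin n → F} (H : IsFrame q e f) {α : MulAut (PSU n F q)}
    {φ : coordSub F n (n - 2) → coordSub F n (n - 2)} (hφ : Ind hF e α φ)
    {w w' : coordSub F n (n - 2)}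
    (hw : hermForm n F q (w : Fin n → F) w' = hermForm n F q (w' : Fin n → F) w) :
    hermForm n F q (φ w : Fin n → F) (φ w') = hermForm n F q (φ w' : Fin n → F) (φ w) := by
  obtain ⟨μ, h⟩ := exists_isSiegel hF H w.2
  obtain ⟨μ', h'⟩ := exists_isSiegel hF H w'.2
  obtain ⟨μ1, h1, e1⟩ := hφ w μ h
  obtain ⟨μ2, h2, e2⟩ := hφ w' μ' h'
  have e3 : siegel hF e w μ h * siegel hF e w' μ' h' =
      siegel hF e w' μ' h' * siegel hF e w μ h := by
    rw [siegel_mul, siegel_mul]
    apply siegel_congr hF _ _ rfl (add_comm _ _)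
    rw [hw]; ring
  have e4 : pr n F q (siegel hF e _ _ (h1.mul hF h2)) =
      pr n F q (siegel hF e _ _ (h2.mul hF h1)) := by
    rw [← siegel_mul hF h1 h2, ← siegel_mul hF h2 h1, map_mul, map_mul, ← e1, ← e2, ← map_mul, ← map_mul, ← map_mul,
      ← map_mul, e3]
  have e5 := (pr_siegel_inj hF hn H (φ w + φ w').2 (φ w' + φ w).2 _ _ e4).2
  linear_combination e5

/-- The induced map multiplies the form by a scalar, up to the field automorphism. -/
theorem exists_scale {hF : Fintype.card F = q ^ 2} (hn : 3 ≤ n)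
    {e f : Fin n → F} (H : IsFrame q e f) {α : MulAut (PSU n F q)}
    {φ : coordSub F n (n - 2) ≃+ coordSub F n (n - 2)} (hφ : Ind hF e α φ)
    {ρ : F ≃+* F} (hρ : ∀ (c : F) (w : coordSub F n (n - 2)), φ (c • w) = ρ c • φ w) :
    ∃ κ : F, κ ≠ 0 ∧ κ ^ q = κ ∧ ∀ w w' : coordSub F n (n - 2),
      hermForm n F q (φ w : Fin n → F) (φ w') = κ * ρ (hermForm n F q (w : Fin n → F) w') := by
  have hperp : ∀ w w' : coordSub F n (n - 2), hermForm n F q (w : Fin n → F) w' = 0 →
      hermForm n F q (φ w : Fin n → F) (φ w') = 0 := by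
    intro w w' hw
    apply eq_zero_of_forall_fixed hF
    intro d
    have h1 := herm_symm_of_symm hn H hφ (w := ρ.symm d • w) (w' := w') (by
      rw [Submodule.coe_smul, herm_smul_left, herm_smul_right, hw, herm_eq_zero_swap hF hw]
      ring)
    rw [hρ, RingEquiv.apply_symm_apply, Submodule.coe_smul, herm_smul_left, herm_smul_right] at h1
    rw [mul_pow, ← herm_swap hF]
    exact h1.symm
  let i0 : Fin n := ⟨0, by omega⟩
  have hi0 : i0.val < n - 2 := by simp [i0]; omega
  set κ := hermForm n F q (φ (bas F n i0) : Fin n → F) (φ (bas F n i0)) with hκ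
  have hκi : ∀ i : Fin n, i.val < n - 2 →
      hermForm n F q (φ (bas F n i) : Fin n → F) (φ (bas F n i)) = κ := by
    intro i hi
    by_cases h0 : i = i0
    · rw [h0]
    · have h1 := hperp (bas F n i + bas F n i0) (bas F n i - bas F n i0) (by
        rw [Submodule.coe_add, Submodule.coe_sub, herm_add_left, herm_sub_right hF,
          herm_sub_right hF, herm_bas hF hi, herm_bas hF hi0, herm_bas_ne hF h0,
          herm_bas_ne hF (Ne.symm h0)]
        ring)
      rw [map_add, map_sub, Submodule.coe_add, Submodule.coe_sub, herm_add_left,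
        herm_sub_right hF, herm_sub_right hF, hperp _ _ (herm_bas_ne hF h0),
        hperp _ _ (herm_bas_ne hF (Ne.symm h0)), ← hκ] at h1
      linear_combination h1
  have hform : ∀ w w' : coordSub F n (n - 2),
      hermForm n F q (φ w : Fin n → F) (φ w') = κ * ρ (hermForm n F q (w : Fin n → F) w') := by
    intro w w'
    have e1 : ∀ w : coordSub F n (n - 2), (φ w : Fin n → F) =
        ∑ i, ρ ((w : Fin n → F) i) • (φ (bas F n i) : Fin n → F) := by
      intro w
      conv_lhs => rw [eq_sum_bas w]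
      rw [map_sum, Submodule.coe_sum]
      exact Finset.sum_congr rfl fun i _ => by rw [hρ, Submodule.coe_smul]
    rw [e1 w, e1 w', herm_sum_left, herm_def (w : Fin n → F), map_sum, Finset.mul_sum]
    refine Finset.sum_congr rfl fun i _ => ?_
    rw [herm_smul_left, herm_sum_right hF, Finset.sum_eq_single i]
    · rw [herm_smul_right, map_mul, map_pow]
      by_cases hi : i.val < n - 2
      · rw [hκi i hi]; ring
      · rw [w.2 i (by omega), map_zero]; ring
    · intro j _ hji
      rw [herm_smul_right, hperp _ _ (herm_bas_ne hF (Ne.symm hji)), mul_zero]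
    · intro h; exact absurd (Finset.mem_univ i) h
  refine ⟨κ, ?_, herm_self_pow hF _, hform⟩
  intro h0
  have h1 := hform (φ.symm (bas F n i0)) (φ.symm (bas F n i0))
  rw [AddEquiv.apply_symm_apply, h0, zero_mul, herm_bas hF hi0] at h1
  exact one_ne_zero h1

end Cfsg.Agent.ClassicalGeometry.PSUAutSemi
end
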