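import Mathlib
import Cfsg.Prelude.Def_ClassicalGeometry
import Cfsg.Agent.ClassicalGeometry.SympGamma
set_option linter.all false

/-!
Final counting for the order of `Aut(PSp_2m(q))`: everything is reduced to the recognition of transvections and
the existence of the graph automorphism of `Sp_4(2^f)`.
-/

set_option autoImplicit false
open Cfsg
open scoped Matrix

namespace Cfsg.Agent.ClassicalGeometry.AutPSpCount

open Cfsg.Agent.ClassicalGeometry.SympBasic Cfsg.Agent.ClassicalGeometry.SympAutSemi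
open Cfsg.Agent.ClassicalGeometry.SympGamma

variable {F : Type*} [Field F] {m : ℕ}

/-- The automorphism `α` maps transvections to transvections. -/
def Pres (α : MulAut (PSp m F)) : Prop :=
  ∀ v : Fin m ⊕ Fin m → F, v ≠ 0 → ∀ c : F, c ≠ 0 →
    ∃ v' : Fin m ⊕ Fin m → F, v' ≠ 0 ∧ ∃ c' : F, c' ≠ 0 ∧
      α (QuotientGroup.mk (transv v c)) = QuotientGroup.mk (transv v' c')

theorem pres_of_mem_range {α : MulAut (PSp m F)} (h : α ∈ (Psi m F).range) : Pres α := by
  obtain ⟨g, rfl⟩ := h
  obtain ⟨φ, l, hl, hs⟩ := g.2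
  intro v hv c hc
  have hg0 : g.1 0 = 0 := by
    have := hs.1 0 0
    rw [add_zero] at this
    exact left_eq_add.1 this
  refine ⟨g.1 v, fun h => hv (g.1.injective (h.trans hg0.symm)), φ c * l⁻¹, ?_, ?_⟩
  · exact mul_ne_zero (by simpa using hc) (inv_ne_zero hl)
  · rw [Psi_mk, conjHom_transv g hl hs]

theorem card_sp [Fintype F] (hm : 1 ≤ m) :
    Nat.card (Matrix.symplecticGroup (Fin m) F) =
      Nat.gcd 2 (Fintype.card F - 1) * Nat.card (PSp m F) := by
  rw [← LieClassical.SympCenter.card_center hm]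
  exact Subgroup.card_eq_card_quotient_mul_card_subgroup _ |>.trans (mul_comm _ _)

theorem card_of_range_eq_top [Fintype F] {p f : ℕ} [Fact p.Prime] (hf : 1 ≤ f)
    (hF : Fintype.card F = p ^ f) (hm : 1 ≤ m) (h : (Psi m F).range = ⊤) :
    Nat.card (MulAut (PSp m F)) = Nat.gcd 2 (p ^ f - 1) * f * Nat.card (PSp m F) := by
  have h1 := card_range_Psi (m := m) hf hF hm
  rw [h, Subgroup.card_top, card_sp hm, hF] at h1
  rw [h1]
  ring

theorem card_of_index_eq_two [Fintype F] {p f : ℕ} [Fact p.Prime] (hf : 1 ≤ f)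
    (hF : Fintype.card F = p ^ f) (hm : 1 ≤ m) (h : (Psi m F).range.index = 2) :
    Nat.card (MulAut (PSp m F)) = 2 * Nat.gcd 2 (p ^ f - 1) * f * Nat.card (PSp m F) := by
  have h1 := card_range_Psi (m := m) hf hF hm
  have h2 := Subgroup.card_mul_index (Psi m F).range
  rw [h, h1, card_sp hm, hF] at h2
  rw [← h2]
  ring

/-- Conjugates of transvections in `PSp` are transvections. -/
theorem exists_conj_mk_transv (x : PSp m F) {v : Fin m ⊕ Fin m → F} (hv : v ≠ 0) (c : F) :
    ∃ v' : Fin m ⊕ Fin m → F, v' ≠ 0 ∧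
      x * (QuotientGroup.mk (transv v c) : PSp m F) * x⁻¹ = QuotientGroup.mk (transv v' c) := by
  induction x using QuotientGroup.induction_on with
  | H A =>
    refine ⟨A.1 *ᵥ v, ?_, ?_⟩
    · intro h
      apply hv
      have h1 : rho m F A v = rho m F A 0 := by
        rw [rho_apply, rho_apply, Matrix.mulVec_zero]; exact h
      exact (rho m F A).injective h1
    · have h1 : A * transv v c * A⁻¹ = transv (A.1 *ᵥ v) c := by
        rw [mul_inv_eq_iff_eq_mul]
        apply Subtype.ext
        exact mul_sympTransvection A.2 v c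
      rw [← h1]
      rfl

/-- The index-two argument: an automorphism `γ` outside the range of `Psi` which carries every class
of images of transvections under non-preserving automorphisms back to transvections. -/
theorem index_eq_two
    (hB : ∀ α : MulAut (PSp m F), Pres α → α ∈ (Psi m F).range)
    (T : Set (PSp m F))
    (hA : ∀ α : MulAut (PSp m F), Pres α ∨ ∀ v : Fin m ⊕ Fin m → F, v ≠ 0 → ∀ c : F, c ≠ 0 →
      ∃ s ∈ T, IsConj s (α (QuotientGroup.mk (transv v c))))
    (γ : MulAut (PSp m F))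
    (hγ : ∀ s ∈ T, ∃ w : Fin m ⊕ Fin m → F, w ≠ 0 ∧ ∃ c : F, c ≠ 0 ∧
      γ s = QuotientGroup.mk (transv w c))
    (hγ' : ¬ Pres γ) :
    (Psi m F).range.index = 2 := by
  have hγn : γ ∉ (Psi m F).range := fun h => hγ' (pres_of_mem_range h)
  have key : ∀ α : MulAut (PSp m F), α ∉ (Psi m F).range → γ * α ∈ (Psi m F).range := by
    intro α hα
    apply hB
    rcases hA α with h | h
    · exact absurd (hB α h) hα
    · intro v hv c hc
      obtain ⟨s, hs, hconj⟩ := h v hv c hc
      obtain ⟨x, hx⟩ := isConj_iff.1 hconj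
      obtain ⟨w, hw, c', hc', e⟩ := hγ s hs
      obtain ⟨w', hw', e'⟩ := exists_conj_mk_transv (γ x) hw c'
      refine ⟨w', hw', c', hc', ?_⟩
      rw [MulAut.mul_apply, ← hx, map_mul, map_mul, map_inv, e, e']
  rw [Subgroup.index_eq_two_iff]
  refine ⟨γ⁻¹, fun b => ?_⟩
  by_cases hb : b ∈ (Psi m F).range
  · right
    refine ⟨hb, fun h => hγn ?_⟩
    have := mul_mem (inv_mem h) hb
    simpa using this
  · left
    refine ⟨?_, hb⟩
    have h1 : b⁻¹ ∉ (Psi m F).range := fun h => hb (by simpa using inv_mem h)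
    have h2 := inv_mem (key _ h1)
    simpa using h2

end Cfsg.Agent.ClassicalGeometry.AutPSpCount
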