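import Mathlib
import Cfsg.Agent.ClassicalGeometry.SympAutSylow
set_option linter.all false

/-!
Elements of `PSp` centralising a Sylow `p`-subgroup (`p` the characteristic).
-/

set_option autoImplicit false
open Cfsg
open scoped Matrix

namespace Cfsg.Agent.ClassicalGeometry.SympAutCentral

open Cfsg.Agent.ClassicalGeometry.SympBasic
open Cfsg.Agent.ClassicalGeometry.SympSiegel
open Cfsg.Agent.ClassicalGeometry.SympAutSylow

variable {F : Type*} [Field F] {m : ℕ}

local notation "V" => (Fin m ⊕ Fin m → F)
local notation "G" => Matrix.symplecticGroup (Fin m) F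
local notation "f" => sympForm m F

/-! ### The centre -/

/-- If every vector is an eigenvector then the matrix is `± 1`. -/
theorem exists_scalar {A : G} (h : ∀ v : V, ∃ a : F, A • v = a • v) :
    ∃ b : F, b * b = 1 ∧ ∀ v : V, A • v = b • v := by
  choose a ha using h
  have h1 : ∀ v w, f v w ≠ 0 → a v * a w = 1 := by
    intro v w hvw
    have h := form_smul A v w
    rw [ha v, ha w, sympForm_smul_left, sympForm_smul_right, ← mul_assoc] at h
    exact mul_right_cancel₀ hvw (h.trans (one_mul _).symm)
  have h2 : ∀ v w, v ≠ 0 → w ≠ 0 → a v = a w := by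
    intro v w hv hw
    obtain ⟨z, hz1, hz2⟩ := exists_both_ne_zero hv hw
    have e1 := h1 v z hz1
    have e2 := h1 w z hz2
    have hz : a z ≠ 0 := right_ne_zero_of_mul_eq_one e1
    exact mul_right_cancel₀ hz (e1.trans e2.symm)
  by_cases hex : ∃ v0 : V, v0 ≠ 0
  · obtain ⟨v0, hv0⟩ := hex
    refine ⟨a v0, ?_, fun v => ?_⟩
    · obtain ⟨z, hz1, -⟩ := exists_both_ne_zero hv0 hv0
      have hz : z ≠ 0 := by
        rintro rfl
        exact hz1 (sympForm_zero_right _)
      have := h1 v0 z hz1
      rwa [← h2 v0 z hv0 hz] at this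
    · by_cases hv : v = 0
      · subst hv
        rw [smul_zero', smul_zero]
      · rw [ha v, h2 v v0 hv hv0]
  · push Not at hex
    refine ⟨1, one_mul _, fun v => ?_⟩
    rw [hex v, smul_zero', smul_zero]

/-- Central elements are `± 1`. -/
theorem center_scalar {A : G} (h : A ∈ Subgroup.center (Matrix.symplecticGroup (Fin m) F)) :
    ∃ b : F, b * b = 1 ∧ ∀ v : V, A • v = b • v := by
  apply exists_scalar
  intro v
  by_cases hv : v = 0
  · refine ⟨0, ?_⟩
    rw [hv, smul_zero', smul_zero]
  · have h1 : A * transv v 1 * A⁻¹ = transv v 1 := by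
      rw [mul_inv_eq_iff_eq_mul, Subgroup.mem_center_iff.1 h]
    rw [conj_transv] at h1
    obtain ⟨x, hx⟩ : ∃ x, f x (A • v) ≠ 0 := by
      by_contra hcon
      push Not at hcon
      exact smul_ne_zero' A hv (eq_zero_of_forall_sympForm_left hcon)
    have h2 := congrArg (fun g : G => g • x) h1
    simp only [transv_smul, one_mul, add_right_inj] at h2
    refine ⟨(f x (A • v))⁻¹ * f x v, ?_⟩
    rw [mul_smul, ← h2, smul_smul, inv_mul_cancel₀ hx, one_smul]

theorem mem_center_of_scalar {A : G} {b : F} (h : ∀ v : V, A • v = b • v) :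
    A ∈ Subgroup.center (Matrix.symplecticGroup (Fin m) F) :=
  Cfsg.Agent.LieClassical.SympSimple.mem_center_of_forall (fun v => ⟨b, h v⟩)

/-- Scalars of square one. -/
theorem exists_scal {b : F} (hb : b * b = 1) : ∃ A : G, ∀ v : V, A • v = b • v := by
  refine ⟨ofIso (b • LinearMap.id) (fun u v => ?_), fun v => ?_⟩
  · simp only [LinearMap.smul_apply, LinearMap.id_apply, sympForm_smul_left, sympForm_smul_right]
    rw [← mul_assoc, hb, one_mul]
  · rw [ofIso_smul]
    rfl

theorem mk_eq_mk_iff {A B : G} : (QuotientGroup.mk A : PSp m F) = QuotientGroup.mk B ↔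
    ∃ b : F, b * b = 1 ∧ ∀ v : V, B • v = b • (A • v) := by
  rw [QuotientGroup.eq]
  constructor
  · intro h
    obtain ⟨b, hb, hv⟩ := center_scalar h
    refine ⟨b, hb, fun v => ?_⟩
    have := hv v
    rw [mul_smul, inv_smul_eq_iff, smul_smul'] at this
    exact this
  · rintro ⟨b, hb, hv⟩
    apply mem_center_of_scalar (b := b)
    intro v
    rw [mul_smul, hv, smul_smul', inv_smul_smul]

/-! ### Transvections modulo the centre -/

theorem exists_perp_pair (hm : 2 ≤ m) (v w : V) : ∃ x : V, x ≠ 0 ∧ f v x = 0 ∧ f w x = 0 := by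
  have h : LinearMap.ker ((sympBilin m F v).prod (sympBilin m F w)) ≠ ⊥ := by
    apply LinearMap.ker_ne_bot_of_finrank_lt
    rw [Module.finrank_prod, Module.finrank_self, Module.finrank_pi, Fintype.card_sum,
      Fintype.card_fin]
    omega
  obtain ⟨x, hx, hx0⟩ := Submodule.exists_mem_ne_zero_of_ne_bot h
  rw [LinearMap.mem_ker, LinearMap.prod_apply] at hx
  exact ⟨x, hx0, congrArg Prod.fst hx, congrArg Prod.snd hx⟩

/-- Two transvections with the same image in `PSp` are equal up to the obvious rescaling. -/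
theorem mk_transv_eq (hm : 2 ≤ m) {v w : V} (hw : w ≠ 0) {c d : F} (hc : c ≠ 0)
    (h : (QuotientGroup.mk (transv w c) : PSp m F) = QuotientGroup.mk (transv v d)) :
    ∃ a : F, w = a • v ∧ a ^ 2 * c = d := by
  obtain ⟨b, hb, hv⟩ := mk_eq_mk_iff.1 h
  obtain ⟨x, hx0, hx1, hx2⟩ := exists_perp_pair hm v w
  have h1 := hv x
  rw [transv_smul, transv_smul, form_eq_zero_comm.1 hx1, form_eq_zero_comm.1 hx2] at h1
  simp only [mul_zero, zero_smul, add_zero] at h1
  have hb1 : b = 1 := by
    by_contra hb1
    have : (b - 1) • x = 0 := by rw [sub_smul, ← h1, one_smul, sub_self]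
    rcases smul_eq_zero.1 this with h2 | h2
    · exact hb1 (sub_eq_zero.1 h2)
    · exact hx0 h2
  subst hb1
  have h2 : ∀ x, (d * f x v) • v = (c * f x w) • w := by
    intro x
    have := hv x
    rw [transv_smul, transv_smul, one_smul, add_right_inj] at this
    exact this
  obtain ⟨y, hy⟩ : ∃ y, f y w ≠ 0 := by
    by_contra hcon
    push Not at hcon
    exact hw (eq_zero_of_forall_sympForm_left hcon)
  have h3 : w = ((c * f y w)⁻¹ * (d * f y v)) • v := by
    rw [mul_smul, h2, smul_smul, inv_mul_cancel₀ (mul_ne_zero hc hy), one_smul]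
  refine ⟨_, h3, ?_⟩
  set a := (c * f y w)⁻¹ * (d * f y v) with ha
  have hvy : f y w = a * f y v := by
    conv_lhs => rw [h3]
    rw [sympForm_smul_right]
  have h4 := h2 y
  rw [hvy, h3, smul_smul] at h4
  have hv0 : v ≠ 0 := by
    rintro rfl
    rw [smul_zero] at h3
    exact hw h3
  have h5 : (d * f y v - c * (a * f y v) * a) = 0 := by
    by_contra hne
    apply hv0
    have : (d * f y v - c * (a * f y v) * a) • v = 0 := by rw [sub_smul, h4, sub_self]
    rcases smul_eq_zero.1 this with h6 | h6
    · exact absurd h6 hne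
    · exact h6
  have h6 : f y v ≠ 0 := by
    intro h0
    rw [hvy, h0, mul_zero] at hy
    exact hy rfl
  have : (a ^ 2 * c - d) * f y v = 0 := by linear_combination -h5
  rcases mul_eq_zero.1 this with h7 | h7
  · exact sub_eq_zero.1 h7
  · exact absurd h7 h6

/-- If `z` commutes with a transvection modulo the centre then it fixes its direction. -/
theorem smul_eq_of_commute (hm : 2 ≤ m) {v : V} (hv : v ≠ 0) {c : F} (hc : c ≠ 0) {z : G}
    (h : (QuotientGroup.mk (transv v c) : PSp m F) * QuotientGroup.mk z =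
      QuotientGroup.mk z * QuotientGroup.mk (transv v c)) :
    ∃ a : F, a * a = 1 ∧ z • v = a • v := by
  have h1 : (QuotientGroup.mk (transv (z • v) c) : PSp m F) =
      QuotientGroup.mk (transv v c) := by
    rw [← conj_transv, QuotientGroup.mk_mul, QuotientGroup.mk_mul, ← h, QuotientGroup.mk_inv,
      mul_inv_cancel_right]
  obtain ⟨a, ha, hac⟩ := mk_transv_eq hm (smul_ne_zero' z hv) hc h1
  refine ⟨a, ?_, ha⟩
  rw [← pow_two]
  exact mul_right_cancel₀ hc (hac.trans (one_mul c).symm)

/-! ### Basis vectors and elements of the unipotent group -/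

/-- `e_i` -/
def E (F : Type*) [Field F] {m : ℕ} (i : Fin m) : Fin m ⊕ Fin m → F := Pi.single (Sum.inl i) 1

/-- `f_i` -/
def E' (F : Type*) [Field F] {m : ℕ} (i : Fin m) : Fin m ⊕ Fin m → F := Pi.single (Sum.inr i) 1

theorem form_E_left (i : Fin m) (v : V) : f (E F i) v = - v (Sum.inr i) :=
  sympForm_single_inl_left i v
theorem form_E_right (i : Fin m) (v : V) : f v (E F i) = v (Sum.inr i) :=
  sympForm_single_inl_right i v
theorem form_E'_left (i : Fin m) (v : V) : f (E' F i) v = v (Sum.inl i) :=
  sympForm_single_inr_left i v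
theorem form_E'_right (i : Fin m) (v : V) : f v (E' F i) = - v (Sum.inl i) :=
  sympForm_single_inr_right i v

theorem E_inl (i j : Fin m) : E F i (Sum.inl j) = if j = i then 1 else 0 := by
  rw [E, Pi.single_apply]
  simp only [Sum.inl.injEq]
theorem E_inr (i j : Fin m) : E F i (Sum.inr j) = 0 := by
  rw [E, Pi.single_apply, if_neg (by simp)]
theorem E'_inl (i j : Fin m) : E' F i (Sum.inl j) = 0 := by
  rw [E', Pi.single_apply, if_neg (by simp)]
theorem E'_inr (i j : Fin m) : E' F i (Sum.inr j) = if j = i then 1 else 0 := by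
  rw [E', Pi.single_apply]
  simp only [Sum.inr.injEq]

theorem E_ne_zero (i : Fin m) : E F i ≠ 0 := by
  intro h
  have := congrFun h (Sum.inl i)
  rw [E_inl, if_pos rfl] at this
  exact one_ne_zero this

theorem E'_ne_zero (i : Fin m) : E' F i ≠ 0 := by
  intro h
  have := congrFun h (Sum.inr i)
  rw [E'_inr, if_pos rfl] at this
  exact one_ne_zero this

theorem ext_basis {g h : G} (h1 : ∀ i : Fin m, g • E F i = h • E F i)
    (h2 : ∀ i : Fin m, g • E' F i = h • E' F i) :
    g = h := by
  apply Subtype.ext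
  ext a b
  have key : ∀ (x : G) (a b : Fin m ⊕ Fin m),
      (x : Matrix (Fin m ⊕ Fin m) (Fin m ⊕ Fin m) F) a b = (x • (Pi.single b 1 : V)) a := by
    intro x a b
    rw [smul_def, Matrix.mulVec_single_one]
    rfl
  rw [key, key]
  rcases b with i | i
  · exact congrFun (h1 i) a
  · exact congrFun (h2 i) a

theorem mem_unip_of_smul [Finite F] {g : G}
    (h : ∀ a b, (g • (Pi.single b 1 : V) - (Pi.single b 1 : V) : V) a ≠ 0 → ht m a < ht m b) :
    g ∈ unip m F := by
  rw [mem_unip]
  intro a b hab
  apply h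
  rw [Pi.sub_apply, smul_def, Matrix.mulVec_single_one]
  rw [Matrix.sub_apply, Matrix.one_apply] at hab
  rw [Pi.single_apply]
  exact hab

theorem transv_mem_unip [Finite F] {v : V} (hv : ∀ i, v (Sum.inr i) = 0) (c : F) :
    transv v c ∈ unip m F := by
  apply mem_unip_of_smul
  intro a b h
  rw [transv_smul, add_sub_cancel_left, Pi.smul_apply, smul_eq_mul] at h
  have h1 := right_ne_zero_of_mul h
  have h2 := right_ne_zero_of_mul (left_ne_zero_of_mul h)
  rcases a with i | i
  · rcases b with j | j
    · exfalso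
      apply h2
      rw [sympForm_single_inl_left, hv, neg_zero]
    · change (i : ℕ) < 2 * m - (j : ℕ)
      omega
  · exact absurd (hv i) h1

theorem siegel_mem_unip [Finite F] {i j : Fin m} (hij : i < j) :
    siegel (E F i) (E' F j) 0 ∈ unip m F := by
  have h0 : f (E F i) (E' F j) = 0 := by
    rw [form_E_left, E'_inr, if_neg hij.ne, neg_zero]
  apply mem_unip_of_smul
  intro a b h
  rw [siegel_smul h0, add_assoc, add_sub_cancel_left, zero_smul, add_zero, form_E'_left,
    form_E_left] at h
  rcases b with k | k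
  · have h1 : (Pi.single (Sum.inl k) 1 : V) (Sum.inr i) = 0 := E_inr k i
    rw [h1, neg_zero, zero_smul, add_zero, Pi.smul_apply, smul_eq_mul] at h
    have h2 := left_ne_zero_of_mul h
    have h3 := right_ne_zero_of_mul h
    have h2' : E F k (Sum.inl j) ≠ 0 := h2
    rw [E_inl] at h2'
    have hjk : j = k := by
      by_contra hne
      rw [if_neg hne] at h2'
      exact h2' rfl
    subst hjk
    rcases a with l | l
    · rw [E_inl] at h3
      have hli : l = i := by
        by_contra hne
        rw [if_neg hne] at h3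
        exact h3 rfl
      subst hli
      exact hij
    · exact absurd (E_inr i l) h3
  · have h1 : (Pi.single (Sum.inr k) 1 : V) (Sum.inl j) = 0 := E'_inl k j
    rw [h1, zero_smul, zero_add, Pi.smul_apply, smul_eq_mul] at h
    have h2 := left_ne_zero_of_mul h
    have h3 := right_ne_zero_of_mul h
    have h2' : E' F k (Sum.inr i) ≠ 0 := neg_ne_zero.1 h2
    rw [E'_inr] at h2'
    have hik : i = k := by
      by_contra hne
      rw [if_neg hne] at h2'
      exact h2' rfl
    subst hik
    rcases a with l | l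
    · exact absurd (E'_inl j l) h3
    · rw [E'_inr] at h3
      have hlj : l = j := by
        by_contra hne
        rw [if_neg hne] at h3
        exact h3 rfl
      subst hlj
      change 2 * m - (l : ℕ) < 2 * m - (i : ℕ)
      have : (i : ℕ) < (l : ℕ) := hij
      omega

end Cfsg.Agent.ClassicalGeometry.SympAutCentral
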