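import Cfsg.Agent.ClassicalGeometry.NonsplitTorus
import Cfsg.Agent.LieClassical.SmallIso
import Cfsg.Agent.Lib.Dihedral
set_option linter.all false

/-!
# The non-split torus of `PSL(2, q)` and its dihedral normaliser
-/

set_option autoImplicit false

namespace Cfsg.Agent.ClassicalGeometry.PSLTorus

open scoped MatrixGroups
open Cfsg.Agent.ClassicalGeometry.NonsplitTorus Cfsg.Agent.LieClassical.SmallIso

/-- The projection `SL(2, F) → PSL(2, F)`. -/
def pr (F : Type*) [Field F] :
    SL(2, F) →* Matrix.ProjectiveSpecialLinearGroup (Fin 2) F :=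
  QuotientGroup.mk' _

theorem pr_surjective (F : Type*) [Field F] : Function.Surjective (pr F) :=
  QuotientGroup.mk'_surjective _

theorem pr_eq_one_iff {F : Type*} [Field F] (g : SL(2, F)) : pr F g = 1 ↔ g = 1 ∨ g = -1 := by
  rw [← mem_center_sl_two_iff]
  exact QuotientGroup.eq_one_iff g

theorem pr_eq_iff {F : Type*} [Field F] (g h : SL(2, F)) : pr F g = pr F h ↔ g = h ∨ g = -h := by
  rw [← inv_mul_eq_one, ← map_inv, ← map_mul, pr_eq_one_iff, inv_mul_eq_one,
    inv_mul_eq_iff_eq_mul, mul_neg, mul_one, ← neg_eq_iff_eq_neg, eq_comm (a := -h)]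

theorem neg_one_ne_one {F : Type*} [Field F] (h2 : (2 : F) ≠ 0) : (-1 : SL(2, F)) ≠ 1 := by
  intro h
  have h1 := congrArg (fun g : SL(2, F) => (g : Matrix (Fin 2) (Fin 2) F) 0 0) h
  simp at h1
  apply h2
  linear_combination -h1

theorem neg_one_eq_one {F : Type*} [Field F] (h2 : (2 : F) = 0) : (-1 : SL(2, F)) = 1 := by
  apply Subtype.ext
  ext i j
  fin_cases i <;> fin_cases j <;> simp <;> linear_combination -h2

theorem two_ne_zero_iff_odd (F : Type*) [Field F] [Fintype F] :
    (2 : F) ≠ 0 ↔ Odd (Fintype.card F) := by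
  rw [← Nat.not_even_iff_odd, not_iff_not, even_iff_two_dvd]
  obtain ⟨p, hp⟩ := CharP.exists F
  obtain ⟨n, hp', hn⟩ := FiniteField.card F p
  rw [hn]
  constructor
  · intro h
    have h2 : ((2 : ℕ) : F) = 0 := by exact_mod_cast h
    have h3 := (CharP.cast_eq_zero_iff F p 2).mp h2
    rw [(Nat.prime_dvd_prime_iff_eq hp' Nat.prime_two).mp h3]
    exact dvd_pow_self 2 n.2.ne'
  · intro h
    have h3 := Nat.prime_two.dvd_of_dvd_pow h
    have h4 := (Nat.prime_dvd_prime_iff_eq Nat.prime_two hp').mp h3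
    have h5 := (CharP.cast_eq_zero_iff F p 2).mpr (by rw [h4])
    exact_mod_cast h5

/-- If `-1 ∈ ⟨a⟩` and `2 n` is the order of `a` (char not two) then `a ^ n = -1`. -/
theorem pow_half {F : Type*} [Field F] (h2 : (2 : F) ≠ 0) (a : SL(2, F)) (n : ℕ)
    (ha : orderOf a = 2 * n) (hneg : (-1 : SL(2, F)) ∈ Subgroup.zpowers a) : a ^ n = -1 := by
  obtain ⟨j, hj⟩ := hneg
  have hj : a ^ j = -1 := hj
  have h1 : a ^ (j * 2) = 1 := by
    rw [zpow_mul, hj]
    norm_cast
    simp
  have h3 := orderOf_dvd_iff_zpow_eq_one.mpr h1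
  rw [ha] at h3
  have h4 : (n : ℤ) ∣ j := by
    obtain ⟨c, hc⟩ := h3
    refine ⟨c, ?_⟩
    push_cast at hc
    linarith
  obtain ⟨i, rfl⟩ := h4
  rcases Int.even_or_odd i with ⟨c, rfl⟩ | ⟨c, rfl⟩
  · exfalso
    apply neg_one_ne_one h2
    rw [← hj]
    apply orderOf_dvd_iff_zpow_eq_one.mp
    rw [ha]
    exact ⟨c, by push_cast; ring⟩
  · have h5 : a ^ ((n : ℤ) * (2 * c + 1)) = a ^ n := by
      have : (n : ℤ) * (2 * c + 1) = (2 * n : ℕ) * c + n := by push_cast; ring
      rw [this, zpow_add, zpow_mul, zpow_natCast, ← ha, pow_orderOf_eq_one, one_zpow, one_mul,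
        zpow_natCast]
    rw [← h5, hj]

theorem orderOf_pr {F : Type*} [Field F] [Fintype F] (a : SL(2, F))
    (ha : orderOf a = Fintype.card F + 1)
    (hneg : (-1 : SL(2, F)) ∈ Subgroup.zpowers a) :
    orderOf (pr F a) = (Fintype.card F + 1) / Nat.gcd 2 (Fintype.card F - 1) := by
  have hq : 1 < Fintype.card F := Fintype.one_lt_card
  by_cases h2 : (2 : F) = 0
  · have hodd : ¬ Odd (Fintype.card F) := fun h => ((two_ne_zero_iff_odd F).mpr h) h2
    rw [Nat.not_odd_iff_even] at hodd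
    have hg : Nat.gcd 2 (Fintype.card F - 1) = 1 := by
      rw [← Nat.coprime_iff_gcd_eq_one, Nat.coprime_two_left, Nat.odd_iff]
      rw [Nat.even_iff] at hodd
      omega
    rw [hg, Nat.div_one, ← ha, orderOf_eq_orderOf_iff]
    intro k
    rw [← map_pow, pr_eq_one_iff, neg_one_eq_one h2, or_self]
  · have hodd : Odd (Fintype.card F) := (two_ne_zero_iff_odd F).mp h2
    have hodd' := Nat.odd_iff.mp hodd
    have hg : Nat.gcd 2 (Fintype.card F - 1) = 2 := by
      apply Nat.gcd_eq_left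
      omega
    rw [hg]
    obtain ⟨n, hn⟩ : ∃ n, Fintype.card F + 1 = 2 * n := ⟨(Fintype.card F + 1) / 2, by omega⟩
    rw [hn, Nat.mul_div_cancel_left _ (by norm_num)]
    rw [hn] at ha
    have hn0 : n ≠ 0 := by omega
    have hpow := pow_half h2 a n ha hneg
    apply Nat.dvd_antisymm
    · apply orderOf_dvd_of_pow_eq_one
      rw [← map_pow, pr_eq_one_iff, hpow]
      exact Or.inr rfl
    · have h1 : (pr F a) ^ (orderOf (pr F a)) = 1 := pow_orderOf_eq_one _
      rw [← map_pow, pr_eq_one_iff] at h1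
      rcases h1 with h1 | h1
      · have h3 := orderOf_dvd_of_pow_eq_one h1
        rw [ha] at h3
        exact dvd_trans (Dvd.intro_left 2 rfl) h3
      · have h4 : a ^ (orderOf (pr F a) + n) = 1 := by
          rw [pow_add, h1, hpow]
          simp
        have h3 := orderOf_dvd_of_pow_eq_one h4
        rw [ha] at h3
        have h5 : n ∣ orderOf (pr F a) + n := dvd_trans (Dvd.intro_left 2 rfl) h3
        exact (Nat.dvd_add_left (dvd_refl n)).mp h5

/-- The non-split torus `C` of `PSL(2, q)` and its dihedral normaliser `H`. -/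
theorem exists_psl_torus (F : Type*) [Field F] [Fintype F] :
    ∃ (C H : Subgroup (Matrix.ProjectiveSpecialLinearGroup (Fin 2) F)),
      C ≤ H ∧ C.relIndex H = 2 ∧ IsCyclic C ∧
      Nat.card C = (Fintype.card F + 1) / Nat.gcd 2 (Fintype.card F - 1) ∧
      Nonempty (H ≃* DihedralGroup ((Fintype.card F + 1) / Nat.gcd 2 (Fintype.card F - 1))) ∧
      ∀ g, g ∉ H → ∀ x ∈ C, g⁻¹ * x * g ∈ C → x = 1 := by
  obtain ⟨a, s, ha, hs, hsa, hneg, hcent, hTI⟩ := exists_torus_TI F
  have hq : 1 < Fintype.card F := Fintype.one_lt_card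
  have hord := orderOf_pr a ha hneg
  set n := (Fintype.card F + 1) / Nat.gcd 2 (Fintype.card F - 1) with hn
  have hn0 : n ≠ 0 := by
    rw [← hord]
    exact (orderOf_pos _).ne'
  have hss : pr F s * pr F s = 1 := by
    rw [← map_mul, hs, pr_eq_one_iff]
    exact Or.inr rfl
  have hsinv : (pr F s)⁻¹ = pr F s := inv_eq_of_mul_eq_one_left hss
  have hsr : pr F s * pr F a * pr F s = (pr F a)⁻¹ := by
    rw [← map_inv, ← hsa, map_mul, map_mul, map_inv, hsinv]
  have hsT : s ∉ Subgroup.zpowers a := by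
    intro h
    obtain ⟨k, hk⟩ := h
    have hk : a ^ k = s := hk
    have h1 : s⁻¹ * a * s = a := by
      rw [← hk, mul_assoc, ← zpow_one_add, add_comm, zpow_add, zpow_one, inv_mul_cancel_left]
    rw [h1] at hsa
    have h2 : a ^ 2 = 1 := by
      rw [pow_two]
      nth_rewrite 1 [hsa]
      exact inv_mul_cancel a
    have h3 := Nat.le_of_dvd (by norm_num) (orderOf_dvd_of_pow_eq_one h2)
    rw [ha] at h3
    omega
  have hmem : ∀ g : SL(2, F), pr F g ∈ Subgroup.zpowers (pr F a) → g ∈ Subgroup.zpowers a := by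
    rintro g ⟨k, hk⟩
    have hk : (pr F a) ^ k = pr F g := hk
    rw [← map_zpow] at hk
    rcases (pr_eq_iff _ _).mp hk.symm with h | h
    · rw [h]
      exact Subgroup.zpow_mem_zpowers a k
    · rw [h, ← neg_one_mul]
      exact mul_mem hneg (Subgroup.zpow_mem_zpowers a k)
  have hs' : pr F s ∉ Subgroup.zpowers (pr F a) := fun h => hsT (hmem s h)
  have hCH : Subgroup.zpowers (pr F a) ≤ Subgroup.closure {pr F a, pr F s} := by
    rw [Subgroup.zpowers_le]
    exact Subgroup.subset_closure (by simp)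
  have hcC : Nat.card (Subgroup.zpowers (pr F a)) = n := by rw [Nat.card_zpowers, hord]
  have hcH := Cfsg.Agent.Lib.Dihedral.card_closure (n := n) (pr F a) (pr F s) hord hss hsr hs'
  refine ⟨Subgroup.zpowers (pr F a), Subgroup.closure {pr F a, pr F s}, hCH, ?_, inferInstance,
    hcC, Cfsg.Agent.Lib.Dihedral.nonempty_mulEquiv_closure _ _ hord hss hsr hs', ?_⟩
  · have h1 := Subgroup.card_mul_index ((Subgroup.zpowers (pr F a)).subgroupOf
      (Subgroup.closure {pr F a, pr F s}))
    rw [Nat.card_congr (Subgroup.subgroupOfEquivOfLe hCH).toEquiv, hcC, hcH, mul_comm 2 n] at h1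
    exact Nat.eq_of_mul_eq_mul_left (Nat.pos_of_ne_zero hn0) h1
  · intro g hg x hx hgx
    obtain ⟨g, rfl⟩ := pr_surjective F g
    obtain ⟨k, rfl⟩ := hx
    change (pr F g)⁻¹ * (pr F a) ^ k * pr F g ∈ _ at hgx
    change (pr F a) ^ k = 1
    rw [← map_zpow, ← map_inv, ← map_mul, ← map_mul] at hgx
    rw [← map_zpow]
    by_contra hne
    rw [pr_eq_one_iff, not_or] at hne
    have h3 := hTI (a ^ k) (Subgroup.zpow_mem_zpowers a k) hne.1 hne.2 g (hmem _ hgx)
    have hT : ∀ t ∈ Subgroup.zpowers a, pr F t ∈ Subgroup.closure {pr F a, pr F s} := by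
      rintro t ⟨j, rfl⟩
      apply hCH
      change pr F (a ^ j) ∈ _
      rw [map_zpow]
      exact Subgroup.zpow_mem_zpowers _ j
    rcases h3 with ⟨h3, -⟩ | ⟨h3, -⟩
    · exact hg (hT _ h3)
    · apply hg
      have h4 : pr F g = pr F (g * s⁻¹) * pr F s := by
        rw [← map_mul, inv_mul_cancel_right]
      rw [h4]
      exact mul_mem (hT _ h3) (Subgroup.subset_closure (by simp))

end Cfsg.Agent.ClassicalGeometry.PSLTorus
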