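import Mathlib
import Cfsg.Prelude.Def_ClassicalGeometry
import Cfsg.Agent.ClassicalGeometry.Reflection
import Cfsg.Agent.ClassicalGeometry.CartanDieudonne
import Cfsg.Agent.ClassicalGeometry.SpinorSign
import Cfsg.Agent.ClassicalGeometry.Universal
set_option linter.all false

/-!
# Subgroups generated by one class of reflections

For a non-degenerate quadratic form over a finite field of odd order, the product of two reflections in
vectors of the same norm lies in the group generated by the reflections in vectors with norms in any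
given square class (dimension two, dimension at least five, or dimension at least three and at least
five scalars).
-/

set_option autoImplicit false
set_option linter.unusedSectionVars false

namespace Cfsg.Agent.ClassicalGeometry.ReflClass

open QuadraticMap Matrix Module
open Cfsg.Agent.ClassicalGeometry.Reflection Cfsg.Agent.ClassicalGeometry.CartanDieudonne

variable {ι : Type} [Fintype ι] [DecidableEq ι] {F : Type*} [Field F]

/-- Binary diagonal forms over finite fields of odd order are universal. -/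
theorem exists_diag_binary [Finite F] (h2 : (2 : F) ≠ 0) (a b c : F) (ha : a ≠ 0) (hb : b ≠ 0) :
    ∃ x y : F, a * x ^ 2 + b * y ^ 2 = c := by
  have := Fintype.ofFinite F
  have hcard : Fintype.card F % 2 = 1 := by
    refine FiniteField.odd_card_of_char_ne_two ?_
    intro h
    have := ringChar.of_eq h
    exact h2 (CharTwo.two_eq_zero)
  obtain ⟨x, y, hxy⟩ := FiniteField.exists_root_sum_quadratic (R := F)
    (f := Polynomial.C a * Polynomial.X ^ 2 + Polynomial.C 0 * Polynomial.X + Polynomial.C (-c))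
    (g := Polynomial.C b * Polynomial.X ^ 2 + Polynomial.C 0 * Polynomial.X + Polynomial.C 0)
    (Polynomial.degree_quadratic ha) (Polynomial.degree_quadratic hb) hcard
  refine ⟨x, y, ?_⟩
  simp only [Polynomial.eval_add, Polynomial.eval_mul, Polynomial.eval_C, Polynomial.eval_pow,
    Polynomial.eval_X] at hxy
  linear_combination hxy

/-- Binary forms `d x² + m x y + e y²` with `m² ≠ 4 d e` and `d ≠ 0` are universal. -/
theorem exists_binary [Finite F] (h2 : (2 : F) ≠ 0) (d m e c : F) (hd : d ≠ 0)
    (h : m ^ 2 ≠ 4 * d * e) : ∃ x y : F, d * x ^ 2 + m * x * y + e * y ^ 2 = c := by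
  have h4 : (4 : F) ≠ 0 := by
    have : (4 : F) = 2 * 2 := by norm_num
    rw [this]
    exact mul_ne_zero h2 h2
  have hb : e - m ^ 2 / (4 * d) ≠ 0 := by
    intro h0
    apply h
    field_simp at h0
    linear_combination -h0
  obtain ⟨x, y, hxy⟩ := exists_diag_binary h2 d (e - m ^ 2 / (4 * d)) c hd hb
  refine ⟨x - m * y / (2 * d), y, ?_⟩
  rw [← hxy]
  field_simp
  ring

/-- `Q (α v + β w)`. -/
theorem map_comb (Q : QuadraticForm F (ι → F)) (v w : ι → F) (α β : F) :
    Q (α • v + β • w) = α ^ 2 * Q v + β ^ 2 * Q w + α * β * polar (⇑Q) v w := by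
  rw [map_add', QuadraticMap.map_smul, QuadraticMap.map_smul, QuadraticMap.polar_smul_left,
    QuadraticMap.polar_smul_right]
  simp only [smul_eq_mul]
  ring

/-- The norm of the product `v w a` (in the Clifford algebra) of coplanar vectors. -/
theorem map_triple (Q : QuadraticForm F (ι → F)) (v w : ι → F) (α β : F) :
    Q ((α * polar (⇑Q) v w + β * Q w) • v + (-(α * Q v)) • w)
      = Q v * Q w * Q (α • v + β • w) := by
  rw [map_comb, map_comb]
  ring

/-- A product of three reflections in coplanar vectors is a reflection. -/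
theorem triple_reflection (Q : QuadraticForm F (ι → F)) (v w : ι → F) (hv : Q v ≠ 0)
    (hw : Q w ≠ 0) (α β : F) (ha : Q (α • v + β • w) ≠ 0)
    (hb : Q ((α * polar (⇑Q) v w + β * Q w) • v + (-(α * Q v)) • w) ≠ 0) :
    reflIso Q v hv * reflIso Q w hw * reflIso Q (α • v + β • w) ha
      = reflIso Q ((α * polar (⇑Q) v w + β * Q w) • v + (-(α * Q v)) • w) hb := by
  apply isometryGroup_ext
  intro x
  rw [coe_mul_mulVec, coe_mul_mulVec, coe_reflIso, coe_reflIso, coe_reflIso, coe_reflIso,
    reflectionMatrix_mulVec, reflectionMatrix_mulVec, reflectionMatrix_mulVec,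
    reflectionMatrix_mulVec, map_triple]
  set A := Q (α • v + β • w) with hA
  have hA' : A = α ^ 2 * Q v + β ^ 2 * Q w + α * β * polar (⇑Q) v w := map_comb Q v w α β
  simp only [QuadraticMap.polar_add_left, QuadraticMap.polar_smul_left,
    QuadraticMap.polar_add_right, QuadraticMap.polar_smul_right, QuadraticMap.polar_sub_right,
    QuadraticMap.polar_self, smul_eq_mul, nsmul_eq_mul, polar_comm (⇑Q) w v]
  set m := polar (⇑Q) v w with hm
  set p := polar (⇑Q) v x with hp
  set r := polar (⇑Q) w x with hr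
  set a := Q v with ha'
  set b := Q w with hb'
  have ha0 : A ≠ 0 := ha
  clear_value A m p r a b
  match_scalars
  · ring
  · field_simp
    rw [hA']
    ring
  · field_simp
    rw [hA']
    ring

/-- The set of reflections with norm in the square class of `c`. -/
def reflSet (Q : QuadraticForm F (ι → F)) (c : F) : Set (Cfsg.isometryGroup F (⇑Q)) :=
  {g | ∃ (v : ι → F) (t : F), t ≠ 0 ∧ Q v = c * t ^ 2 ∧
    ((g : Matrix.GeneralLinearGroup ι F) : Matrix ι ι F) = Cfsg.reflectionMatrix (⇑Q) v}

/-- The group generated by the reflections with norm in the square class of `c`. -/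
def reflClass (Q : QuadraticForm F (ι → F)) (c : F) : Subgroup (Cfsg.isometryGroup F (⇑Q)) :=
  Subgroup.closure (reflSet Q c)

theorem reflIso_mem (Q : QuadraticForm F (ι → F)) (c : F) (v : ι → F) (hv : Q v ≠ 0) (t : F)
    (ht : t ≠ 0) (h : Q v = c * t ^ 2) : reflIso Q v hv ∈ reflClass Q c :=
  Subgroup.subset_closure ⟨v, t, ht, h, rfl⟩

/-- If `v, w` have the same norm and span a non-degenerate plane, then `r_v r_w` is a product of two
reflections with norms in any prescribed square class. -/
theorem mul_mem_of_nondeg [Finite F] (h2 : (2 : F) ≠ 0) (Q : QuadraticForm F (ι → F)) (c : F)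
    (hc : c ≠ 0) (v w : ι → F) (hv : Q v ≠ 0) (hw : Q w ≠ 0) (hvw : Q v = Q w)
    (h : (polar (⇑Q) v w) ^ 2 ≠ 4 * Q v * Q v) :
    reflIso Q v hv * reflIso Q w hw ∈ reflClass Q c := by
  obtain ⟨α, β, hαβ⟩ := exists_binary h2 (Q v) (polar (⇑Q) v w) (Q v) c hv h
  have ha : Q (α • v + β • w) = c := by
    rw [map_comb, ← hvw, ← hαβ]; ring
  have hb : Q ((α * polar (⇑Q) v w + β * Q w) • v + (-(α * Q v)) • w) = c * (Q v) ^ 2 := by
    rw [map_triple, ha, ← hvw]; ring
  have ha0 : Q (α • v + β • w) ≠ 0 := by rw [ha]; exact hc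
  have hb0 : Q ((α * polar (⇑Q) v w + β * Q w) • v + (-(α * Q v)) • w) ≠ 0 := by
    rw [hb]; exact mul_ne_zero hc (pow_ne_zero _ hv)
  have key := triple_reflection Q v w hv hw α β ha0 hb0
  have h3 : reflIso Q v hv * reflIso Q w hw
      = reflIso Q ((α * polar (⇑Q) v w + β * Q w) • v + (-(α * Q v)) • w) hb0
        * reflIso Q (α • v + β • w) ha0 := by
    rw [← key, mul_assoc _ (reflIso Q (α • v + β • w) ha0), reflIso_mul_self, mul_one]
  rw [h3]
  refine Subgroup.mul_mem _ (reflIso_mem Q c _ hb0 (Q v) hv hb)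
    (reflIso_mem Q c _ ha0 1 one_ne_zero (by rw [ha]; ring))

theorem reflIso_smul (Q : QuadraticForm F (ι → F)) (v : ι → F) (hv : Q v ≠ 0) (t : F)
    (ht : t ≠ 0) (htv : Q (t • v) ≠ 0) : reflIso Q (t • v) htv = reflIso Q v hv := by
  apply isometryGroup_ext
  intro x
  rw [coe_reflIso, coe_reflIso, reflectionMatrix_mulVec, reflectionMatrix_mulVec,
    QuadraticMap.map_smul, QuadraticMap.polar_smul_left, smul_smul]
  congr 2
  simp only [smul_eq_mul]
  field_simp

/-- Existence of a vector of non-zero norm orthogonal to a proper subspace that has orthogonal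
projections. -/
theorem exists_perp_ne_zero (Q : QuadraticForm F (ι → F)) (hQ : (polarBilin Q).Nondegenerate)
    (U : Submodule F (ι → F)) (hU : finrank F U < Fintype.card ι)
    (hproj : ∀ x : ι → F, ∃ u ∈ U, ∀ y ∈ U, polar (⇑Q) (x - u) y = 0) :
    ∃ e : ι → F, (∀ y ∈ U, polar (⇑Q) e y = 0) ∧ Q e ≠ 0 := by
  by_contra hcon
  push Not at hcon
  have hne : U ≠ ⊤ := by
    rintro rfl
    rw [finrank_top, finrank_fintype_fun_eq_card] at hU
    exact lt_irrefl _ hU
  obtain ⟨x, hx⟩ : ∃ x, x ∉ U := by
    by_contra h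
    push Not at h
    exact hne (eq_top_iff.2 fun x _ => h x)
  obtain ⟨u, huU, hu⟩ := hproj x
  set e := x - u with he
  have he0 : e ≠ 0 := by
    intro h
    apply hx
    have : x = u := sub_eq_zero.1 h
    rwa [this]
  have : ∃ y, polar (⇑Q) e y ≠ 0 := by
    by_contra h
    push Not at h
    exact he0 (hQ.1 e fun y => h y)
  obtain ⟨y, hy⟩ := this
  obtain ⟨u', hu'U, hu'⟩ := hproj y
  have h1 : polar (⇑Q) e (y - u') = polar (⇑Q) e y := by
    rw [QuadraticMap.polar_sub_right, hu u' hu'U, sub_zero]
  have h3 : ∀ z ∈ U, polar (⇑Q) (e + (y - u')) z = 0 := by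
    intro z hz
    rw [QuadraticMap.polar_add_left, hu z hz, hu' z hz, add_zero]
  have h4 := hcon _ h3
  rw [map_add', hcon _ hu, hcon _ hu', h1] at h4
  apply hy
  simpa using h4

/-- A singular vector `s` orthogonal to the non-singular `v` has a hyperbolic partner orthogonal to
`v`. -/
theorem exists_partner (h2 : (2 : F) ≠ 0) (Q : QuadraticForm F (ι → F))
    (hQ : (polarBilin Q).Nondegenerate) (v s : ι → F) (hv : Q v ≠ 0) (hs : Q s = 0)
    (hvs : polar (⇑Q) v s = 0) (hs0 : s ≠ 0) :
    ∃ t : ι → F, Q t = 0 ∧ polar (⇑Q) s t = 1 ∧ polar (⇑Q) v t = 0 := by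
  have : ∃ y, polar (⇑Q) s y ≠ 0 := by
    by_contra h
    push Not at h
    exact hs0 (hQ.1 s fun y => h y)
  obtain ⟨y, hy⟩ := this
  obtain ⟨t₁, h1⟩ : ∃ t₁, polar (⇑Q) s t₁ = 1 :=
    ⟨(polar (⇑Q) s y)⁻¹ • y, by
      rw [QuadraticMap.polar_smul_right, smul_eq_mul, inv_mul_cancel₀ hy]⟩
  have hsv : polar (⇑Q) s v = 0 := by rw [polar_comm]; exact hvs
  obtain ⟨t₂, ht₂⟩ : ∃ t₂, t₂ = t₁ - (polar (⇑Q) v t₁ / (2 * Q v)) • v := ⟨_, rfl⟩
  have h3 : polar (⇑Q) s t₂ = 1 := by
    rw [ht₂, QuadraticMap.polar_sub_right, QuadraticMap.polar_smul_right, hsv, h1]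
    simp
  have h4 : polar (⇑Q) v t₂ = 0 := by
    rw [ht₂, QuadraticMap.polar_sub_right, QuadraticMap.polar_smul_right, polar_self',
      smul_eq_mul]
    field_simp
    ring
  refine ⟨t₂ - Q t₂ • s, ?_, ?_, ?_⟩
  · rw [sub_eq_add_neg, ← neg_smul, map_add', QuadraticMap.map_smul,
      QuadraticMap.polar_smul_right, polar_comm (⇑Q) t₂ s, h3, hs]
    simp
  · rw [QuadraticMap.polar_sub_right, QuadraticMap.polar_smul_right, polar_self', hs, h3]
    simp
  · rw [QuadraticMap.polar_sub_right, QuadraticMap.polar_smul_right, hvs, h4]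
    simp

/-- The hypothesis on dimension and field under which one class of reflections generates a subgroup
containing all products `r_v r_w`, `Q v = Q w`. -/
def Good (ι : Type) [Fintype ι] (F : Type*) : Prop :=
  3 < Nat.card F ∨ 5 ≤ Fintype.card ι ∨ Fintype.card ι = 2

/-- Two vectors of equal norm spanning a degenerate plane are both non-degenerate with a third vector
of the same norm. -/
theorem exists_connect [Finite F] (h2 : (2 : F) ≠ 0) (Q : QuadraticForm F (ι → F))
    (hQ : (polarBilin Q).Nondegenerate) (hgood : Good ι F) (v s : ι → F) (hv : Q v ≠ 0)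
    (hs : Q s = 0) (hvs : polar (⇑Q) v s = 0) (hs0 : s ≠ 0) :
    ∃ z : ι → F, Q z = Q v ∧ polar (⇑Q) v z = 0 ∧ (polar (⇑Q) s z) ^ 2 ≠ 4 * Q v * Q v := by
  obtain ⟨t, ht, hst, hvt⟩ := exists_partner h2 Q hQ v s hv hs hvs hs0
  have h4 : (4 : F) ≠ 0 := by
    have : (4 : F) = 2 * 2 := by norm_num
    rw [this]
    exact mul_ne_zero h2 h2
  have hts : polar (⇑Q) t s = 1 := by rw [polar_comm]; exact hst
  have hsv : polar (⇑Q) s v = 0 := by rw [polar_comm]; exact hvs
  have htv : polar (⇑Q) t v = 0 := by rw [polar_comm]; exact hvt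
  have hss : polar (⇑Q) s s = 0 := by rw [polar_self', hs, mul_zero]
  have htt : polar (⇑Q) t t = 0 := by rw [polar_self', ht, mul_zero]
  have hproj : ∀ x : ι → F, ∃ c₁ c₂ c₃ : F,
      polar (⇑Q) (x - (c₁ • v + c₂ • s + c₃ • t)) v = 0 ∧
      polar (⇑Q) (x - (c₁ • v + c₂ • s + c₃ • t)) s = 0 ∧
      polar (⇑Q) (x - (c₁ • v + c₂ • s + c₃ • t)) t = 0 := by
    intro x
    refine ⟨polar (⇑Q) x v / (2 * Q v), polar (⇑Q) x t, polar (⇑Q) x s, ?_, ?_, ?_⟩
    · simp only [QuadraticMap.polar_sub_left, QuadraticMap.polar_add_left,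
        QuadraticMap.polar_smul_left, polar_self', hsv, htv, smul_eq_mul]
      field_simp
      ring
    · simp only [QuadraticMap.polar_sub_left, QuadraticMap.polar_add_left,
        QuadraticMap.polar_smul_left, hvs, hts, hss, smul_eq_mul]
      ring
    · simp only [QuadraticMap.polar_sub_left, QuadraticMap.polar_add_left,
        QuadraticMap.polar_smul_left, hvt, hst, htt, smul_eq_mul]
      ring
  have hspan : ∀ e : ι → F, polar (⇑Q) e v = 0 → polar (⇑Q) e s = 0 → polar (⇑Q) e t = 0 →
      ∀ y ∈ Submodule.span F (Set.range ![v, s, t]), polar (⇑Q) e y = 0 := by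
    intro e h1 h3 h5 y hy
    induction hy using Submodule.span_induction with
    | mem y hy =>
      obtain ⟨i, rfl⟩ := hy
      fin_cases i
      · exact h1
      · exact h3
      · exact h5
    | zero => exact QuadraticMap.polar_zero_right _ _
    | add a b _ _ ha hb => rw [QuadraticMap.polar_add_right, ha, hb, add_zero]
    | smul a b _ hb => rw [QuadraticMap.polar_smul_right, hb, smul_zero]
  have hmemv : v ∈ Submodule.span F (Set.range ![v, s, t]) := Submodule.subset_span ⟨0, rfl⟩
  have hmems : s ∈ Submodule.span F (Set.range ![v, s, t]) := Submodule.subset_span ⟨1, rfl⟩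
  have hmemt : t ∈ Submodule.span F (Set.range ![v, s, t]) := Submodule.subset_span ⟨2, rfl⟩
  rcases hgood with hF | hn | hn
  · -- more than three scalars
    obtain ⟨γ, hγ⟩ : ∃ γ : F, γ ∉ ({0, 2 * Q v, -(2 * Q v)} : Set F) := by
      by_contra h
      push Not at h
      have h5 : (Set.univ : Set F) ⊆ {0, 2 * Q v, -(2 * Q v)} := fun x _ => h x
      have h6 := Set.ncard_le_ncard h5 (Set.toFinite _)
      rw [Set.ncard_univ] at h6
      have h7 : ({0, 2 * Q v, -(2 * Q v)} : Set F).ncard ≤ 3 := by
        refine (Set.ncard_insert_le _ _).trans ?_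
        have := Set.ncard_insert_le (2 * Q v) ({-(2 * Q v)} : Set F)
        rw [Set.ncard_singleton] at this
        omega
      omega
    simp only [Set.mem_insert_iff, Set.mem_singleton_iff, not_or] at hγ
    obtain ⟨hγ0, hγ1, hγ2⟩ := hγ
    refine ⟨(Q v / γ) • s + γ • t, ?_, ?_, ?_⟩
    · rw [map_comb, hs, ht, hst]
      field_simp
      ring
    · rw [QuadraticMap.polar_add_right, QuadraticMap.polar_smul_right,
        QuadraticMap.polar_smul_right, hvs, hvt]
      simp
    · rw [QuadraticMap.polar_add_right, QuadraticMap.polar_smul_right,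
        QuadraticMap.polar_smul_right, hss, hst]
      intro h
      have h5 : (γ - 2 * Q v) * (γ + 2 * Q v) = 0 := by
        simp only [smul_eq_mul] at h
        linear_combination h
      rcases mul_eq_zero.1 h5 with h5 | h5
      · exact hγ1 (sub_eq_zero.1 h5)
      · exact hγ2 (eq_neg_of_add_eq_zero_left h5)
  · -- dimension at least five
    obtain ⟨e, he, he0⟩ := exists_perp_ne_zero Q hQ (Submodule.span F (Set.range ![v, s, t])) (by
      have := finrank_range_le_card (R := F) ![v, s, t]
      simp only [Set.finrank, Fintype.card_fin] at this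
      omega) (by
      intro x
      obtain ⟨c₁, c₂, c₃, h1, h3, h5⟩ := hproj x
      refine ⟨c₁ • v + c₂ • s + c₃ • t, ?_, hspan _ h1 h3 h5⟩
      exact Submodule.add_mem _ (Submodule.add_mem _ (Submodule.smul_mem _ _ hmemv)
        (Submodule.smul_mem _ _ hmems)) (Submodule.smul_mem _ _ hmemt))
    have hspan' : ∀ x : ι → F, polar (⇑Q) x v = 0 → polar (⇑Q) x s = 0 → polar (⇑Q) x t = 0 →
        polar (⇑Q) x e = 0 →
        ∀ y ∈ Submodule.span F (Set.range ![v, s, t, e]), polar (⇑Q) x y = 0 := by
      intro x h1 h3 h5 h6 y hy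
      induction hy using Submodule.span_induction with
      | mem y hy =>
        obtain ⟨i, rfl⟩ := hy
        fin_cases i
        · exact h1
        · exact h3
        · exact h5
        · exact h6
      | zero => exact QuadraticMap.polar_zero_right _ _
      | add a b _ _ ha hb => rw [QuadraticMap.polar_add_right, ha, hb, add_zero]
      | smul a b _ hb => rw [QuadraticMap.polar_smul_right, hb, smul_zero]
    obtain ⟨f, hf, hf0⟩ := exists_perp_ne_zero Q hQ (Submodule.span F (Set.range ![v, s, t, e])) (by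
      have := finrank_range_le_card (R := F) ![v, s, t, e]
      simp only [Set.finrank, Fintype.card_fin] at this
      omega) (by
      intro x
      obtain ⟨c₁, c₂, c₃, h1, h3, h5⟩ := hproj x
      refine ⟨(c₁ • v + c₂ • s + c₃ • t) + (polar (⇑Q) x e / (2 * Q e)) • e, ?_, ?_⟩
      · refine Submodule.add_mem _ (Submodule.add_mem _ (Submodule.add_mem _
          (Submodule.smul_mem _ _ ?_) (Submodule.smul_mem _ _ ?_)) (Submodule.smul_mem _ _ ?_))
          (Submodule.smul_mem _ _ ?_)
        · exact Submodule.subset_span ⟨0, rfl⟩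
        · exact Submodule.subset_span ⟨1, rfl⟩
        · exact Submodule.subset_span ⟨2, rfl⟩
        · exact Submodule.subset_span ⟨3, rfl⟩
      · have hev := he v hmemv
        have hes := he s hmems
        have het := he t hmemt
        have hve : polar (⇑Q) v e = 0 := by rw [polar_comm]; exact hev
        have hse : polar (⇑Q) s e = 0 := by rw [polar_comm]; exact hes
        have hte : polar (⇑Q) t e = 0 := by rw [polar_comm]; exact het
        rw [← sub_sub]
        apply hspan'
        · rw [QuadraticMap.polar_sub_left, h1, QuadraticMap.polar_smul_left, hev]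
          simp
        · rw [QuadraticMap.polar_sub_left, h3, QuadraticMap.polar_smul_left, hes]
          simp
        · rw [QuadraticMap.polar_sub_left, h5, QuadraticMap.polar_smul_left, het]
          simp
        · simp only [QuadraticMap.polar_sub_left, QuadraticMap.polar_add_left,
            QuadraticMap.polar_smul_left, hve, hse, hte, polar_self', smul_eq_mul]
          field_simp
          ring)
    obtain ⟨x, y, hxy⟩ := exists_diag_binary h2 (Q e) (Q f) (Q v) he0 hf0
    have hfe : polar (⇑Q) e f = 0 := by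
      rw [polar_comm]; exact hf e (Submodule.subset_span ⟨3, rfl⟩)
    have hve : polar (⇑Q) v e = 0 := by rw [polar_comm]; exact he v hmemv
    have hse : polar (⇑Q) s e = 0 := by rw [polar_comm]; exact he s hmems
    have hvf : polar (⇑Q) v f = 0 := by
      rw [polar_comm]; exact hf v (Submodule.subset_span ⟨0, rfl⟩)
    have hsf : polar (⇑Q) s f = 0 := by
      rw [polar_comm]; exact hf s (Submodule.subset_span ⟨1, rfl⟩)
    refine ⟨x • e + y • f, ?_, ?_, ?_⟩
    · rw [map_comb, hfe, ← hxy]
      ring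
    · rw [QuadraticMap.polar_add_right, QuadraticMap.polar_smul_right,
        QuadraticMap.polar_smul_right, hve, hvf]
      simp
    · rw [QuadraticMap.polar_add_right, QuadraticMap.polar_smul_right,
        QuadraticMap.polar_smul_right, hse, hsf]
      simp only [smul_zero, add_zero]
      have : (4 : F) * Q v * Q v ≠ 0 := mul_ne_zero (mul_ne_zero h4 hv) hv
      intro h
      apply this
      rw [← h]
      ring
  · -- dimension two
    exfalso
    have hli : LinearIndependent F ![v, s, t] := by
      rw [Fintype.linearIndependent_iff]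
      intro g hg
      simp only [Fin.sum_univ_three, Matrix.cons_val_zero, Matrix.cons_val_one,
        Matrix.cons_val] at hg
      have e1 : polar (⇑Q) v (g 0 • v + g 1 • s + g 2 • t) = 0 := by
        rw [hg]; exact QuadraticMap.polar_zero_right _ _
      have e2 : polar (⇑Q) s (g 0 • v + g 1 • s + g 2 • t) = 0 := by
        rw [hg]; exact QuadraticMap.polar_zero_right _ _
      have e3 : polar (⇑Q) t (g 0 • v + g 1 • s + g 2 • t) = 0 := by
        rw [hg]; exact QuadraticMap.polar_zero_right _ _
      simp only [QuadraticMap.polar_add_right, QuadraticMap.polar_smul_right, smul_eq_mul, hvs,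
        hvt, hsv, hst, htv, hts, hss, htt, mul_zero, add_zero, zero_add, mul_one,
        polar_self', mul_eq_zero, hv, h2, or_false] at e1 e2 e3
      intro i
      fin_cases i
      · exact e1
      · exact e3
      · exact e2
    have := hli.fintype_card_le_finrank
    rw [finrank_fintype_fun_eq_card, hn, Fintype.card_fin] at this
    omega

/-- Products `r_v r_w` with `Q v = Q w` lie in the group generated by any class of reflections. -/
theorem mul_mem_of_good [Finite F] (h2 : (2 : F) ≠ 0) (Q : QuadraticForm F (ι → F))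
    (hQ : (polarBilin Q).Nondegenerate) (hgood : Good ι F) (c : F) (hc : c ≠ 0) (v w : ι → F)
    (hv : Q v ≠ 0) (hw : Q w ≠ 0) (hvw : Q v = Q w) :
    reflIso Q v hv * reflIso Q w hw ∈ reflClass Q c := by
  have h4 : (4 : F) ≠ 0 := by
    have : (4 : F) = 2 * 2 := by norm_num
    rw [this]
    exact mul_ne_zero h2 h2
  by_cases h : (polar (⇑Q) v w) ^ 2 = 4 * Q v * Q v
  swap
  · exact mul_mem_of_nondeg h2 Q c hc v w hv hw hvw h
  -- `w = ε v + s`
  obtain ⟨ε, hε, hB⟩ : ∃ ε : F, ε ^ 2 = 1 ∧ polar (⇑Q) v w = 2 * Q v * ε := by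
    have h5 : (polar (⇑Q) v w - 2 * Q v) * (polar (⇑Q) v w + 2 * Q v) = 0 := by
      linear_combination h
    rcases mul_eq_zero.1 h5 with h5 | h5
    · exact ⟨1, by ring, by linear_combination h5⟩
    · exact ⟨-1, by ring, by linear_combination h5⟩
  have hε0 : ε ≠ 0 := by
    rintro rfl
    simp at hε
  obtain ⟨s, hs⟩ : ∃ s, w = ε • v + s := ⟨w - ε • v, by abel⟩
  have hvs : polar (⇑Q) v s = 0 := by
    rw [hs, QuadraticMap.polar_add_right, QuadraticMap.polar_smul_right, polar_self',
      smul_eq_mul] at hB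
    linear_combination hB
  have hsQ : Q s = 0 := by
    rw [hs, map_add', QuadraticMap.polar_smul_left, hvs, QuadraticMap.map_smul] at hvw
    simp only [smul_eq_mul] at hvw
    linear_combination -hvw - Q v * hε
  by_cases hs0 : s = 0
  · subst hs0
    rw [add_zero] at hs
    subst hs
    rw [reflIso_smul Q v hv ε hε0 hw, reflIso_mul_self]
    exact Subgroup.one_mem _
  · obtain ⟨z, hz, hvz, hsz⟩ := exists_connect h2 Q hQ hgood v s hv hsQ hvs hs0
    have hz0 : Q z ≠ 0 := by rw [hz]; exact hv
    have h1 : reflIso Q v hv * reflIso Q z hz0 ∈ reflClass Q c := by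
      apply mul_mem_of_nondeg h2 Q c hc v z hv hz0 hz.symm
      rw [hvz]
      intro h0
      exact mul_ne_zero (mul_ne_zero h4 hv) hv (by rw [← h0]; ring)
    have h3 : reflIso Q z hz0 * reflIso Q w hw ∈ reflClass Q c := by
      apply mul_mem_of_nondeg h2 Q c hc z w hz0 hw (hz.trans hvw)
      rw [hs, polar_comm, QuadraticMap.polar_add_left, QuadraticMap.polar_smul_left, hvz,
        smul_zero, zero_add, hz]
      exact hsz
    have h5 := Subgroup.mul_mem _ h1 h3
    have h6 : reflIso Q v hv * reflIso Q z hz0 * (reflIso Q z hz0 * reflIso Q w hw)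
        = reflIso Q v hv * reflIso Q w hw := by
      rw [mul_assoc, ← mul_assoc (reflIso Q z hz0) (reflIso Q z hz0), reflIso_mul_self, one_mul]
    rwa [h6] at h5

/-- A vector of given non-zero norm (dimension at least two, finite field of odd order). -/
theorem exists_norm_eq [Finite F] (h2 : (2 : F) ≠ 0) (Q : QuadraticForm F (ι → F))
    (hQ : (polarBilin Q).Nondegenerate) (hn : 2 ≤ Fintype.card ι) (c : F) : ∃ v, Q v = c := by
  obtain ⟨b, hb1, hb2⟩ := exists_orthogonal_basis h2 Q hQ
  have hf : finrank F (ι → F) = Fintype.card ι := finrank_fintype_fun_eq_card F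
  set i : Fin (finrank F (ι → F)) := ⟨0, by omega⟩
  set j : Fin (finrank F (ι → F)) := ⟨1, by omega⟩
  have hij : i ≠ j := by
    intro h
    have := congrArg Fin.val h
    simp [i, j] at this
  obtain ⟨x, y, hxy⟩ := exists_diag_binary h2 (Q (b i)) (Q (b j)) c (hb1 i) (hb1 j)
  refine ⟨x • b i + y • b j, ?_⟩
  rw [map_comb, hb2 i j hij, ← hxy]
  ring

/-- In a finite field of odd order every nonzero element is `c t²` or `c δ t²` for a non-square `δ`. -/
theorem exists_sq_or [Finite F] (h2 : (2 : F) ≠ 0) (c d δ : F) (hδ : ¬ IsSquare δ) (hd : d ≠ 0)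
    (hc : c ≠ 0) : (∃ t : F, t ≠ 0 ∧ d = c * t ^ 2) ∨ ∃ t : F, t ≠ 0 ∧ d = c * δ * t ^ 2 := by
  have hδ0 : δ ≠ 0 := by
    rintro rfl
    exact hδ (IsSquare.zero)
  by_cases h : IsSquare (d / c)
  · left
    obtain ⟨t, ht⟩ := h
    refine ⟨t, ?_, ?_⟩
    · rintro rfl
      rw [mul_zero, div_eq_zero_iff] at ht
      tauto
    · have : d = c * (d / c) := by field_simp
      rw [this, ht]
      ring
  · right
    obtain ⟨t, ht⟩ := Universal.isSquare_mul_of_not h2 h hδ
    refine ⟨t / δ, ?_, ?_⟩
    · intro h0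
      rw [div_eq_zero_iff] at h0
      rcases h0 with rfl | h0
      · rw [mul_zero, mul_eq_zero, div_eq_zero_iff] at ht
        tauto
      · exact hδ0 h0
    · have : d = c * (d / c * δ) / δ := by field_simp
      rw [this, ht]
      field_simp

/-- The reflections with norm in the square class of `c` generate a subgroup of index two. -/
theorem reflClass_index [Finite F] (h2 : (2 : F) ≠ 0) (Q : QuadraticForm F (ι → F))
    (hQ : (polarBilin Q).Nondegenerate) (hn : 2 ≤ Fintype.card ι) (hgood : Good ι F) (c : F)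
    (hc : c ≠ 0) : (reflClass Q c).index = 2 := by
  classical
  obtain ⟨δ, hδ⟩ := FiniteField.exists_nonsquare (Universal.ringChar_ne_two h2)
  have hδ0 : δ ≠ 0 := by
    rintro rfl
    exact hδ (IsSquare.zero)
  obtain ⟨v₀, hv₀⟩ := exists_norm_eq h2 Q hQ hn (c * δ)
  have hcδ : c * δ ≠ 0 := mul_ne_zero hc hδ0
  have hv₀0 : Q v₀ ≠ 0 := by rw [hv₀]; exact hcδ
  set r := reflIso Q v₀ hv₀0 with hr
  -- the lower bound
  have hle : reflClass Q c ≤ (SpinorSign.spinorSign (⇑Q) (c * δ)).ker := by
    rw [reflClass, Subgroup.closure_le]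
    rintro g ⟨v, t, ht, hv, hg⟩
    have hv0 : Q v ≠ 0 := by
      rw [hv]; exact mul_ne_zero hc (pow_ne_zero _ ht)
    have hgr : g = reflIso Q v hv0 := eq_reflIso Q g v hv0 hg
    rw [SetLike.mem_coe, MonoidHom.mem_ker, hgr, SpinorSign.spinorSign_reflIso h2 Q hcδ v hv0,
      if_neg]
    rintro ⟨s, hs⟩
    apply hδ
    refine ⟨s / (c * t), ?_⟩
    rw [hv] at hs
    field_simp
    linear_combination hs
  have hr1 : SpinorSign.spinorSign (⇑Q) (c * δ) r = -1 := by
    rw [hr, SpinorSign.spinorSign_reflIso h2 Q hcδ v₀ hv₀0, if_pos]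
    rw [hv₀]
    exact ⟨c * δ, rfl⟩
  have hrn : r ∉ reflClass Q c := by
    intro h
    have := hle h
    rw [MonoidHom.mem_ker, hr1] at this
    exact absurd this (by decide)
  -- the upper bound
  have hconj : ∀ (v : ι → F) (hv : Q v ≠ 0) (t : F), t ≠ 0 → Q v = c * t ^ 2 →
      r * reflIso Q v hv * r⁻¹ ∈ reflClass Q c := by
    intro v hv t ht hvt
    have h1 : Q (((r : Matrix.GeneralLinearGroup ι F) : Matrix ι ι F) *ᵥ v) = Q v :=
      (mem_isometryGroup_iff _ _).1 r.2 v
    have h3 : Q (((r : Matrix.GeneralLinearGroup ι F) : Matrix ι ι F) *ᵥ v) ≠ 0 := by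
      rw [h1]; exact hv
    rw [conj_reflIso Q v hv r h3]
    exact reflIso_mem Q c _ h3 t ht (by rw [h1, hvt])
  have hrr : r * r = 1 := reflIso_mul_self Q v₀ hv₀0
  have hrinv : r⁻¹ = r := reflIso_inv Q v₀ hv₀0
  have key : ∀ g : Cfsg.isometryGroup F (⇑Q), g ∈ reflClass Q c ∨ r * g ∈ reflClass Q c := by
    apply isometry_induction h2 Q hQ
    · left; exact Subgroup.one_mem _
    · intro v hv g hg
      rcases exists_sq_or h2 c (Q v) δ hδ hv hc with ⟨t, ht, hvt⟩ | ⟨t, ht, hvt⟩
      · have hmem := reflIso_mem Q c v hv t ht hvt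
        rcases hg with hg | hg
        · left; exact Subgroup.mul_mem _ hmem hg
        · right
          have h3 := Subgroup.mul_mem _ (hconj v hv t ht hvt) hg
          have h4 : r * reflIso Q v hv * r⁻¹ * (r * g) = r * (reflIso Q v hv * g) := by group
          rwa [h4] at h3
      · -- `r_v = r_{v/t}`, `Q (v / t) = c δ`
        have ht' : Q (t⁻¹ • v) = c * δ := by
          rw [QuadraticMap.map_smul, hvt, smul_eq_mul]
          field_simp
        have ht0 : Q (t⁻¹ • v) ≠ 0 := by rw [ht']; exact hcδ
        have h3 : reflIso Q v hv = reflIso Q (t⁻¹ • v) ht0 :=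
          (reflIso_smul Q v hv t⁻¹ (inv_ne_zero ht) ht0).symm
        rw [h3]
        have h4 : r * reflIso Q (t⁻¹ • v) ht0 ∈ reflClass Q c :=
          mul_mem_of_good h2 Q hQ hgood c hc _ _ hv₀0 ht0 (hv₀.trans ht'.symm)
        have h5 : reflIso Q (t⁻¹ • v) ht0 * r ∈ reflClass Q c :=
          mul_mem_of_good h2 Q hQ hgood c hc _ _ ht0 hv₀0 (ht'.trans hv₀.symm)
        rcases hg with hg | hg
        · right
          rw [← mul_assoc]
          exact Subgroup.mul_mem _ h4 hg
        · left
          have h6 := Subgroup.mul_mem _ h5 hg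
          have h7 : reflIso Q (t⁻¹ • v) ht0 * r * (r * g) = reflIso Q (t⁻¹ • v) ht0 * g := by
            rw [mul_assoc, ← mul_assoc r r, hrr, one_mul]
          rwa [h7] at h6
  rw [Subgroup.index_eq_two_iff]
  refine ⟨r, fun g => ?_⟩
  rcases key g⁻¹ with h | h
  · right
    refine ⟨(Subgroup.inv_mem_iff _).1 h, fun h3 => hrn ?_⟩
    have h4 := Subgroup.mul_mem _ h h3
    rwa [inv_mul_cancel_left] at h4
  · left
    have h3 : g * r ∈ reflClass Q c := by
      have h4 := Subgroup.inv_mem _ h
      rwa [_root_.mul_inv_rev, inv_inv, hrinv] at h4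
    refine ⟨h3, fun h4 => hrn ?_⟩
    have h5 := Subgroup.mul_mem _ (Subgroup.inv_mem _ h4) h3
    rwa [inv_mul_cancel_left] at h5

end Cfsg.Agent.ClassicalGeometry.ReflClass
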