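import Mathlib
set_option linter.all false

/-!
# The non-split torus of `SL(2, q)`

`F` is a finite field with `q` elements.  We build `a s : SL(2, F)` with `a` of order `q + 1`,
`s * s = -1`, `s⁻¹ * a * s = a⁻¹`, such that any `g` with `g⁻¹ t g ∈ ⟨a⟩` for some non-central
`t ∈ ⟨a⟩` lies in `⟨a⟩ ∪ ⟨a⟩ s`.
-/

set_option autoImplicit false

namespace Cfsg.Agent.ClassicalGeometry.NonsplitTorus

open scoped MatrixGroups

/-- The commutant of a non-scalar 2 × 2 matrix. -/
theorem commutant {F : Type*} [Field F] (M N : Matrix (Fin 2) (Fin 2) F)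
    (hM : ∀ c : F, M ≠ c • (1 : Matrix (Fin 2) (Fin 2) F)) (h : M * N = N * M) :
    ∃ α β : F, N = α • (1 : Matrix (Fin 2) (Fin 2) F) + β • M := by
  have e00 := congrFun (congrFun h 0) 0
  have e01 := congrFun (congrFun h 0) 1
  have e10 := congrFun (congrFun h 1) 0
  simp only [Matrix.mul_apply, Fin.sum_univ_two] at e00 e01 e10
  have ext' : ∀ α β : F, N 0 0 = α + β * M 0 0 → N 0 1 = β * M 0 1 → N 1 0 = β * M 1 0 →
      N 1 1 = α + β * M 1 1 → ∃ α β : F, N = α • (1 : Matrix (Fin 2) (Fin 2) F) + β • M := by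
    intro α β h1 h2 h3 h4
    refine ⟨α, β, ?_⟩
    ext i j
    fin_cases i <;> fin_cases j <;> simp [h1, h2, h3, h4]
  by_cases hb : M 0 1 = 0
  · by_cases hc : M 1 0 = 0
    · by_cases had : M 0 0 = M 1 1
      · exfalso
        apply hM (M 0 0)
        ext i j
        fin_cases i <;> fin_cases j <;> simp [hb, hc, had]
      · have had' : M 0 0 - M 1 1 ≠ 0 := sub_ne_zero.2 had
        apply ext' (N 0 0 - (N 0 0 - N 1 1) / (M 0 0 - M 1 1) * M 0 0)
          ((N 0 0 - N 1 1) / (M 0 0 - M 1 1))
        · ring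
        · rw [hb, mul_zero]
          have : (M 0 0 - M 1 1) * N 0 1 = 0 := by rw [hb] at e01; linear_combination e01
          exact (mul_eq_zero.1 this).resolve_left had'
        · rw [hc, mul_zero]
          have : (M 0 0 - M 1 1) * N 1 0 = 0 := by rw [hc] at e10; linear_combination -e10
          exact (mul_eq_zero.1 this).resolve_left had'
        · field_simp
          ring
    · apply ext' (N 0 0 - (N 1 0) / (M 1 0) * M 0 0) ((N 1 0) / (M 1 0))
      · ring
      · field_simp
        linear_combination (-e00)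
      · field_simp
      · field_simp
        linear_combination (-e10)
  · apply ext' (N 0 0 - (N 0 1) / (M 0 1) * M 0 0) ((N 0 1) / (M 0 1))
    · ring
    · field_simp
    · field_simp
      linear_combination (e00)
    · field_simp
      linear_combination (e01)

/-- Cayley-Hamilton for 2 × 2 matrices. -/
theorem mul_self_eq {F : Type*} [CommRing F] (z : Matrix (Fin 2) (Fin 2) F) :
    z * z = z.trace • z - z.det • (1 : Matrix (Fin 2) (Fin 2) F) := by
  ext i j
  fin_cases i <;> fin_cases j <;>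
    simp [Matrix.mul_apply, Fin.sum_univ_two, Matrix.trace_fin_two, Matrix.det_fin_two] <;> ring

section Ext

variable {F E : Type*} [Field F] [Fintype F] [Field E] [Algebra F E] [Finite E]

theorem card_E (hE : Module.finrank F E = 2) : Nat.card E = Fintype.card F ^ 2 := by
  rw [Module.natCard_eq_pow_finrank (K := F) (V := E), hE, Nat.card_eq_fintype_card]

theorem algebraMap_norm (hE : Module.finrank F E = 2) (x : E) :
    algebraMap F E (Algebra.norm F x) = x ^ (Fintype.card F + 1) := by
  rw [FiniteField.algebraMap_norm_eq_pow, card_E hE, Nat.card_eq_fintype_card]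
  congr 1
  have h1 : 1 < Fintype.card F := Fintype.one_lt_card
  obtain ⟨k, hk⟩ : ∃ k, Fintype.card F = k + 2 := ⟨Fintype.card F - 2, by omega⟩
  rw [hk]
  have : (k + 2) ^ 2 - 1 = (k + 2 + 1) * (k + 2 - 1) := by
    have h3 : k + 2 - 1 = k + 1 := by omega
    rw [h3]
    apply Nat.sub_eq_of_eq_add
    ring
  rw [this]
  exact Nat.mul_div_cancel _ (by omega)

/-- A generator of the group of elements of norm one. -/
theorem exists_norm_one_generator (hE : Module.finrank F E = 2) :
    ∃ u : Eˣ, orderOf u = Fintype.card F + 1 ∧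
      ∀ x : Eˣ, x ^ (Fintype.card F + 1) = 1 → x ∈ Subgroup.zpowers u := by
  obtain ⟨ζ, hζ⟩ := IsCyclic.exists_generator (α := Eˣ)
  have hq : 1 < Fintype.card F := Fintype.one_lt_card
  obtain ⟨m, hm⟩ : ∃ m, Fintype.card F = m + 2 := ⟨Fintype.card F - 2, by omega⟩
  have ho : orderOf ζ = (m + 1) * (m + 2 + 1) := by
    rw [orderOf_eq_card_of_forall_mem_zpowers hζ, Nat.card_units, card_E hE, hm]
    apply Nat.sub_eq_of_eq_add
    ring
  rw [hm]
  refine ⟨ζ ^ (m + 1), ?_, ?_⟩
  · rw [orderOf_pow_of_dvd (by omega) (by rw [ho]; exact Dvd.intro _ rfl), ho]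
    exact Nat.mul_div_cancel_left _ (by omega)
  · intro x hx
    obtain ⟨k, hk⟩ := hζ x
    have hk : ζ ^ k = x := hk
    rw [← hk, ← zpow_natCast, ← zpow_mul] at hx
    have h1 := orderOf_dvd_iff_zpow_eq_one.mpr hx
    rw [ho] at h1
    have h2 : ((m + 1 : ℕ) : ℤ) ∣ k := by
      push_cast at h1 ⊢
      exact Int.dvd_of_mul_dvd_mul_right (by positivity) h1
    obtain ⟨j, hj⟩ := h2
    refine ⟨j, ?_⟩
    change (ζ ^ (m + 1)) ^ j = x
    rw [← hk, hj, ← zpow_natCast, ← _root_.zpow_mul]

/-- The Frobenius map of a quadratic extension has determinant `-1`. -/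
theorem exists_frobenius_matrix (hE : Module.finrank F E = 2)
    (b : Module.Basis (Fin 2) F E) :
    ∃ S : Matrix (Fin 2) (Fin 2) F, S * S = 1 ∧ S.det = -1 ∧
      ∀ x : E, S * Algebra.leftMulMatrix b x = Algebra.leftMulMatrix b (x ^ Fintype.card F) * S := by
  have hfin : FiniteDimensional F E := Module.finite_of_finrank_pos (by rw [hE]; norm_num)
  set σ := FiniteField.frobeniusAlgEquivOfAlgebraic F E with hσ
  have hσx : ∀ x : E, σ x = x ^ Fintype.card F := fun x => rfl
  have hsq : ∀ x : E, σ (σ x) = x := by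
    intro x
    rw [hσx, hσx, ← pow_mul, ← pow_two, ← card_E hE]
    have := Fintype.ofFinite E
    rw [Nat.card_eq_fintype_card]
    exact FiniteField.pow_card x
  set S : Matrix (Fin 2) (Fin 2) F := LinearMap.toMatrix b b σ.toLinearMap with hS
  have hSS : S * S = 1 := by
    rw [hS, ← LinearMap.toMatrix_comp b b b, ← LinearMap.toMatrix_id b]
    congr 1
    apply LinearMap.ext
    intro x
    exact hsq x
  have hcomm : ∀ x : E, S * Algebra.leftMulMatrix b x =
      Algebra.leftMulMatrix b (x ^ Fintype.card F) * S := by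
    intro x
    rw [Algebra.leftMulMatrix_apply, Algebra.leftMulMatrix_apply, hS,
      ← LinearMap.toMatrix_comp b b b, ← LinearMap.toMatrix_comp b b b]
    congr 1
    apply LinearMap.ext
    intro y
    change σ (x * y) = x ^ Fintype.card F * σ y
    rw [map_mul, hσx x]
  have hscal : ∀ c : F, S ≠ c • (1 : Matrix (Fin 2) (Fin 2) F) := by
    intro c hc
    have h1 : σ.toLinearMap = c • (LinearMap.id : E →ₗ[F] E) := by
      apply (LinearMap.toMatrix b b).injective
      rw [map_smul, LinearMap.toMatrix_id]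
      exact hc
    have h2 : ∀ x : E, σ x = c • x := fun x => by
      have := congrArg (fun f : E →ₗ[F] E => f x) h1
      simpa using this
    have hc1 : (c • (1 : E)) = 1 := by
      rw [← h2 1, map_one]
    have h3 : ∀ x : E, x ^ Fintype.card F = x := by
      intro x
      rw [← hσx x, h2 x]
      calc c • x = (c • (1 : E)) * x := by rw [smul_mul_assoc, one_mul]
        _ = x := by rw [hc1, one_mul]
    obtain ⟨ζ, hζ⟩ := IsCyclic.exists_generator (α := Eˣ)
    have hq : 1 < Fintype.card F := Fintype.one_lt_card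
    obtain ⟨m, hm⟩ : ∃ m, Fintype.card F = m + 2 := ⟨Fintype.card F - 2, by omega⟩
    have ho : orderOf ζ = (m + 1) * (m + 2 + 1) := by
      rw [orderOf_eq_card_of_forall_mem_zpowers hζ, Nat.card_units, card_E hE, hm]
      apply Nat.sub_eq_of_eq_add
      ring
    have h4 : ζ ^ (m + 1) = 1 := by
      have h5 : ζ ^ (m + 2) = ζ := by
        apply Units.ext
        rw [Units.val_pow_eq_pow_val, ← hm]
        exact h3 ζ
      have h6 : ζ ^ (m + 1) * ζ = 1 * ζ := by
        rw [← pow_succ, one_mul]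
        exact h5
      exact mul_right_cancel h6
    have h7 := orderOf_dvd_of_pow_eq_one h4
    rw [ho] at h7
    have h8 := Nat.le_of_dvd (by omega) h7
    nlinarith
  refine ⟨S, hSS, ?_, hcomm⟩
  have hCH := mul_self_eq S
  rw [hSS] at hCH
  have e00 := congrFun (congrFun hCH 0) 0
  have e01 := congrFun (congrFun hCH 0) 1
  have e10 := congrFun (congrFun hCH 1) 0
  have e11 := congrFun (congrFun hCH 1) 1
  simp only [Matrix.one_apply, Matrix.sub_apply, Matrix.smul_apply, smul_eq_mul] at e00 e01 e10 e11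
  simp only [if_true, Fin.isValue, zero_ne_one, one_ne_zero, if_false, mul_zero, mul_one,
    sub_zero] at e00 e01 e10 e11
  by_cases htr : S.trace = 0
  · rw [htr] at e00
    linear_combination e00
  · exfalso
    have h01 : S 0 1 = 0 := (mul_eq_zero.1 e01.symm).resolve_left htr
    have h10 : S 1 0 = 0 := (mul_eq_zero.1 e10.symm).resolve_left htr
    have h11 : S 0 0 = S 1 1 := by
      have : S.trace * (S 0 0 - S 1 1) = 0 := by linear_combination e11 - e00
      exact sub_eq_zero.1 ((mul_eq_zero.1 this).resolve_left htr)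
    apply hscal (S 0 0)
    ext i j
    fin_cases i <;> fin_cases j <;> simp [h01, h10, ← h11]

end Ext

section Main

/-- An element of `SL(2, F)` that is a scalar matrix is `1` or `-1`. -/
theorem eq_one_or_of_smul {F : Type*} [Field F] (t : SL(2, F)) (c : F)
    (h : (t : Matrix (Fin 2) (Fin 2) F) = c • (1 : Matrix (Fin 2) (Fin 2) F)) :
    t = 1 ∨ t = -1 := by
  have h1 : c * c = 1 := by
    have := t.2
    rw [h, Matrix.det_smul] at this
    simpa [pow_two] using this
  rcases mul_self_eq_one_iff.mp h1 with rfl | rfl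
  · left
    apply Subtype.ext
    rw [h]
    simp
  · right
    apply Subtype.ext
    rw [h]
    simp

variable {F : Type*} [Field F] [Fintype F]

/-- The non-split torus of `SL(2, F)` and an element inverting it.  The last three items say that
the torus is the set of elements of `SL(2, F)` in the subalgebra `K`, that it has trivial
intersection with its conjugates (up to the centre), and that `K` is a field. -/
theorem exists_torus :
    ∃ (a s : SL(2, F)) (K : Subalgebra F (Matrix (Fin 2) (Fin 2) F)),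
      orderOf a = Fintype.card F + 1 ∧ s * s = -1 ∧ s⁻¹ * a * s = a⁻¹ ∧
      (-1 : SL(2, F)) ∈ Subgroup.zpowers a ∧
      (∀ g : SL(2, F), g ∈ Subgroup.zpowers a ↔ (g : Matrix (Fin 2) (Fin 2) F) ∈ K) ∧
      (∀ x ∈ K, x ≠ 0 → IsUnit x) ∧ (∀ x ∈ K, ∀ y ∈ K, x * y = y * x) := by
  obtain ⟨p, hp⟩ := CharP.exists F
  obtain ⟨n, hp', hn⟩ := FiniteField.card F p
  have : Fact p.Prime := ⟨hp'⟩
  set E := FiniteField.Extension F p 2 with hEdef
  have hE : Module.finrank F E = 2 := FiniteField.finrank_extension F p 2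
  have b : Module.Basis (Fin 2) F E := Module.finBasisOfFinrankEq F E hE
  set L := Algebra.leftMulMatrix b with hL
  have hLinj : Function.Injective L := Algebra.leftMulMatrix_injective b
  have hdet : ∀ x : E, (L x).det = Algebra.norm F x := fun x =>
    (Algebra.norm_eq_matrix_det b x).symm
  obtain ⟨u, hu, hu'⟩ := exists_norm_one_generator (F := F) (E := E) hE
  have hnorm1 : ∀ x : E, Algebra.norm F x = 1 ↔ x ^ (Fintype.card F + 1) = 1 := by
    intro x
    rw [← algebraMap_norm hE x, ← (algebraMap F E).map_one,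
      (algebraMap F E).injective.eq_iff]
  have hnu : ∀ k : ℕ, Algebra.norm F ((u : E) ^ k) = 1 := by
    intro k
    rw [hnorm1, ← pow_mul, mul_comm, pow_mul]
    have : (u : E) ^ (Fintype.card F + 1) = 1 := by
      rw [← Units.val_pow_eq_pow_val, ← hu, pow_orderOf_eq_one]
      rfl
    rw [this, one_pow]
  obtain ⟨S, hSS, hSdet, hScomm⟩ := exists_frobenius_matrix hE b
  rw [← hL] at hScomm
  obtain ⟨y, hy⟩ := FiniteField.norm_surjective F E (-1)
  have hy' : y ^ (Fintype.card F + 1) = -1 := by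
    rw [← algebraMap_norm hE y, hy, map_neg, map_one]
  set a : SL(2, F) := ⟨L (u : E), by rw [hdet]; simpa using hnu 1⟩ with ha
  set s : SL(2, F) := ⟨L y * S, by rw [Matrix.det_mul, hdet, hy, hSdet]; ring⟩ with hs
  have hak : ∀ k : ℕ, ((a ^ k : SL(2, F)) : Matrix (Fin 2) (Fin 2) F) = L ((u : E) ^ k) := by
    intro k
    rw [Matrix.SpecialLinearGroup.coe_pow, map_pow]
  have hmemT : ∀ g : SL(2, F), g ∈ Subgroup.zpowers a ↔
      (g : Matrix (Fin 2) (Fin 2) F) ∈ L.range := by
    intro g
    constructor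
    · intro hg
      rw [← mem_powers_iff_mem_zpowers] at hg
      obtain ⟨k, rfl⟩ := hg
      exact ⟨(u : E) ^ k, (hak k).symm⟩
    · rintro ⟨x, hx⟩
      have hx : L x = (g : Matrix (Fin 2) (Fin 2) F) := hx
      have hx1 : Algebra.norm F x = 1 := by
        rw [← hdet, hx]
        exact g.2
      have hx0 : x ≠ 0 := by
        rintro rfl
        rw [Algebra.norm_zero] at hx1
        exact zero_ne_one hx1
      have hx2 : (Units.mk0 x hx0) ^ (Fintype.card F + 1) = 1 := by
        apply Units.ext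
        rw [Units.val_pow_eq_pow_val]
        exact (hnorm1 x).mp hx1
      have hx3 := hu' _ hx2
      rw [← mem_powers_iff_mem_zpowers] at hx3
      obtain ⟨k, hk⟩ := hx3
      have hk' : (u : E) ^ k = x := by
        have := congrArg (Units.val) hk
        simpa using this
      rw [← mem_powers_iff_mem_zpowers]
      refine ⟨k, ?_⟩
      apply Subtype.ext
      rw [← hx, ← hk']
      exact hak k
  refine ⟨a, s, L.range, ?_, ?_, ?_, ?_, hmemT, ?_, ?_⟩
  · rw [← hu, orderOf_eq_orderOf_iff]
    intro k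
    constructor
    · intro h
      apply Units.ext
      rw [Units.val_pow_eq_pow_val]
      apply hLinj
      rw [← hak k, h]
      simp
    · intro h
      apply Subtype.ext
      change ((a ^ k : SL(2, F)) : Matrix (Fin 2) (Fin 2) F) = 1
      rw [hak k, ← Units.val_pow_eq_pow_val, h]
      simp
  · apply Subtype.ext
    rw [Matrix.SpecialLinearGroup.coe_mul]
    change L y * S * (L y * S) = _
    calc L y * S * (L y * S) = L y * (S * L y) * S := by simp only [mul_assoc]
      _ = L y * L (y ^ Fintype.card F) * (S * S) := by rw [hScomm y]; simp only [mul_assoc]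
      _ = L (y ^ (Fintype.card F + 1)) := by rw [hSS, mul_one, ← map_mul, pow_succ']
      _ = _ := by rw [hy']; simp
  · rw [mul_assoc, inv_mul_eq_iff_eq_mul]
    apply Subtype.ext
    rw [Matrix.SpecialLinearGroup.coe_mul, Matrix.SpecialLinearGroup.coe_mul]
    have hainv : (a⁻¹ : SL(2, F)) = a ^ Fintype.card F := by
      rw [inv_eq_iff_mul_eq_one, ← pow_succ']
      apply Subtype.ext
      rw [hak]
      have : (u : E) ^ (Fintype.card F + 1) = 1 := by
        rw [← Units.val_pow_eq_pow_val, ← hu, pow_orderOf_eq_one]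
        rfl
      rw [this]
      simp
    rw [hainv, hak]
    change L (u : E) * (L y * S) = L y * S * L ((u : E) ^ Fintype.card F)
    rw [mul_assoc (L y) S, hScomm]
    have : ((u : E) ^ Fintype.card F) ^ Fintype.card F = (u : E) := by
      rw [← pow_mul, ← pow_two, ← card_E hE]
      have := Fintype.ofFinite E
      rw [Nat.card_eq_fintype_card]
      exact FiniteField.pow_card _
    rw [this, ← mul_assoc, ← mul_assoc, ← map_mul, ← map_mul, mul_comm]
  · rw [hmemT]
    refine ⟨-1, ?_⟩
    change L (-1) = _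
    simp
  · rintro x ⟨z, rfl⟩ hx
    change L z ≠ 0 at hx
    have hz : z ≠ 0 := by
      rintro rfl
      exact hx (map_zero L)
    exact (IsUnit.mk0 z hz).map L
  · rintro x ⟨z, rfl⟩ x' ⟨z', rfl⟩
    change L z * L z' = L z' * L z
    rw [← map_mul, ← map_mul, mul_comm]

/-- The non-split torus of `SL(2, F)`: generator `a` of order `q + 1`, `s` inverting `a` with
`s² = -1`, and the trivial intersection property. -/
theorem exists_torus_TI (F : Type*) [Field F] [Fintype F] :
    ∃ (a s : SL(2, F)),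
      orderOf a = Fintype.card F + 1 ∧ s * s = -1 ∧ s⁻¹ * a * s = a⁻¹ ∧
      (-1 : SL(2, F)) ∈ Subgroup.zpowers a ∧
      (∀ t ∈ Subgroup.zpowers a, t ≠ 1 → t ≠ -1 → ∀ g : SL(2, F), t * g = g * t →
        g ∈ Subgroup.zpowers a) ∧
      (∀ t ∈ Subgroup.zpowers a, t ≠ 1 → t ≠ -1 → ∀ g : SL(2, F),
        g⁻¹ * t * g ∈ Subgroup.zpowers a →
          (g ∈ Subgroup.zpowers a ∧ g⁻¹ * t * g = t) ∨
          (g * s⁻¹ ∈ Subgroup.zpowers a ∧ g⁻¹ * t * g = t⁻¹)) := by
  obtain ⟨a, s, K, ha, hs, hsa, hneg, hT, hunit, hcomm⟩ := exists_torus (F := F)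
  have hcent : ∀ t ∈ Subgroup.zpowers a, t ≠ 1 → t ≠ -1 → ∀ g : SL(2, F), t * g = g * t →
        g ∈ Subgroup.zpowers a := by
    intro t ht h1 h2 g hg
    have hg' : (t : Matrix (Fin 2) (Fin 2) F) * (g : Matrix (Fin 2) (Fin 2) F) =
        (g : Matrix (Fin 2) (Fin 2) F) * (t : Matrix (Fin 2) (Fin 2) F) := by
      have := congrArg (Subtype.val) hg
      simpa using this
    obtain ⟨α, β, hαβ⟩ := commutant _ _ (fun c hc => by
      rcases eq_one_or_of_smul t c hc with h | h
      · exact h1 h
      · exact h2 h) hg'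
    rw [hT, hαβ]
    have htK := (hT t).mp ht
    exact K.add_mem (K.smul_mem K.one_mem α) (K.smul_mem htK β)
  refine ⟨a, s, ha, hs, hsa, hneg, hcent, ?_⟩
  intro t ht h1 h2 g hg
  have htK := (hT t).mp ht
  have htK' := (hT _).mp hg
  set t' := g⁻¹ * t * g with ht'
  have htr : (t' : Matrix (Fin 2) (Fin 2) F).trace = (t : Matrix (Fin 2) (Fin 2) F).trace := by
    rw [ht', Matrix.SpecialLinearGroup.coe_mul, Matrix.SpecialLinearGroup.coe_mul,
      Matrix.trace_mul_comm, ← mul_assoc, ← Matrix.SpecialLinearGroup.coe_mul,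
      mul_inv_cancel, Matrix.SpecialLinearGroup.coe_one, one_mul]
  have hCH := mul_self_eq (t : Matrix (Fin 2) (Fin 2) F)
  have hCH' := mul_self_eq (t' : Matrix (Fin 2) (Fin 2) F)
  rw [t.2, one_smul] at hCH
  rw [t'.2, one_smul, htr] at hCH'
  set τ := (t : Matrix (Fin 2) (Fin 2) F).trace with hτ
  have hprod : ((t' : Matrix (Fin 2) (Fin 2) F) - (t : Matrix (Fin 2) (Fin 2) F)) *
      ((t' : Matrix (Fin 2) (Fin 2) F) + (t : Matrix (Fin 2) (Fin 2) F) - τ • 1) = 0 := by
    have hc := hcomm _ htK' _ htK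
    have e1 : ((t' : Matrix (Fin 2) (Fin 2) F) - (t : Matrix (Fin 2) (Fin 2) F)) *
      ((t' : Matrix (Fin 2) (Fin 2) F) + (t : Matrix (Fin 2) (Fin 2) F) - τ • 1) =
      (t' : Matrix (Fin 2) (Fin 2) F) * t' - τ • (t' : Matrix (Fin 2) (Fin 2) F) -
      ((t : Matrix (Fin 2) (Fin 2) F) * t - τ • (t : Matrix (Fin 2) (Fin 2) F)) +
      ((t' : Matrix (Fin 2) (Fin 2) F) * t - t * t') := by
      simp only [sub_mul, mul_sub, mul_add, mul_smul_comm, mul_one, smul_sub]
      abel
    rw [e1, hCH, hCH', hc]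
    abel
  by_cases hx : (t' : Matrix (Fin 2) (Fin 2) F) - (t : Matrix (Fin 2) (Fin 2) F) = 0
  · left
    have htt : t' = t := Subtype.ext (sub_eq_zero.mp hx)
    refine ⟨?_, htt⟩
    apply hcent t ht h1 h2
    rw [ht', mul_assoc, inv_mul_eq_iff_eq_mul] at htt
    exact htt
  · right
    have hu := hunit _ (K.sub_mem htK' htK) hx
    have hy := (hu.mul_right_eq_zero).mp hprod
    have htt : t' = t⁻¹ := by
      rw [eq_inv_iff_mul_eq_one]
      apply Subtype.ext
      rw [Matrix.SpecialLinearGroup.coe_mul, Matrix.SpecialLinearGroup.coe_one]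
      have e2 : (t' : Matrix (Fin 2) (Fin 2) F) = τ • 1 - (t : Matrix (Fin 2) (Fin 2) F) := by
        rw [eq_sub_iff_add_eq]
        exact sub_eq_zero.mp hy
      rw [e2, sub_mul, hCH]
      simp
    refine ⟨?_, htt⟩
    apply hcent t ht h1 h2
    have hst : s⁻¹ * t * s = t⁻¹ := by
      obtain ⟨k, rfl⟩ := ht
      change s⁻¹ * a ^ k * s = (a ^ k)⁻¹
      have h5 := conj_zpow (i := k) (a := s⁻¹) (b := a)
      rw [inv_inv] at h5
      rw [← h5, hsa, inv_zpow]
    -- `g⁻¹ t g = t⁻¹ = s⁻¹ t s`
    have h6 : g⁻¹ * t * g = s⁻¹ * t * s := by rw [hst, ← htt]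
    have h7 : t * g = g * s⁻¹ * t * s := by
      have := congrArg (fun z => g * z) h6
      simpa [mul_assoc] using this
    calc t * (g * s⁻¹) = (t * g) * s⁻¹ := by rw [mul_assoc]
      _ = g * s⁻¹ * t * s * s⁻¹ := by rw [h7]
      _ = g * s⁻¹ * t := by rw [mul_assoc _ s, mul_inv_cancel, mul_one]

end Main

end Cfsg.Agent.ClassicalGeometry.NonsplitTorus
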