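import Mathlib
import Cfsg.Prelude.Def_ClassicalGeometry
import Cfsg.Agent.ClassicalGeometry.SympBasic
import Cfsg.Agent.S0752
set_option linter.all false

/-!
Any non-degenerate alternating form on a space of dimension `2k` is isometric to `Cfsg.sympForm k F`.
-/

set_option autoImplicit false
open Cfsg
open scoped Matrix

namespace Cfsg.Agent.ClassicalGeometry.SympIso

open Cfsg.Agent.ClassicalGeometry.SympBasic

variable {F : Type*} [Field F]

/-- A basis indexed by `Fin k ⊕ Fin k` with the values of `sympForm` gives an isometry. -/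
theorem apply_eq_sympForm {V : Type*} [AddCommGroup V] [Module F V] (B : LinearMap.BilinForm F V)
    (hA : B.IsAlt) {k : ℕ} (b : Module.Basis (Fin k ⊕ Fin k) F V)
    (h1 : ∀ i j : Fin k, B (b (Sum.inr i)) (b (Sum.inl j)) = if i = j then 1 else 0)
    (h2 : ∀ i j : Fin k, B (b (Sum.inl i)) (b (Sum.inl j)) = 0)
    (h3 : ∀ i j : Fin k, B (b (Sum.inr i)) (b (Sum.inr j)) = 0)
    (x y : Fin k ⊕ Fin k → F) :
    B (b.equivFun.symm x) (b.equivFun.symm y) = sympForm k F x y := by
  have h4 : ∀ i j : Fin k, B (b (Sum.inl i)) (b (Sum.inr j)) = if i = j then -1 else 0 := by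
    intro i j
    rw [← hA.neg_eq, h1]
    by_cases h : i = j
    · subst h; simp
    · rw [if_neg h, if_neg (Ne.symm h), neg_zero]
  rw [sympForm_eq_sum, Module.Basis.equivFun_symm_apply, Module.Basis.equivFun_symm_apply]
  simp only [map_sum, LinearMap.sum_apply, map_smul, LinearMap.smul_apply, smul_eq_mul,
    Fintype.sum_sum_type, map_add, LinearMap.add_apply, h1, h2, h3, h4, mul_zero,
    Finset.sum_const_zero, zero_add, add_zero, mul_ite, mul_one, mul_neg,
    Finset.sum_ite_eq', Finset.mem_univ, if_true]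
  rw [← Finset.sum_add_distrib]
  refine Finset.sum_congr rfl fun i _ => ?_
  ring

theorem exists_linearEquiv_sympForm {V : Type*} [AddCommGroup V] [Module F V]
    (B : LinearMap.BilinForm F V) (hA : B.IsAlt)
    (hnd : ∀ u, (∀ v, B u v = 0) → u = 0) {k : ℕ} (hk : Module.finrank F V = 2 * k)
    [FiniteDimensional F V] :
    ∃ e : (Fin k ⊕ Fin k → F) ≃ₗ[F] V, ∀ x y, B (e x) (e y) = sympForm k F x y := by
  obtain ⟨m, l, b, h1, h2, h3, h4⟩ := Cfsg.Agent.S0752.result B hA
  have hl : l = 0 := by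
    by_contra hl
    have := hnd _ (h4 ⟨0, Nat.pos_of_ne_zero hl⟩)
    exact b.ne_zero _ this
  subst hl
  have hm : m = k := by
    have := Module.finrank_eq_card_basis b
    simp at this
    omega
  subst hm
  let b' : Module.Basis (Fin m ⊕ Fin m) F V :=
    b.reindex ((Equiv.sumEmpty (Fin m ⊕ Fin m) (Fin 0)).trans (Equiv.sumComm _ _))
  have hb1 : ∀ i, b' (Sum.inl i) = b (Sum.inl (Sum.inr i)) := fun i => by
    simp [b']
  have hb2 : ∀ i, b' (Sum.inr i) = b (Sum.inl (Sum.inl i)) := fun i => by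
    simp [b']
  refine ⟨b'.equivFun.symm, fun x y => apply_eq_sympForm B hA b' ?_ ?_ ?_ x y⟩
  · intro i j
    rw [hb1, hb2, h1]
  · intro i j
    rw [hb1, hb1, h3]
  · intro i j
    rw [hb2, hb2, h2]

end Cfsg.Agent.ClassicalGeometry.SympIso
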