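import Mathlib
import Cfsg.Prelude.Def_Classical
set_option linter.all false

/-!
Transfer of the isometry group of a quadratic form given as a function along an isomorphism of fields.
-/

set_option autoImplicit false

namespace Cfsg.Agent.ClassicalGeometry.IsoTransfer

open Cfsg Matrix

variable {ι : Type} [Fintype ι] [DecidableEq ι]

/-- Membership in `isometryGroup`: the matrix preserves the function `Q`. -/
theorem mem_isometryGroup_iff {F : Type*} [Field F] {Q : (ι → F) → F}
    {g : Matrix.GeneralLinearGroup ι F} :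
    g ∈ isometryGroup F Q ↔ ∀ u, Q ((g : Matrix ι ι F) *ᵥ u) = Q u :=
  ⟨fun h u => h u u, fun h u _ => h u⟩

/-- The isomorphism of general linear groups induced by a ring isomorphism. -/
noncomputable def glMapEquiv {F K : Type*} [Field F] [Field K] (φ : F ≃+* K) :
    Matrix.GeneralLinearGroup ι F ≃* Matrix.GeneralLinearGroup ι K :=
  Units.mapEquiv (φ.mapMatrix (m := ι)).toMulEquiv

theorem glMapEquiv_coe {F K : Type*} [Field F] [Field K] (φ : F ≃+* K)
    (g : Matrix.GeneralLinearGroup ι F) :
    ((glMapEquiv φ g : Matrix.GeneralLinearGroup ι K) : Matrix ι ι K) =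
      (g : Matrix ι ι F).map φ := rfl

omit [DecidableEq ι] in
theorem map_mulVec {F K : Type*} [Field F] [Field K] (φ : F ≃+* K)
    (M : Matrix ι ι F) (v : ι → F) :
    (M.map φ) *ᵥ (φ ∘ v) = φ ∘ (M *ᵥ v) := by
  ext i
  simp [Matrix.mulVec, dotProduct, map_sum, map_mul]

theorem mem_iff_of_transfer {F K : Type*} [Field F] [Field K] (φ : F ≃+* K)
    (Q : (ι → F) → F) (Q' : (ι → K) → K) (h : ∀ v, φ (Q v) = Q' (φ ∘ v))
    (g : Matrix.GeneralLinearGroup ι F) :
    g ∈ isometryGroup F Q ↔ glMapEquiv φ g ∈ isometryGroup K Q' := by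
  rw [mem_isometryGroup_iff, mem_isometryGroup_iff]
  constructor
  · intro hg u
    have hu : φ ∘ (φ.symm ∘ u) = u := by ext i; simp
    rw [glMapEquiv_coe, ← hu, map_mulVec, ← h, ← h, hg]
  · intro hg u
    apply φ.injective
    rw [h, h, ← hg (φ ∘ u), glMapEquiv_coe, map_mulVec]

/-- Transfer of isometry groups along a field isomorphism. -/
noncomputable def isometryGroupCongr {F K : Type*} [Field F] [Field K] (φ : F ≃+* K)
    (Q : (ι → F) → F) (Q' : (ι → K) → K) (h : ∀ v, φ (Q v) = Q' (φ ∘ v)) :
    isometryGroup F Q ≃* isometryGroup K Q' :=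
  MulEquiv.subgroupMap (glMapEquiv φ) (isometryGroup F Q) |>.trans
    (MulEquiv.subgroupCongr (by
      ext g
      rw [Subgroup.mem_map]
      constructor
      · rintro ⟨x, hx, rfl⟩
        exact (mem_iff_of_transfer φ Q Q' h x).1 hx
      · intro hg
        refine ⟨(glMapEquiv φ).symm g, ?_, ?_⟩
        · rw [mem_iff_of_transfer φ Q Q' h, MulEquiv.apply_symm_apply]
          exact hg
        · exact MulEquiv.apply_symm_apply _ _))

theorem isometryGroupCongr_coe {F K : Type*} [Field F] [Field K] (φ : F ≃+* K)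
    (Q : (ι → F) → F) (Q' : (ι → K) → K) (h : ∀ v, φ (Q v) = Q' (φ ∘ v))
    (g : isometryGroup F Q) :
    (((isometryGroupCongr φ Q Q' h g : isometryGroup K Q') :
      Matrix.GeneralLinearGroup ι K) : Matrix ι ι K) =
      ((g : Matrix.GeneralLinearGroup ι F) : Matrix ι ι F).map φ := rfl

end Cfsg.Agent.ClassicalGeometry.IsoTransfer
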