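import Mathlib
import Cfsg.Agent.ClassicalGeometry.WittStep
set_option linter.all false

set_option autoImplicit false

/-!
Witt extension theorem for Hermitian forms over a finite field, abstract version
(`σ` an involution of the finite field `F`, `B` conjugate-symmetric).

* `trace_surj`, `norm_surj`: trace and norm onto the fixed field of `σ`;
* `exists_apply_self_eq_one`, `exists_unit_perp`: vectors of norm one;
* `exists_extension`: the one-step extension and the full Witt extension theorem.
-/

namespace Cfsg.Agent.ClassicalGeometry.HermWitt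

open Module

section Field

variable {F : Type*} [Field F] (σ : F →+* F)

/-- Every fixed element of the involution `σ ≠ id` is a trace. -/
theorem trace_surj (hσ : σ ≠ RingHom.id F) (hσ2 : ∀ a : F, σ (σ a) = a) (a : F)
    (ha : σ a = a) : ∃ c, c + σ c = a := by
  obtain ⟨d, hd⟩ : ∃ d, d + σ d ≠ 0 := by
    by_contra h
    push Not at h
    apply hσ
    ext x
    have h1 := h 1
    rw [map_one] at h1
    have h2 := h x
    have h3 : x * (1 + 1) = 0 := by rw [h1, mul_zero]
    show σ x = x
    linear_combination h2 - h3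
  refine ⟨a * d / (d + σ d), ?_⟩
  rw [map_div₀, map_mul, map_add, hσ2, ha, add_comm (σ d) d, ← add_div, ← mul_add,
    mul_div_assoc, div_self hd, mul_one]

/-- Hilbert 90 for the involution `σ`. -/
theorem hilbert90 (hσ : σ ≠ RingHom.id F) (hσ2 : ∀ a : F, σ (σ a) = a) (x : F)
    (hx : x * σ x = 1) : ∃ y, y ≠ 0 ∧ x * σ y = y := by
  obtain ⟨d, hd⟩ : ∃ d, d + x * σ d ≠ 0 := by
    by_contra h
    push Not at h
    apply hσ
    ext d
    have h1 := h 1
    rw [map_one, mul_one] at h1
    have h2 := h d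
    have h3 : σ d * (1 + x) = 0 := by rw [h1, mul_zero]
    show σ d = d
    linear_combination h3 - h2
  refine ⟨d + x * σ d, hd, ?_⟩
  rw [map_add, map_mul, hσ2]
  linear_combination d * hx

/-- Every nonzero fixed element of the involution `σ ≠ id` of a finite field is a norm. -/
theorem norm_surj [Finite F] (hσ : σ ≠ RingHom.id F) (hσ2 : ∀ a : F, σ (σ a) = a) (a : F)
    (ha : σ a = a) (ha0 : a ≠ 0) : ∃ c, c ≠ 0 ∧ c * σ c = a := by
  let s : Fˣ →* Fˣ := Units.map (σ : F →* F)
  let N : Fˣ →* Fˣ := MonoidHom.id _ * s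
  let T : Fˣ →* Fˣ := MonoidHom.id _ / s
  have hs : ∀ u : Fˣ, ((s u : Fˣ) : F) = σ (u : F) := fun u => rfl
  have hss : ∀ u : Fˣ, s (s u) = u := fun u => Units.ext (hσ2 u)
  have hN : ∀ u, N u = u * s u := fun u => rfl
  have hT : ∀ u, T u = u / s u := fun u => rfl
  have hker : N.ker = T.range := by
    apply le_antisymm
    · intro u hu
      rw [MonoidHom.mem_ker, hN] at hu
      have hu' : (u : F) * σ u = 1 := by
        have := congrArg (Units.val) hu
        simpa [hs] using this
      obtain ⟨y, hy0, hy⟩ := hilbert90 σ hσ hσ2 u hu'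
      refine ⟨Units.mk0 y hy0, ?_⟩
      rw [hT, div_eq_iff_eq_mul]
      apply Units.ext
      rw [Units.val_mul, hs]
      exact hy.symm
    · rintro _ ⟨u, rfl⟩
      rw [MonoidHom.mem_ker, hN, hT, map_div, hss]
      simp
  have h1 := Subgroup.card_mul_index N.ker
  have h2 := Subgroup.card_mul_index T.ker
  rw [Subgroup.index_ker] at h1 h2
  rw [hker] at h1
  have hcard : Nat.card N.range = Nat.card T.ker := by
    have hpos : 0 < Nat.card T.range := Nat.card_pos
    have : Nat.card T.range * Nat.card N.range = Nat.card T.range * Nat.card T.ker := by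
      rw [h1, ← h2, mul_comm]
    exact Nat.eq_of_mul_eq_mul_left hpos this
  have hle : N.range ≤ T.ker := by
    rintro _ ⟨u, rfl⟩
    rw [MonoidHom.mem_ker, hT, hN, map_mul, hss, mul_comm, div_self']
  have heq : N.range = T.ker := Subgroup.eq_of_le_of_card_ge hle hcard.symm.le
  have hmem : Units.mk0 a ha0 ∈ N.range := by
    rw [heq, MonoidHom.mem_ker, hT, div_eq_one]
    apply Units.ext
    rw [hs]
    exact ha.symm
  obtain ⟨c, hc⟩ := hmem
  refine ⟨c, c.ne_zero, ?_⟩
  have := congrArg Units.val hc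
  rw [hN, Units.val_mul, hs] at this
  exact this

end Field

section Form

variable {F V : Type*} [Field F] [AddCommGroup V] [Module F V]
  (σ : F →+* F) (B : V →ₛₗ[σ] V →ₗ[F] F)

/-- A nonzero conjugate-symmetric form has an anisotropic vector in every subspace on which it
does not vanish. -/
theorem exists_apply_self_ne_zero (hσ : σ ≠ RingHom.id F) (hS : B.IsSymm) (W : Submodule F V)
    (hW : ∃ x ∈ W, ∃ y ∈ W, B x y ≠ 0) : ∃ v ∈ W, B v v ≠ 0 := by
  by_contra h0
  push Not at h0
  obtain ⟨x, hx, y, hy, hxy⟩ := hW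
  apply hσ
  have key : ∀ u ∈ W, ∀ v ∈ W, B u v + B v u = 0 := by
    intro u hu v hv
    have h := h0 (u + v) (W.add_mem hu hv)
    simp only [map_add, LinearMap.add_apply, h0 u hu, h0 v hv] at h
    rw [← h]; ring
  ext a
  have h1 := key (a • x) (W.smul_mem _ hx) y hy
  have h2 := key x hx y hy
  rw [LinearMap.map_smulₛₗ₂, map_smul, smul_eq_mul, smul_eq_mul] at h1
  have h3 : B y x = - B x y := by linear_combination h2
  rw [h3] at h1
  have h4 : (σ a - a) * B x y = 0 := by linear_combination h1
  rcases mul_eq_zero.mp h4 with h | h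
  · simpa using sub_eq_zero.mp h
  · exact absurd h hxy

theorem fixed_apply_self (hS : B.IsSymm) (v : V) : σ (B v v) = B v v := hS.eq v v

/-- For a finite field: a vector of norm one in every subspace on which `B` does not vanish. -/
theorem exists_apply_self_eq_one [Finite F] (hσ : σ ≠ RingHom.id F)
    (hσ2 : ∀ a : F, σ (σ a) = a) (hS : B.IsSymm) (W : Submodule F V)
    (hW : ∃ x ∈ W, ∃ y ∈ W, B x y ≠ 0) : ∃ v ∈ W, B v v = 1 := by
  obtain ⟨v, hv, hvv⟩ := exists_apply_self_ne_zero σ B hσ hS W hW
  obtain ⟨c, hc0, hc⟩ := norm_surj σ hσ hσ2 (B v v)⁻¹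
    (by rw [map_inv₀, fixed_apply_self σ B hS]) (inv_ne_zero hvv)
  refine ⟨c • v, W.smul_mem _ hv, ?_⟩
  rw [LinearMap.map_smulₛₗ₂, map_smul, smul_eq_mul, smul_eq_mul, ← mul_assoc, mul_comm (σ c) c,
    hc, inv_mul_cancel₀ hvv]

/-- Over a finite field, an injective "semilinear" map into the dual is surjective; version for a
non-degenerate form and an embedded subspace: every functional on `X` is `x ↦ B w (f x)`. -/
theorem exists_represent [Finite F] [FiniteDimensional F V] {X : Type*} [AddCommGroup X]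
    [Module F X] (hB : B.SeparatingLeft) (f : X →ₗ[F] V) (hf : Function.Injective f)
    (ℓ : X →ₗ[F] F) : ∃ w : V, ∀ x, B w (f x) = ℓ x := by
  have hfinV : Finite V := Module.finite_of_finite F
  have hinj : Function.Injective (fun w : V => (B w : Dual F V)) := by
    intro a b hab
    have : a - b = 0 := by
      apply hB
      intro y
      have h := LinearMap.congr_fun hab y
      rw [map_sub, LinearMap.sub_apply]
      exact sub_eq_zero.mpr h
    exact sub_eq_zero.mp this
  have hsurj : Function.Surjective (fun w : V => (B w : Dual F V)) := by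
    have hfinD : Finite (Dual F V) := Module.finite_of_finite F
    have hcard : Nat.card V = Nat.card (Dual F V) :=
      Nat.card_congr ((Module.finBasis F V).toDualEquiv).toEquiv
    exact ((Nat.bijective_iff_injective_and_card _).mpr ⟨hinj, hcard⟩).2
  obtain ⟨ℓ', hℓ'⟩ := LinearMap.dualMap_surjective_of_injective hf ℓ
  obtain ⟨w, hw⟩ := hsurj ℓ'
  refine ⟨w, fun x => ?_⟩
  rw [← hℓ']
  exact LinearMap.congr_fun hw (f x)

/-- The orthogonal complement (as a submodule) of a subspace. -/
theorem exists_perp [Finite F] [FiniteDimensional F V] (X : Submodule F V)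
    (hX : ∀ x ∈ X, (∀ y ∈ X, B x y = 0) → x = 0) (v : V) :
    ∃ x ∈ X, ∀ y ∈ X, B (v - x) y = 0 := by
  let B' : X →ₛₗ[σ] X →ₗ[F] F := B.domRestrict₁₂ X X
  have hB' : B'.SeparatingLeft := by
    intro x hx
    apply Subtype.ext
    exact hX x x.2 (fun y hy => hx ⟨y, hy⟩)
  obtain ⟨x, hx⟩ := exists_represent σ B' hB' LinearMap.id Function.injective_id
    ((B v).domRestrict X)
  refine ⟨x, x.2, fun y hy => ?_⟩
  have := hx ⟨y, hy⟩
  rw [map_sub, LinearMap.sub_apply]
  exact sub_eq_zero.mpr this.symm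

/-- Norm-one vector orthogonal to a non-degenerate proper subspace. -/
theorem exists_unit_perp [Finite F] [FiniteDimensional F V] (hσ : σ ≠ RingHom.id F)
    (hσ2 : ∀ a : F, σ (σ a) = a) (hS : B.IsSymm) (hB : B.SeparatingLeft) (X : Submodule F V)
    (hX : ∀ x ∈ X, (∀ y ∈ X, B x y = 0) → x = 0) (hne : X ≠ ⊤) :
    ∃ v, v ∉ X ∧ (∀ x ∈ X, B v x = 0) ∧ B v v = 1 := by
  let W : Submodule F V :=
    { carrier := {v | ∀ x ∈ X, B x v = 0}
      add_mem' := fun {a b} ha hb x hx => by rw [map_add, ha x hx, hb x hx, add_zero]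
      zero_mem' := fun x _ => map_zero _
      smul_mem' := fun c a ha x hx => by rw [map_smul, ha x hx, smul_zero] }
  have hmemW : ∀ v, v ∈ W ↔ ∀ x ∈ X, B x v = 0 := fun v => Iff.rfl
  have hsym : ∀ u v, B u v = 0 → B v u = 0 := fun u v h => hS.eq_iff.mp h
  obtain ⟨v, hv, hvv⟩ := exists_apply_self_eq_one σ B hσ hσ2 hS W (by
    obtain ⟨v, hv⟩ : ∃ v, v ∉ X := by
      by_contra h
      push Not at h
      exact hne (Submodule.eq_top_iff'.mpr h)
    obtain ⟨x, hx, hxp⟩ := exists_perp σ B X hX v
    have hz : v - x ∈ W := fun y hy => hsym _ _ (hxp y hy)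
    have hz0 : v - x ≠ 0 := fun h => hv (by rw [sub_eq_zero.mp h]; exact hx)
    obtain ⟨u, hu⟩ : ∃ u, B (v - x) u ≠ 0 := by
      by_contra h
      push Not at h
      exact hz0 (hB _ h)
    obtain ⟨x', hx', hxp'⟩ := exists_perp σ B X hX u
    refine ⟨v - x, hz, u - x', fun y hy => hsym _ _ (hxp' y hy), ?_⟩
    rw [map_sub (B (v - x)) u x', hxp x' hx', sub_zero]
    exact hu)
  refine ⟨v, fun hvX => ?_, fun x hx => hsym _ _ (hv x hx), hvv⟩
  have := hv v hvX
  rw [hvv] at this
  exact one_ne_zero this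

/-- One-step data: for an isometric embedding `f` of a proper subspace, find `v` outside the
subspace and `w` outside the image so that `v ↦ w` extends `f` isometrically. -/
theorem exists_step [Finite F] [FiniteDimensional F V] (hσ : σ ≠ RingHom.id F)
    (hσ2 : ∀ a : F, σ (σ a) = a) (hS : B.IsSymm) (hB : B.SeparatingLeft) (X : Submodule F V)
    (f : X →ₗ[F] V) (hf : Function.Injective f) (hfB : ∀ x x', B (f x) (f x') = B (x : V) (x' : V))
    (hne : X ≠ ⊤) :
    ∃ v w, v ∉ X ∧ w ∉ LinearMap.range f ∧ (∀ x, B w (f x) = B v (x : V)) ∧ B w w = B v v := by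
  have hsym : ∀ u v, B u v = 0 → B v u = 0 := fun u v h => hS.eq_iff.mp h
  by_cases hX : ∀ x ∈ X, (∀ y ∈ X, B x y = 0) → x = 0
  · obtain ⟨v, hv, hvX, hvv⟩ := exists_unit_perp σ B hσ hσ2 hS hB X hX hne
    have hY : ∀ x ∈ LinearMap.range f, (∀ y ∈ LinearMap.range f, B x y = 0) → x = 0 := by
      rintro _ ⟨x, rfl⟩ h
      have : x = 0 := by
        apply Subtype.ext
        apply hX x x.2
        intro y hy
        rw [← hfB x ⟨y, hy⟩]
        exact h _ ⟨_, rfl⟩
      rw [this, map_zero]
    have hneY : LinearMap.range f ≠ ⊤ := by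
      intro h
      apply hne
      apply Submodule.eq_top_of_finrank_eq
      rw [← LinearMap.finrank_range_of_inj hf, h, finrank_top]
    obtain ⟨w, hw, hwX, hww⟩ := exists_unit_perp σ B hσ hσ2 hS hB (LinearMap.range f) hY hneY
    refine ⟨v, w, hv, hw, fun x => ?_, by rw [hww, hvv]⟩
    rw [hwX _ ⟨x, rfl⟩, hvX x x.2]
  · push Not at hX
    obtain ⟨r, hr, hrX, hr0⟩ := hX
    obtain ⟨v, hv⟩ : ∃ v, B v r ≠ 0 := by
      by_contra h
      push Not at h
      exact hr0 (hB _ fun y => hsym _ _ (h y))
    obtain ⟨w0, hw0⟩ := exists_represent σ B hB f hf ((B v).domRestrict X)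
    have hw0' : ∀ x : X, B w0 (f x) = B v (x : V) := hw0
    have hrf : ∀ x : X, B (f ⟨r, hr⟩) (f x) = 0 := fun x => by rw [hfB]; exact hrX x x.2
    have hne0 : B w0 (f ⟨r, hr⟩) ≠ 0 := by rw [hw0']; exact hv
    set e := B w0 (f ⟨r, hr⟩) with he
    have hvX : v ∉ X := fun h => hv (hsym _ _ (hrX v h))
    obtain ⟨c, hc⟩ := trace_surj σ hσ hσ2 (B v v - B w0 w0) (by
      rw [map_sub, fixed_apply_self σ B hS, fixed_apply_self σ B hS])
    have hcalc : ∀ x : X, B (w0 + (c / e) • f ⟨r, hr⟩) (f x) = B v (x : V) := by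
      intro x
      rw [map_add, LinearMap.add_apply, LinearMap.map_smulₛₗ₂, hrf, smul_zero, add_zero, hw0']
    refine ⟨v, w0 + (c / e) • f ⟨r, hr⟩, hvX, ?_, hcalc, ?_⟩
    · rintro ⟨x, hx⟩
      have h1 := hcalc ⟨r, hr⟩
      rw [← hx, hsym _ _ (hrf x)] at h1
      exact hv h1.symm
    · have hsw : B (f ⟨r, hr⟩) w0 = σ e := by rw [he]; exact (hS.eq _ _).symm
      simp only [map_add, LinearMap.add_apply, LinearMap.map_smulₛₗ₂, map_smul, smul_eq_mul, hrf,
        hsw, ← he, mul_zero, add_zero]
      have h2 : σ (c / e) * σ e = σ c := by rw [← map_mul, div_mul_cancel₀ _ hne0]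
      rw [h2, div_mul_cancel₀ _ hne0]
      linear_combination hc

theorem exists_extension_aux [Finite F] [FiniteDimensional F V] (hσ : σ ≠ RingHom.id F)
    (hσ2 : ∀ a : F, σ (σ a) = a) (hS : B.IsSymm) (hB : B.SeparatingLeft) (n : ℕ) :
    ∀ (f : V →ₗ.[F] V), (∀ x x' : f.domain, B (f x) (f x') = B (x : V) (x' : V)) →
      Function.Injective f → finrank F V = finrank F f.domain + n →
      ∃ g : V →ₗ[F] V, (∀ u v, B (g u) (g v) = B u v) ∧ ∀ x : f.domain, g x = f x := by
  induction n with
  | zero =>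
    intro f hf hinj hn
    have htop : f.domain = ⊤ := Submodule.eq_top_of_finrank_eq (by omega)
    have hmem : ∀ v : V, v ∈ f.domain := fun v => by rw [htop]; trivial
    let g : V →ₗ[F] V := f.toFun ∘ₗ (LinearMap.codRestrict f.domain LinearMap.id hmem)
    refine ⟨g, ?_, ?_⟩
    · intro u v
      exact hf ⟨u, hmem u⟩ ⟨v, hmem v⟩
    · intro x
      rfl
  | succ n ih =>
    intro f hf hinj hn
    have hne : f.domain ≠ ⊤ := by
      intro h
      rw [h, finrank_top] at hn
      omega
    obtain ⟨v, w, hv, hw, hwB, hww⟩ := exists_step σ B hσ hσ2 hS hB f.domain f.toFun hinj hf hne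
    have hwB'' : ∀ x : f.domain, B w (f x) = B v (x : V) := hwB
    have hwB' : ∀ x : f.domain, B (f x) w = B (x : V) v := fun x => by
      rw [← hS.eq, hwB'', hS.eq]
    -- the extended map
    have key : ∀ z : (f.supSpanSingleton v w hv).domain, ∃ (x : f.domain) (c : F),
        (z : V) = x + c • v ∧ f.supSpanSingleton v w hv z = f x + c • w := by
      rintro ⟨z, hz⟩
      rw [LinearPMap.domain_supSpanSingleton] at hz
      obtain ⟨x, hx, y, hy, rfl⟩ := Submodule.mem_sup.mp hz
      obtain ⟨c, rfl⟩ := Submodule.mem_span_singleton.mp hy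
      exact ⟨⟨x, hx⟩, c, rfl, LinearPMap.supSpanSingleton_apply_mk f v w hv x hx c⟩
    obtain ⟨g, hg, hgf⟩ := ih (f.supSpanSingleton v w hv) (by
        intro z z'
        obtain ⟨x, c, hz, hfz⟩ := key z
        obtain ⟨x', c', hz', hfz'⟩ := key z'
        rw [hfz, hfz', hz, hz']
        simp only [map_add, LinearMap.add_apply, map_smul, LinearMap.map_smulₛₗ₂, hwB', hwB'', hf,
          hww]) (by
        intro z z' hzz'
        obtain ⟨x, c, hz, hfz⟩ := key z
        obtain ⟨x', c', hz', hfz'⟩ := key z'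
        rw [hfz, hfz'] at hzz'
        have h1 : (c - c') • w = f (x' - x) := by
          rw [LinearPMap.map_sub, sub_smul]
          have h0 : f x + c • w - (f x + c' • w) = f x' + c' • w - (f x + c' • w) := by rw [hzz']
          have h00 : c • w - c' • w = f x + c • w - (f x + c' • w) := by abel
          rw [h00, h0]
          abel
        have hc : c = c' := by
          by_contra hne'
          apply hw
          have h2 : w = (c - c')⁻¹ • f (x' - x) := by
            rw [← h1, smul_smul, inv_mul_cancel₀ (sub_ne_zero.mpr hne'), one_smul]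
          rw [h2]
          exact Submodule.smul_mem _ _ ⟨x' - x, rfl⟩
        subst hc
        have hx : f x = f x' := by
          simpa using hzz'
        have hx' : x = x' := hinj hx
        apply Subtype.ext
        rw [hz, hz', hx']) (by
        rw [LinearPMap.domain_supSpanSingleton]
        rw [Submodule.finrank_sup_span_singleton hv]
        omega)
    refine ⟨g, hg, fun x => ?_⟩
    have h1 := hgf ⟨x, Submodule.mem_sup_left x.2⟩
    rw [LinearPMap.supSpanSingleton_apply_mk_of_mem] at h1
    exact h1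

/-- **Witt extension theorem**, Hermitian forms over a finite field. -/
theorem exists_extension [Finite F] [FiniteDimensional F V] (hσ : σ ≠ RingHom.id F)
    (hσ2 : ∀ a : F, σ (σ a) = a) (hS : B.IsSymm) (hB : B.SeparatingLeft) (X : Submodule F V)
    (f : X →ₗ[F] V) (hf : Function.Injective f)
    (hfB : ∀ x x', B (f x) (f x') = B (x : V) (x' : V)) :
    ∃ g : V ≃ₗ[F] V, (∀ u v : V, B (g u) (g v) = B u v) ∧ ∀ x : X, g (x : V) = f x := by
  obtain ⟨g, hg, hgf⟩ := exists_extension_aux σ B hσ hσ2 hS hB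
    (finrank F V - finrank F X) ⟨X, f⟩ hfB hf
    (by
      have := Submodule.finrank_le X
      show _ = finrank F X + _
      omega)
  have hinj : Function.Injective g := by
    rw [injective_iff_map_eq_zero]
    intro u hu
    apply hB
    intro v
    rw [← hg, hu]
    simp
  exact ⟨LinearEquiv.ofInjectiveEndo g hinj, hg, hgf⟩

end Form

end Cfsg.Agent.ClassicalGeometry.HermWitt
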