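import Mathlib
import Cfsg.Prelude.Def_Classical
set_option linter.all false

set_option autoImplicit false

/-!
Basic facts on `Cfsg.quadFormPlus m F` (the form `Σ x_i y_i`): its polar form as a `LinearMap.BilinForm`,
nondegenerate; the standard maximal totally singular subspace `{y = 0}` of dimension `m`.
-/

namespace Cfsg.Agent.ClassicalGeometry.QuadPlusBasic

open Module

variable (m : ℕ) (F : Type*) [Field F]

theorem quadFormPlus_apply (v : Fin m ⊕ Fin m → F) :
    Cfsg.quadFormPlus m F v = ∑ i : Fin m, v (.inl i) * v (.inr i) := rfl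

/-- the polar form of `quadFormPlus` -/
def polarForm : LinearMap.BilinForm F (Fin m ⊕ Fin m → F) :=
  LinearMap.mk₂ F (fun u v => ∑ i : Fin m, (u (.inl i) * v (.inr i) + u (.inr i) * v (.inl i)))
    (by intro u u' v; rw [← Finset.sum_add_distrib]; apply Finset.sum_congr rfl; intro i _
        simp only [Pi.add_apply]; ring)
    (by intro c u v; rw [smul_eq_mul, Finset.mul_sum]; apply Finset.sum_congr rfl; intro i _
        simp only [Pi.smul_apply, smul_eq_mul]; ring)
    (by intro u v v'; rw [← Finset.sum_add_distrib]; apply Finset.sum_congr rfl; intro i _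
        simp only [Pi.add_apply]; ring)
    (by intro c u v; rw [smul_eq_mul, Finset.mul_sum]; apply Finset.sum_congr rfl; intro i _
        simp only [Pi.smul_apply, smul_eq_mul]; ring)

theorem polarForm_apply (u v : Fin m ⊕ Fin m → F) :
    polarForm m F u v = ∑ i : Fin m, (u (.inl i) * v (.inr i) + u (.inr i) * v (.inl i)) := rfl

theorem polarForm_comm (u v : Fin m ⊕ Fin m → F) : polarForm m F u v = polarForm m F v u := by
  rw [polarForm_apply, polarForm_apply]
  apply Finset.sum_congr rfl; intro i _; ring

theorem quadFormPlus_add (u v : Fin m ⊕ Fin m → F) :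
    Cfsg.quadFormPlus m F (u + v)
      = Cfsg.quadFormPlus m F u + Cfsg.quadFormPlus m F v + polarForm m F u v := by
  rw [quadFormPlus_apply, quadFormPlus_apply, quadFormPlus_apply, polarForm_apply,
    ← Finset.sum_add_distrib, ← Finset.sum_add_distrib]
  apply Finset.sum_congr rfl; intro i _
  simp only [Pi.add_apply]; ring

theorem quadFormPlus_smul (c : F) (v : Fin m ⊕ Fin m → F) :
    Cfsg.quadFormPlus m F (c • v) = c * c * Cfsg.quadFormPlus m F v := by
  rw [quadFormPlus_apply, quadFormPlus_apply, Finset.mul_sum]
  apply Finset.sum_congr rfl; intro i _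
  simp only [Pi.smul_apply, smul_eq_mul]; ring

theorem polarForm_isRefl : (polarForm m F).IsRefl := fun u v h => by
  rw [polarForm_comm]; exact h

theorem polarForm_single_inl [DecidableEq F] (u : Fin m ⊕ Fin m → F) (i : Fin m) :
    polarForm m F u (Pi.single (.inl i) 1) = u (.inr i) := by
  rw [polarForm_apply, Finset.sum_eq_single i]
  · simp
  · intro j _ hj
    simp [Pi.single_apply, hj]
  · intro h; exact absurd (Finset.mem_univ i) h

theorem polarForm_single_inr [DecidableEq F] (u : Fin m ⊕ Fin m → F) (i : Fin m) :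
    polarForm m F u (Pi.single (.inr i) 1) = u (.inl i) := by
  rw [polarForm_apply, Finset.sum_eq_single i]
  · simp
  · intro j _ hj
    simp [Pi.single_apply, hj]
  · intro h; exact absurd (Finset.mem_univ i) h

theorem polarForm_nondegenerate : (polarForm m F).Nondegenerate := by
  classical
  have key : ∀ u, (∀ v, polarForm m F u v = 0) → u = 0 := by
    intro u h
    funext i
    rcases i with i | i
    · rw [← polarForm_single_inr m F u i, h]; rfl
    · rw [← polarForm_single_inl m F u i, h]; rfl
  refine ⟨key, ?_⟩
  intro u h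
  apply key
  intro v
  rw [polarForm_comm]
  exact h v

theorem finrank_space : finrank F (Fin m ⊕ Fin m → F) = 2 * m := by
  rw [Module.finrank_fintype_fun_eq_card, Fintype.card_sum, Fintype.card_fin]; ring

/-- the standard maximal totally singular subspace `{y = 0}` -/
def stdX : Submodule F (Fin m ⊕ Fin m → F) where
  carrier := {v | ∀ i, v (.inr i) = 0}
  add_mem' := by intro a b ha hb i; rw [Pi.add_apply, ha, hb, add_zero]
  zero_mem' := by intro i; rfl
  smul_mem' := by intro c a ha i; rw [Pi.smul_apply, ha, smul_zero]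

theorem mem_stdX (v : Fin m ⊕ Fin m → F) : v ∈ stdX m F ↔ ∀ i, v (.inr i) = 0 := Iff.rfl

theorem quadFormPlus_stdX (v : Fin m ⊕ Fin m → F) (hv : v ∈ stdX m F) :
    Cfsg.quadFormPlus m F v = 0 := by
  rw [quadFormPlus_apply]
  apply Finset.sum_eq_zero
  intro i _
  rw [hv i, mul_zero]

/-- `stdX` is linearly equivalent to `F^m` -/
def stdXEquiv : stdX m F ≃ₗ[F] (Fin m → F) where
  toFun v := fun i => v.1 (.inl i)
  map_add' _ _ := rfl
  map_smul' _ _ := rfl
  invFun w := ⟨fun i => i.elim w (fun _ => 0), fun _ => rfl⟩
  left_inv := by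
    rintro ⟨v, hv⟩
    ext i
    rcases i with i | i
    · rfl
    · exact (hv i).symm
  right_inv _ := rfl

theorem finrank_stdX : finrank F (stdX m F) = m := by
  rw [(stdXEquiv m F).finrank_eq, Module.finrank_fintype_fun_eq_card, Fintype.card_fin]

end Cfsg.Agent.ClassicalGeometry.QuadPlusBasic
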