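import Mathlib
import Cfsg.Prelude.Def_Classical
import Cfsg.Agent.ClassicalGeometry.IsoTransfer
set_option linter.all false

/-!
Quadratic spaces over the field with two elements realised in the permutation module of a symmetric group
(even weight vectors modulo the all-one vector), and a criterion for the isometry group to be the
symmetric group.
-/

set_option autoImplicit false

namespace Cfsg.Agent.ClassicalGeometry.SymModel

open Cfsg Matrix Cfsg.Agent.ClassicalGeometry.IsoTransfer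

/-- Sifting along a base: if every element of `G` fixing the base `b 0, …, b (n-1)` lies in `H` and `H`
can correct the image of each base point in the stabiliser of the previous ones, then `H` is everything. -/
theorem chain {G V : Type*} [Group G] (act : G → V → V)
    (hmul : ∀ g h v, act (g * h) v = act g (act h v))
    (H : Subgroup G) (b : ℕ → V) (n : ℕ)
    (hn : ∀ g, (∀ j < n, act g (b j) = b j) → g ∈ H)
    (hs : ∀ k < n, ∀ g, (∀ j < k, act g (b j) = b j) →
      ∃ h ∈ H, (∀ j < k, act h (b j) = b j) ∧ act h (act g (b k)) = b k) (g : G) : g ∈ H := by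
  have key : ∀ m ≤ n, ∀ g, (∀ j < n - m, act g (b j) = b j) → g ∈ H := by
    intro m
    induction m with
    | zero => intro _ g hg; exact hn g (by simpa using hg)
    | succ m ih =>
      intro hm g hg
      obtain ⟨h, hH, h1, h2⟩ := hs (n - (m + 1)) (by omega) g hg
      have h3 : h * g ∈ H := by
        refine ih (by omega) (h * g) ?_
        intro j hj
        rw [hmul]
        by_cases hj' : j < n - (m + 1)
        · rw [hg j hj', h1 j hj']
        · have : j = n - (m + 1) := by omega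
          subst this
          exact h2
      exact (H.mul_mem_cancel_left hH).1 h3
  exact key n le_rfl g (by intro j hj; omega)

/-- Data identifying `ι → ZMod 2` with even weight vectors of length `n` modulo the all-one vector. -/
structure Data (n : ℕ) (ι : Type) [Fintype ι] [DecidableEq ι] where
  B : Matrix (Fin n) ι (ZMod 2)
  C : Matrix ι (Fin n) (ZMod 2)
  lam : Fin n → ZMod 2
  mu : Fin n → ZMod 2
  hCB : C * B = 1
  hC1 : C *ᵥ 1 = 0
  h1B : (1 : Fin n → ZMod 2) ᵥ* B = 0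
  hBC : B * C = 1 + vecMulVec 1 lam + vecMulVec mu 1

variable {n : ℕ} {ι : Type} [Fintype ι] [DecidableEq ι]

theorem sum_eq_dot (w : Fin n → ZMod 2) : ∑ i, w i = (1 : Fin n → ZMod 2) ⬝ᵥ w := by
  simp [dotProduct]

theorem Data.sum_B (D : Data n ι) (v : ι → ZMod 2) : ∑ i, (D.B *ᵥ v) i = 0 := by
  rw [sum_eq_dot, dotProduct_mulVec, D.h1B, zero_dotProduct]

theorem Data.key (D : Data n ι) (w : Fin n → ZMod 2) (hw : ∑ i, w i = 0)
    (σ : Equiv.Perm (Fin n)) :
    D.C *ᵥ ((D.B *ᵥ (D.C *ᵥ w)) ∘ σ) = D.C *ᵥ (w ∘ σ) := by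
  have h1 : D.B *ᵥ (D.C *ᵥ w) = w + (D.lam ⬝ᵥ w) • (1 : Fin n → ZMod 2) := by
    rw [mulVec_mulVec, D.hBC, add_mulVec, add_mulVec, one_mulVec, vecMulVec_mulVec,
      vecMulVec_mulVec, ← sum_eq_dot, hw]
    simp
  have h2 : (D.B *ᵥ (D.C *ᵥ w)) ∘ σ = w ∘ σ + (D.lam ⬝ᵥ w) • (1 : Fin n → ZMod 2) := by
    rw [h1]
    rfl
  rw [h2, mulVec_add, mulVec_smul, D.hC1, smul_zero, add_zero]

/-- The matrix of a permutation. -/
def Data.M (D : Data n ι) (σ : Equiv.Perm (Fin n)) : Matrix ι ι (ZMod 2) :=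
  D.C * (D.B.submatrix σ.symm id)

theorem Data.M_mulVec (D : Data n ι) (σ : Equiv.Perm (Fin n)) (v : ι → ZMod 2) :
    D.M σ *ᵥ v = D.C *ᵥ ((D.B *ᵥ v) ∘ σ.symm) := by
  rw [Data.M, ← mulVec_mulVec]
  rfl

theorem Data.C_B (D : Data n ι) (v : ι → ZMod 2) : D.C *ᵥ (D.B *ᵥ v) = v := by
  rw [mulVec_mulVec, D.hCB, one_mulVec]

theorem Data.M_C (D : Data n ι) (σ : Equiv.Perm (Fin n)) (w : Fin n → ZMod 2)
    (hw : ∑ i, w i = 0) : D.M σ *ᵥ (D.C *ᵥ w) = D.C *ᵥ (w ∘ σ.symm) := by
  rw [D.M_mulVec]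
  exact D.key w hw σ.symm

/-- The matrices of permutations form a homomorphism. -/
def Data.hom (D : Data n ι) : Equiv.Perm (Fin n) →* Matrix ι ι (ZMod 2) where
  toFun := D.M
  map_one' := by
    apply Matrix.mulVec_injective
    funext v
    rw [D.M_mulVec, one_mulVec]
    exact D.C_B v
  map_mul' σ τ := by
    apply Matrix.mulVec_injective
    funext v
    rw [← mulVec_mulVec, D.M_mulVec, D.M_mulVec, D.M_mulVec]
    have h0 : ∑ i, ((D.B *ᵥ v) ∘ τ.symm) i = 0 := by
      rw [← D.sum_B v]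
      exact Equiv.sum_comp τ.symm (D.B *ᵥ v)
    rw [D.key _ h0 σ.symm]
    rfl

/-- Half of the weight, modulo two. -/
def halfWt (w : Fin n → ZMod 2) : ZMod 2 := (((∑ i, (w i).val) / 2 : ℕ) : ZMod 2)

theorem halfWt_comp (w : Fin n → ZMod 2) (σ : Equiv.Perm (Fin n)) :
    halfWt (w ∘ σ) = halfWt w := by
  have : ∑ i, ((w ∘ σ) i).val = ∑ i, (w i).val := Equiv.sum_comp σ (fun i => (w i).val)
  rw [halfWt, halfWt, this]

theorem Data.M_isometry (D : Data n ι) {Q : (ι → ZMod 2) → ZMod 2}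
    (hQ : ∀ w : Fin n → ZMod 2, ∑ i, w i = 0 → Q (D.C *ᵥ w) = halfWt w)
    (σ : Equiv.Perm (Fin n)) (v : ι → ZMod 2) : Q (D.M σ *ᵥ v) = Q v := by
  have h0 : ∑ i, ((D.B *ᵥ v) ∘ σ.symm) i = 0 := by
    rw [← D.sum_B v]
    exact Equiv.sum_comp σ.symm (D.B *ᵥ v)
  rw [D.M_mulVec, hQ _ h0, halfWt_comp, ← hQ _ (D.sum_B v), D.C_B]

/-- The homomorphism to the isometry group. -/
def Data.isoHom (D : Data n ι) {Q : (ι → ZMod 2) → ZMod 2}
    (hQ : ∀ w : Fin n → ZMod 2, ∑ i, w i = 0 → Q (D.C *ᵥ w) = halfWt w) :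
    Equiv.Perm (Fin n) →* isometryGroup (ZMod 2) Q :=
  (D.hom.toHomUnits).codRestrict (isometryGroup (ZMod 2) Q)
    (fun σ => mem_isometryGroup_iff.2 (fun u => D.M_isometry hQ σ u))

theorem Data.isoHom_coe (D : Data n ι) {Q : (ι → ZMod 2) → ZMod 2}
    (hQ : ∀ w : Fin n → ZMod 2, ∑ i, w i = 0 → Q (D.C *ᵥ w) = halfWt w)
    (σ : Equiv.Perm (Fin n)) :
    (((D.isoHom hQ σ : isometryGroup (ZMod 2) Q) : Matrix.GeneralLinearGroup ι (ZMod 2)) :
      Matrix ι ι (ZMod 2)) = D.M σ := rfl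

/-- The vector attached to a pair of letters. -/
def Data.p (D : Data n ι) (i j : Fin n) : ι → ZMod 2 := fun k => D.C k i + D.C k j

theorem Data.p_eq (D : Data n ι) (i j : Fin n) :
    D.p i j = D.C *ᵥ (Pi.single i 1 + Pi.single j 1) := by
  rw [mulVec_add, mulVec_single_one, mulVec_single_one]
  rfl

theorem Data.M_p (D : Data n ι) (σ : Equiv.Perm (Fin n)) (i j : Fin n) :
    D.M σ *ᵥ (D.p i j) = D.p (σ i) (σ j) := by
  rw [D.p_eq, D.p_eq, D.M_C]
  · congr 1
    funext k
    simp only [Function.comp, Pi.add_apply, Pi.single_apply]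
    congr 1
    · simp only [Equiv.symm_apply_eq]
    · simp only [Equiv.symm_apply_eq]
  · simp only [Pi.add_apply, Finset.sum_add_distrib]
    simp
    decide

/-- The criterion. -/
theorem Data.nonempty_equiv (D : Data n ι) {Q : (ι → ZMod 2) → ZMod 2}
    (hQ : ∀ w : Fin n → ZMod 2, ∑ i, w i = 0 → Q (D.C *ᵥ w) = halfWt w)
    (hinj : ∀ i j k l : Fin n, i ≠ j → D.p i j = D.p k l → (k = i ∨ k = j))
    (hn3 : ∀ i : Fin n, ∃ j k : Fin n, i ≠ j ∧ i ≠ k ∧ j ≠ k)
    (b : ℕ → (ι → ZMod 2)) (m : ℕ)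
    (hspan : ∀ M : Matrix ι ι (ZMod 2), (∀ j < m, M *ᵥ (b j) = b j) → M = 1)
    (hs : ∀ k < m, ∀ x : ι → ZMod 2, Q x = Q (b k) → (∀ j < k, Q (x + b j) = Q (b k + b j)) →
      (∀ i < k, ∀ j < k, x = b i + b j → b k = b i + b j) →
      ∃ s t : Equiv.Perm (Fin n), (∀ j < k, D.M s *ᵥ (D.M t *ᵥ (b j)) = b j) ∧
        D.M s *ᵥ (D.M t *ᵥ x) = b k) :
    Nonempty (isometryGroup (ZMod 2) Q ≃* Equiv.Perm (Fin n)) := by
  have hbij : Function.Bijective (D.isoHom hQ) := by
    constructor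
    · rw [injective_iff_map_eq_one]
      intro σ hσ
      have hM : D.M σ = 1 := by
        rw [← D.isoHom_coe hQ σ, hσ]
        rfl
      have hp : ∀ i j, D.p i j = D.p (σ i) (σ j) := by
        intro i j
        rw [← D.M_p, hM, one_mulVec]
      ext1 i
      obtain ⟨j, k, hij, hik, hjk⟩ := hn3 i
      have h1 := hinj i j (σ i) (σ j) hij (hp i j)
      have h2 := hinj i k (σ i) (σ k) hik (hp i k)
      rw [Equiv.Perm.one_apply]
      rcases h1 with h1 | h1
      · exact h1
      · rcases h2 with h2 | h2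
        · exact h2
        · exact absurd (h1.symm.trans h2) hjk
    · intro g
      have hg : g ∈ (D.isoHom hQ).range := by
        refine chain (fun (g : isometryGroup (ZMod 2) Q) v =>
          ((g : Matrix.GeneralLinearGroup ι (ZMod 2)) : Matrix ι ι (ZMod 2)) *ᵥ v) ?_
          (D.isoHom hQ).range b m ?_ ?_ g
        · intro g h v
          simp only [Subgroup.coe_mul, Units.val_mul, mulVec_mulVec]
        · intro g hg
          have : g = 1 := by
            apply Subtype.ext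
            apply Units.ext
            exact hspan _ hg
          rw [this]
          exact one_mem _
        · intro k hk g hg
          have hgQ := mem_isometryGroup_iff.1 g.2
          have hinjg : ∀ u v : ι → ZMod 2,
              ((g : Matrix.GeneralLinearGroup ι (ZMod 2)) : Matrix ι ι (ZMod 2)) *ᵥ u =
              ((g : Matrix.GeneralLinearGroup ι (ZMod 2)) : Matrix ι ι (ZMod 2)) *ᵥ v → u = v := by
            intro u v huv
            have := congrArg (fun z => ((g⁻¹ : Matrix.GeneralLinearGroup ι (ZMod 2)) :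
              Matrix ι ι (ZMod 2)) *ᵥ z) huv
            simpa [mulVec_mulVec, ← Units.val_mul] using this
          obtain ⟨s, t, h1, h2⟩ := hs k hk
            (((g : Matrix.GeneralLinearGroup ι (ZMod 2)) : Matrix ι ι (ZMod 2)) *ᵥ b k)
            (hgQ _) (by
              intro j hj
              have h3 := hgQ (b k + b j)
              rw [mulVec_add] at h3
              have h4 := hg j hj
              rw [h4] at h3
              exact h3) (by
              intro i hi j hj hij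
              apply hinjg
              have h4 := hg i hi
              have h5 := hg j hj
              rw [hij, mulVec_add, h4, h5])
          refine ⟨D.isoHom hQ (s * t), ⟨_, rfl⟩, ?_, ?_⟩
          · intro j hj
            simp only [map_mul, Subgroup.coe_mul, Units.val_mul, ← mulVec_mulVec]
            exact h1 j hj
          · simp only [map_mul, Subgroup.coe_mul, Units.val_mul, ← mulVec_mulVec]
            exact h2
      exact hg
  exact ⟨(MulEquiv.ofBijective _ hbij).symm⟩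

/-- The criterion with decidable hypotheses: the base is `p 0 (j+1)` for `j < m`. -/
theorem Data.nonempty_equiv_of_decide {n : ℕ} (D : Data (n + 3) ι) {Q : (ι → ZMod 2) → ZMod 2}
    (hQ : ∀ w : Fin (n + 3) → ZMod 2, ∑ i, w i = 0 → Q (D.C *ᵥ w) = halfWt w)
    (hinj : ∀ i j k l : Fin (n + 3), i ≠ j → D.p i j = D.p k l → (k = i ∨ k = j))
    (m : ℕ) (hR : (Matrix.of fun (i : ι) (j : Fin m) => D.p 0 (Fin.ofNat (n + 3) (j + 1)) i) *
      (D.B.submatrix (fun j : Fin m => Fin.ofNat (n + 3) (j + 1)) id) = 1)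
    (h1 : ∀ k : Fin m, Q (D.p 0 (Fin.ofNat (n + 3) (k + 1))) = 1)
    (hx : ∀ x : ι → ZMod 2, Q x = 1 → ∃ u v : Fin (n + 3), u ≠ v ∧ x = D.p u v)
    (hs : ∀ k : Fin m, ∀ u v : Fin (n + 3), u ≠ v →
      (∀ j < k, Q (D.p u v + D.p 0 (Fin.ofNat (n + 3) (j + 1))) =
        Q (D.p 0 (Fin.ofNat (n + 3) (k + 1)) + D.p 0 (Fin.ofNat (n + 3) (j + 1)))) →
      (∀ i < k, ∀ j < k,
        D.p u v = D.p 0 (Fin.ofNat (n + 3) (i + 1)) + D.p 0 (Fin.ofNat (n + 3) (j + 1)) →
        D.p 0 (Fin.ofNat (n + 3) (k + 1)) =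
          D.p 0 (Fin.ofNat (n + 3) (i + 1)) + D.p 0 (Fin.ofNat (n + 3) (j + 1))) →
      ∃ a c : Fin (n + 3),
        (∀ j < k, D.p (Equiv.swap (Fin.ofNat (n + 3) (k + 1)) c (Equiv.swap 0 a 0))
          (Equiv.swap (Fin.ofNat (n + 3) (k + 1)) c
            (Equiv.swap 0 a (Fin.ofNat (n + 3) (j + 1)))) =
            D.p 0 (Fin.ofNat (n + 3) (j + 1))) ∧
        D.p (Equiv.swap (Fin.ofNat (n + 3) (k + 1)) c (Equiv.swap 0 a u))
          (Equiv.swap (Fin.ofNat (n + 3) (k + 1)) c (Equiv.swap 0 a v)) =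
            D.p 0 (Fin.ofNat (n + 3) (k + 1))) :
    Nonempty (isometryGroup (ZMod 2) Q ≃* Equiv.Perm (Fin (n + 3))) := by
  refine D.nonempty_equiv hQ hinj ?_ (fun j => D.p 0 (Fin.ofNat (n + 3) (j + 1))) m ?_ ?_
  · intro i
    have h : 2 < Fintype.card (Fin (n + 3)) := by rw [Fintype.card_fin]; omega
    obtain ⟨a, b, c, hab, hac, hbc⟩ := Fintype.two_lt_card_iff.1 h
    by_cases h1 : i = a
    · subst h1; exact ⟨b, c, hab, hac, hbc⟩
    · by_cases h2 : i = b
      · subst h2; exact ⟨a, c, h1, hbc, hac⟩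
      · exact ⟨a, b, h1, h2, hab⟩
  · intro M hM
    set P : Matrix ι (Fin m) (ZMod 2) :=
      Matrix.of fun (i : ι) (j : Fin m) => D.p 0 (Fin.ofNat (n + 3) (j + 1)) i with hP
    have hMP : M * P = P := by
      ext i j
      exact congrFun (hM j j.2) i
    calc M = M * (P * (D.B.submatrix (fun j : Fin m => Fin.ofNat (n + 3) (j + 1)) id)) := by
          rw [hR, mul_one]
      _ = 1 := by rw [← Matrix.mul_assoc, hMP, hR]
  · intro k hk x hQx hpol hind
    have h1k : Q (D.p 0 (Fin.ofNat (n + 3) (k + 1))) = 1 := h1 ⟨k, hk⟩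
    have hQx : Q x = 1 := Eq.trans hQx h1k
    obtain ⟨u, v, huv, rfl⟩ := hx x hQx
    obtain ⟨a, c, h2, h3⟩ := hs ⟨k, hk⟩ u v huv (fun j hj => hpol j hj)
      (fun i hi j hj h => hind i hi j hj h)
    refine ⟨Equiv.swap (Fin.ofNat (n + 3) (k + 1)) c, Equiv.swap 0 a, ?_, ?_⟩
    · intro j hj
      simp only [D.M_p]
      exact h2 ⟨j, hj.trans hk⟩ hj
    · simp only [D.M_p]
      exact h3

end Cfsg.Agent.ClassicalGeometry.SymModel
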